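import Groth.Agent.Lib.GrpdQuot.Points
import Mathlib.AlgebraicGeometry.Morphisms.UniversallyOpen
import Mathlib.RingTheory.Ideal.MinimalPrime.Localization
import Mathlib.RingTheory.Spectrum.Prime.Topology

/-!
Closures of saturations of closed sets for quasi-compact flat groupoids.
-/

universe u

open CategoryTheory CategoryTheory.Limits AlgebraicGeometry

namespace GrothLib.GrpdQuot

theorem exists_specializes_of_mem_closure_comap {A B : Type u} [CommRing A] [CommRing B]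
    (f : A →+* B) (Z : Set (PrimeSpectrum B)) (hZ : IsClosed Z) (p : PrimeSpectrum A)
    (hp : p ∈ closure (PrimeSpectrum.comap f '' Z)) : ∃ z ∈ Z, PrimeSpectrum.comap f z ⤳ p := by
  obtain ⟨I, rfl⟩ := (PrimeSpectrum.isClosed_iff_zeroLocus_ideal Z).mp hZ
  rw [PrimeSpectrum.closure_image_comap_zeroLocus] at hp
  obtain ⟨q, hq, hqp⟩ := Ideal.exists_minimalPrimes_le (I := I.comap f) (J := p.asIdeal) hp
  obtain ⟨P, hP, hIP, hPq⟩ := Ideal.exists_comap_eq_of_mem_minimalPrimes f q hq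
  refine ⟨⟨P, hP⟩, hIP, ?_⟩
  rw [← PrimeSpectrum.le_iff_specializes]
  exact hPq.le.trans hqp

/-- The closure of the image of a closed set under a quasi-compact morphism consists of
specializations of points of the image. -/
theorem exists_specializes_of_mem_closure {X Y : Scheme.{u}} (f : X ⟶ Y) [QuasiCompact f]
    (Z : Set X) (hZ : IsClosed Z) (y : Y) (hy : y ∈ closure (f '' Z)) :
    ∃ z ∈ Z, f z ⤳ y := by
  obtain ⟨V, hV, hyV⟩ : ∃ V : Y.Opens, IsAffineOpen V ∧ y ∈ V := by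
    obtain ⟨_, ⟨V, hV, rfl⟩, hyV, -⟩ :=
      Y.isBasis_affineOpens.exists_subset_of_mem_open (Set.mem_univ y) isOpen_univ
    exact ⟨V, hV, hyV⟩
  haveI : IsAffine V.toScheme := hV
  haveI : CompactSpace (f ⁻¹ᵁ V).toScheme := QuasiCompact.compactSpace_of_compactSpace (f ∣_ V)
  obtain ⟨B, g, hg⟩ := compactSpace_iff_exists.mp ‹CompactSpace (f ⁻¹ᵁ V).toScheme›
  obtain ⟨φ, hφ⟩ : ∃ φ, Spec.map φ = g ≫ (f ∣_ V) ≫ V.toScheme.isoSpec.hom :=
    Spec.map_surjective _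
  let h : (f ⁻¹ᵁ V).toScheme ⟶ X := (f ⁻¹ᵁ V).ι
  have hval : ∀ b, f (h (g b)) = V.ι (V.toScheme.isoSpec.inv (Spec.map φ b)) := fun b => by
    rw [hφ]
    simp only [← Scheme.Hom.comp_apply, Category.assoc, Iso.hom_inv_id_assoc, h, morphismRestrict_ι]
  let Z' : Set (Spec B) := g ⁻¹' (h ⁻¹' Z)
  have hZ' : IsClosed Z' := (hZ.preimage h.continuous).preimage g.continuous
  let y' : Spec Γ(V.toScheme, ⊤) := V.toScheme.isoSpec.hom ⟨y, hyV⟩
  have hy' : V.ι (V.toScheme.isoSpec.inv y') = y := by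
    change V.ι (V.toScheme.isoSpec.inv (V.toScheme.isoSpec.hom ⟨y, hyV⟩)) = y
    exact (congrArg V.ι ((Scheme.Hom.comp_apply V.toScheme.isoSpec.hom V.toScheme.isoSpec.inv
      (⟨y, hyV⟩ : V.toScheme)).symm.trans
      (congrArg (fun q : V.toScheme ⟶ V.toScheme => q (⟨y, hyV⟩ : V.toScheme))
        V.toScheme.isoSpec.hom_inv_id))).trans rfl
  have hmem : y' ∈ closure (Spec.map φ '' Z') := by
    have hemb := (V.toScheme.isoSpec.inv ≫ V.ι).isOpenEmbedding.isInducing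
    rw [hemb.closure_eq_preimage_closure_image, Set.mem_preimage, Scheme.Hom.comp_apply, hy']
    refine closure_mono ?_ (V.2.inter_closure ⟨hyV, hy⟩)
    rintro _ ⟨hv, z, hz, rfl⟩
    obtain ⟨b, hb⟩ := hg ⟨z, hv⟩
    have hbz : h (g b) = z := by rw [hb]; rfl
    refine ⟨_, ⟨b, show h (g b) ∈ Z from hbz.symm ▸ hz, rfl⟩, ?_⟩
    rw [Scheme.Hom.comp_apply, ← hval, hbz]
  obtain ⟨b, hb, hspec⟩ := exists_specializes_of_mem_closure_comap φ.hom Z' hZ' y' hmem
  refine ⟨h (g b), hb, ?_⟩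
  refine (hval b).symm ▸ hy' ▸ ?_
  exact (hspec.map V.toScheme.isoSpec.inv.continuous).map V.ι.continuous

variable {S : Scheme.{u}} (G : Grpd.GroupoidScheme S)

theorem preimage_closure_sat [QuasiCompact G.s] [Flat G.s] [QuasiCompact G.t] [Flat G.t]
    (C : Set G.U) (hC : IsClosed C) :
    ⇑G.s ⁻¹' closure (sat G C) = ⇑G.t ⁻¹' closure (sat G C) := by
  have key : ∀ (a b : G.R ⟶ G.U), Flat a → ⇑a ⁻¹' sat G C = ⇑b ⁻¹' sat G C →
      ⇑a ⁻¹' closure (sat G C) ⊆ ⇑b ⁻¹' closure (sat G C) := by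
    intro a b ha hab r hr
    obtain ⟨z, hz, hzr⟩ := exists_specializes_of_mem_closure G.t (⇑G.s ⁻¹' C)
      (hC.preimage G.s.continuous) (a r) hr
    obtain ⟨r', hr', hr'z⟩ := (Flat.generalizingMap a) hzr
    have h1 : r' ∈ ⇑a ⁻¹' sat G C := show a r' ∈ sat G C from hr'z ▸ ⟨z, hz, rfl⟩
    rw [hab] at h1
    exact (hr'.map b.continuous).mem_closed isClosed_closure (subset_closure h1)
  exact (key G.s G.t inferInstance (preimage_sat G C)).antisymm
    (key G.t G.s inferInstance (preimage_sat G C).symm)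

theorem exists_invariant_open_between [QuasiCompact G.s] [Flat G.s] [QuasiCompact G.t] [Flat G.t]
    (W : G.U.Opens) (W' : G.U.Opens) (h : sat G (W : Set G.U) ⊆ W') :
    ∃ V : G.U.Opens, G.s ⁻¹ᵁ V = G.t ⁻¹ᵁ V ∧ W ≤ V ∧ V ≤ W' := by
  refine ⟨⟨(closure (sat G (W' : Set G.U)ᶜ))ᶜ, isClosed_closure.isOpen_compl⟩, ?_, ?_, ?_⟩
  · ext r
    exact not_congr (Set.ext_iff.mp (preimage_closure_sat G _ W'.2.isClosed_compl) r)
  · intro w hw hwc
    obtain ⟨z, hz, hzw⟩ := exists_specializes_of_mem_closure G.t _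
      (W'.2.isClosed_compl.preimage G.s.continuous) w hwc
    obtain ⟨r, hrt, hrs⟩ := exists_inv_pt G z
    exact hz (h ⟨r, show G.s r ∈ W from hrs ▸ hzw.mem_open W.2 hw, hrt⟩)
  · intro x hx
    by_contra hxW'
    exact hx (subset_closure (subset_sat G _ hxW'))

end GrothLib.GrpdQuot
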