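import Groth.Agent.Lib.GrpdQuot.Points

/-!
Groupoid schemes from equivalence relations, and some arithmetic in groupoid schemes.
-/

universe u

open CategoryTheory CategoryTheory.Limits AlgebraicGeometry

namespace GrothLib.GrpdQuot

open GrothLib.GrpSchField (cmp cmp_congr comp_cmp)

noncomputable section

variable {S : Scheme.{u}}

theorem hcmp_fst {U R P : Scheme.{u}} {s t : R ⟶ U} {c : pullback s t ⟶ R} (f : R ⟶ U)
    (hc : c ≫ f = pullback.fst s t ≫ f) (α β : P ⟶ R) (h : α ≫ s = β ≫ t) :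
    (pullback.lift α β h ≫ c) ≫ f = α ≫ f := by
  rw [Category.assoc, hc, pullback.lift_fst_assoc]

theorem hcmp_snd {U R P : Scheme.{u}} {s t : R ⟶ U} {c : pullback s t ⟶ R} (f : R ⟶ U)
    (hc : c ≫ f = pullback.snd s t ≫ f) (α β : P ⟶ R) (h : α ≫ s = β ≫ t) :
    (pullback.lift α β h ≫ c) ≫ f = β ≫ f := by
  rw [Category.assoc, hc, pullback.lift_snd_assoc]

theorem hcomp₃ {U R P : Scheme.{u}} {e : U ⟶ R} (f g : R ⟶ U) (he : e ≫ g = 𝟙 U) (α : P ⟶ R) :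
    (α ≫ f ≫ e) ≫ g = α ≫ f := by
  simp only [Category.assoc, he, Category.comp_id]

/-- An equivalence relation as a groupoid scheme. -/
def ofEquivRel (U R : Scheme.{u}) (pU : U ⟶ S) (s t : R ⟶ U) (hst : t ≫ pU = s ≫ pU)
    (hmono : ∀ {T : Scheme.{u}} (a b : T ⟶ R), a ≫ t = b ≫ t → a ≫ s = b ≫ s → a = b)
    (he : ∃ e : U ⟶ R, e ≫ s = 𝟙 U ∧ e ≫ t = 𝟙 U)
    (hi : ∃ i : R ⟶ R, i ≫ s = t ∧ i ≫ t = s)
    (hc : ∃ c : pullback s t ⟶ R, c ≫ s = pullback.snd s t ≫ s ∧ c ≫ t = pullback.fst s t ≫ t) :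
    Grpd.GroupoidScheme S where
  U := U
  R := R
  pU := pU
  pR := s ≫ pU
  s := s
  t := t
  e := he.choose
  i := hi.choose
  c := hc.choose
  s_over := rfl
  t_over := hst
  comp_s α β h := hcmp_snd _ hc.choose_spec.1 α β h
  comp_t α β h := hcmp_fst _ hc.choose_spec.2 α β h
  assoc α β γ h₁ h₂ := hmono _ _
    (((hcmp_fst _ hc.choose_spec.2 _ _ _).trans (hcmp_fst _ hc.choose_spec.2 _ _ _)).trans
      (hcmp_fst _ hc.choose_spec.2 _ _ _).symm)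
    ((hcmp_snd _ hc.choose_spec.1 _ _ _).trans
      ((hcmp_snd _ hc.choose_spec.1 _ _ _).trans (hcmp_snd _ hc.choose_spec.1 _ _ _)).symm)
  e_s := he.choose_spec.1
  e_t := he.choose_spec.2
  comp_e α := hmono _ _ (hcmp_fst _ hc.choose_spec.2 _ _ _)
    ((hcmp_snd _ hc.choose_spec.1 _ _ _).trans (hcomp₃ _ _ he.choose_spec.1 α))
  e_comp α := hmono _ _ ((hcmp_fst _ hc.choose_spec.2 _ _ _).trans (hcomp₃ _ _ he.choose_spec.2 α))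
    (hcmp_snd _ hc.choose_spec.1 _ _ _)
  i_s := hi.choose_spec.1
  i_t := hi.choose_spec.2
  comp_i α := hmono _ _ ((hcmp_fst _ hc.choose_spec.2 _ _ _).trans (hcomp₃ _ _ he.choose_spec.2 α).symm)
    (((hcmp_snd _ hc.choose_spec.1 _ _ _).trans ((Category.assoc _ _ _).trans
      (congrArg (α ≫ ·) hi.choose_spec.1))).trans (hcomp₃ _ _ he.choose_spec.1 α).symm)
  i_comp α := hmono _ _ (((hcmp_fst _ hc.choose_spec.2 _ _ _).trans ((Category.assoc _ _ _).trans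
      (congrArg (α ≫ ·) hi.choose_spec.2))).trans (hcomp₃ _ _ he.choose_spec.2 α).symm)
    ((hcmp_snd _ hc.choose_spec.1 _ _ _).trans (hcomp₃ _ _ he.choose_spec.1 α).symm)

theorem mono_j_ofEquivRel (U R : Scheme.{u}) (pU : U ⟶ S) (s t : R ⟶ U) (hst : t ≫ pU = s ≫ pU)
    (hmono : ∀ {T : Scheme.{u}} (a b : T ⟶ R), a ≫ t = b ≫ t → a ≫ s = b ≫ s → a = b) (he) (hi) (hc) :
    Mono (ofEquivRel U R pU s t hst hmono he hi hc).j := by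
  constructor
  intro Z a b hab
  exact hmono a b
    (((congrArg (a ≫ ·) (pullback.lift_fst _ _ _)).symm.trans ((Category.assoc _ _ _).symm.trans
      ((congrArg (· ≫ pullback.fst pU pU) hab).trans (Category.assoc _ _ _)))).trans
      (congrArg (b ≫ ·) (pullback.lift_fst _ _ _)))
    (((congrArg (a ≫ ·) (pullback.lift_snd _ _ _)).symm.trans ((Category.assoc _ _ _).symm.trans
      ((congrArg (· ≫ pullback.snd pU pU) hab).trans (Category.assoc _ _ _)))).trans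
      (congrArg (b ≫ ·) (pullback.lift_snd _ _ _)))

variable (G : Grpd.GroupoidScheme S) {T : Scheme.{u}}

theorem cmp_assoc (α β γ : T ⟶ G.R) (h₁ : α ≫ G.s = β ≫ G.t) (h₂ : β ≫ G.s = γ ≫ G.t) :
    cmp G (cmp G α β h₁) γ ((G.comp_s α β h₁).trans h₂) =
      cmp G α (cmp G β γ h₂) (h₁.trans (G.comp_t β γ h₂).symm) :=
  G.assoc α β γ h₁ h₂

theorem cmp_eq_right {α β : T ⟶ G.R} (h : α ≫ G.s = β ≫ G.t) (hα : α = β ≫ G.t ≫ G.e) :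
    cmp G α β h = β :=
  (cmp_congr G h hα rfl).trans (G.e_comp β)

theorem cmp_eq_left {α β : T ⟶ G.R} (h : α ≫ G.s = β ≫ G.t) (hβ : β = α ≫ G.s ≫ G.e) :
    cmp G α β h = α :=
  (cmp_congr G h rfl hβ).trans (G.comp_e α)

/-- `α r β`. -/
abbrev tri (α r β : T ⟶ G.R) (h₁ : α ≫ G.s = r ≫ G.t) (h₂ : r ≫ G.s = β ≫ G.t) : T ⟶ G.R :=
  cmp G (cmp G α r h₁) β ((G.comp_s α r h₁).trans h₂)

theorem tri_t (α r β : T ⟶ G.R) (h₁ : α ≫ G.s = r ≫ G.t) (h₂ : r ≫ G.s = β ≫ G.t) :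
    tri G α r β h₁ h₂ ≫ G.t = α ≫ G.t :=
  (cmp_t G _ _ _).trans (cmp_t G _ _ _)

theorem tri_s (α r β : T ⟶ G.R) (h₁ : α ≫ G.s = r ≫ G.t) (h₂ : r ≫ G.s = β ≫ G.t) :
    tri G α r β h₁ h₂ ≫ G.s = β ≫ G.s :=
  cmp_s G _ _ _

theorem comp_tri {T' : Scheme.{u}} (f : T' ⟶ T) (α r β : T ⟶ G.R) (h₁ : α ≫ G.s = r ≫ G.t)
    (h₂ : r ≫ G.s = β ≫ G.t) :
    f ≫ tri G α r β h₁ h₂ = tri G (f ≫ α) (f ≫ r) (f ≫ β)
      (by rw [Category.assoc, Category.assoc, h₁]) (by rw [Category.assoc, Category.assoc, h₂]) := by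
  rw [tri, comp_cmp]
  exact cmp_congr G _ (comp_cmp G f α r h₁) rfl

theorem tri_congr {α α' r r' β β' : T ⟶ G.R} (h₁ : α ≫ G.s = r ≫ G.t) (h₂ : r ≫ G.s = β ≫ G.t)
    (e₁ : α = α') (e₂ : r = r') (e₃ : β = β') :
    tri G α r β h₁ h₂ = tri G α' r' β' (by rw [← e₁, ← e₂, h₁]) (by rw [← e₂, ← e₃, h₂]) := by
  subst e₁ e₂ e₃; rfl

theorem tri_e (α r β : T ⟶ G.R) (h₁ : α ≫ G.s = r ≫ G.t) (h₂ : r ≫ G.s = β ≫ G.t)
    (hα : α = r ≫ G.t ≫ G.e) (hβ : β = r ≫ G.s ≫ G.e) : tri G α r β h₁ h₂ = r :=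
  (cmp_eq_left G _ (hβ.trans (by rw [← Category.assoc, ← cmp_s G α r h₁, Category.assoc]))).trans
    (cmp_eq_right G _ hα)

theorem tri_tri (α₁ α₂ r β₂ β₁ : T ⟶ G.R) (h₁ : α₂ ≫ G.s = r ≫ G.t) (h₂ : r ≫ G.s = β₂ ≫ G.t)
    (hα : α₁ ≫ G.s = α₂ ≫ G.t) (hβ : β₂ ≫ G.s = β₁ ≫ G.t) :
    tri G α₁ (tri G α₂ r β₂ h₁ h₂) β₁ (hα.trans (tri_t G _ _ _ h₁ h₂).symm)
        ((tri_s G _ _ _ h₁ h₂).trans hβ) =
      tri G (cmp G α₁ α₂ hα) r (cmp G β₂ β₁ hβ) ((cmp_s G _ _ hα).trans h₁)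
        (h₂.trans (cmp_t G _ _ hβ).symm) := by
  have e₁ : cmp G α₁ (tri G α₂ r β₂ h₁ h₂) (hα.trans (tri_t G _ _ _ h₁ h₂).symm) =
      cmp G (cmp G (cmp G α₁ α₂ hα) r ((cmp_s G _ _ hα).trans h₁)) β₂
        ((cmp_s G _ _ _).trans h₂) := by
    refine (cmp_assoc G α₁ (cmp G α₂ r h₁) β₂ (hα.trans (cmp_t G _ _ _).symm)
      ((cmp_s G _ _ _).trans h₂)).symm.trans ?_
    exact cmp_congr G _ (cmp_assoc G α₁ α₂ r hα h₁).symm rfl
  refine (cmp_congr G _ e₁ rfl).trans ?_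
  exact cmp_assoc G (cmp G (cmp G α₁ α₂ hα) r ((cmp_s G _ _ hα).trans h₁)) β₂ β₁
    ((cmp_s G _ _ _).trans h₂) hβ

end

end GrothLib.GrpdQuot
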