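import Groth.Prelude.Def_Grpd
import Groth.Agent.Lib.GrpSchField.GrpdField
import Mathlib.Topology.Sets.Opens

/-!
Elementary identities between points of groupoid schemes and saturation of subsets.
-/

universe u

open CategoryTheory CategoryTheory.Limits AlgebraicGeometry

namespace GrothLib.GrpdQuot

open GrothLib.GrpSchField (cmp cmp_congr comp_cmp)

variable {S : Scheme.{u}} (G : Grpd.GroupoidScheme S) {T : Scheme.{u}}

/-- `α (α⁻¹ β) = β`. -/
theorem cmp_inv_left (α β : T ⟶ G.R) (h : (α ≫ G.i) ≫ G.s = β ≫ G.t)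
    (h' : α ≫ G.s = cmp G (α ≫ G.i) β h ≫ G.t) : cmp G α (cmp G (α ≫ G.i) β h) h' = β := by
  have h₁ : α ≫ G.s = (α ≫ G.i) ≫ G.t := by rw [Category.assoc, G.i_t]
  show pullback.lift α (pullback.lift (α ≫ G.i) β h ≫ G.c) _ ≫ G.c = β
  rw [← G.assoc α (α ≫ G.i) β h₁ h]
  refine (cmp_congr G ((G.comp_s _ _ h₁).trans h) ((G.comp_i α).trans ?_) rfl).trans (G.e_comp β)
  rw [← Category.assoc, show α ≫ G.t = β ≫ G.t by rw [← h, Category.assoc, G.i_s], Category.assoc]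

/-- `α⁻¹ (α β) = β`. -/
theorem cmp_inv_left' (α β : T ⟶ G.R) (h : α ≫ G.s = β ≫ G.t)
    (h' : (α ≫ G.i) ≫ G.s = cmp G α β h ≫ G.t) : cmp G (α ≫ G.i) (cmp G α β h) h' = β := by
  have h₁ : (α ≫ G.i) ≫ G.s = α ≫ G.t := by rw [Category.assoc, G.i_s]
  show pullback.lift (α ≫ G.i) (pullback.lift α β h ≫ G.c) _ ≫ G.c = β
  rw [← G.assoc (α ≫ G.i) α β h₁ h]
  refine (cmp_congr G ((G.comp_s _ _ h₁).trans h) ((G.i_comp α).trans ?_) rfl).trans (G.e_comp β)
  rw [← Category.assoc, h, Category.assoc]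

theorem cmp_s (α β : T ⟶ G.R) (h : α ≫ G.s = β ≫ G.t) : cmp G α β h ≫ G.s = β ≫ G.s :=
  G.comp_s α β h

theorem cmp_t (α β : T ⟶ G.R) (h : α ≫ G.s = β ≫ G.t) : cmp G α β h ≫ G.t = α ≫ G.t :=
  G.comp_t α β h

/-- Saturation of a set of objects. -/
def sat (W : Set G.U) : Set G.U := ⇑G.t '' (⇑G.s ⁻¹' W)

theorem subset_sat (W : Set G.U) : W ⊆ sat G W := fun x hx => by
  refine ⟨G.e x, ?_, ?_⟩
  · rw [Set.mem_preimage, ← Scheme.Hom.comp_apply, G.e_s]; exact hx
  · rw [← Scheme.Hom.comp_apply, G.e_t]; rfl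

theorem exists_comp_pt {a b : G.R} (h : G.s a = G.t b) :
    ∃ r : G.R, G.t r = G.t a ∧ G.s r = G.s b := by
  obtain ⟨p, hp₁, hp₂⟩ := Scheme.Pullback.exists_preimage_pullback a b h
  refine ⟨G.c p, ?_, ?_⟩
  · rw [← hp₁, ← Scheme.Hom.comp_apply, ← Scheme.Hom.comp_apply]
    congr 1
    have := G.comp_t (pullback.fst G.s G.t) (pullback.snd G.s G.t) pullback.condition
    rw [show pullback.lift (pullback.fst G.s G.t) (pullback.snd G.s G.t) pullback.condition = 𝟙 _ from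
      pullback.hom_ext (by rw [pullback.lift_fst, Category.id_comp]) (by rw [pullback.lift_snd, Category.id_comp]),
      Category.id_comp] at this
    rw [this]
  · rw [← hp₂, ← Scheme.Hom.comp_apply, ← Scheme.Hom.comp_apply]
    congr 1
    have := G.comp_s (pullback.fst G.s G.t) (pullback.snd G.s G.t) pullback.condition
    rw [show pullback.lift (pullback.fst G.s G.t) (pullback.snd G.s G.t) pullback.condition = 𝟙 _ from
      pullback.hom_ext (by rw [pullback.lift_fst, Category.id_comp]) (by rw [pullback.lift_snd, Category.id_comp]),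
      Category.id_comp] at this
    rw [this]

theorem exists_inv_pt (r : G.R) : ∃ r' : G.R, G.t r' = G.s r ∧ G.s r' = G.t r :=
  ⟨G.i r, by rw [← Scheme.Hom.comp_apply, G.i_t], by rw [← Scheme.Hom.comp_apply, G.i_s]⟩

theorem preimage_sat (W : Set G.U) : ⇑G.s ⁻¹' sat G W = ⇑G.t ⁻¹' sat G W := by
  ext r
  constructor
  · rintro ⟨a, ha, hat⟩
    obtain ⟨q, hqt, hqs⟩ := exists_comp_pt G (a := r) (b := a) hat.symm
    exact ⟨q, show G.s q ∈ W from hqs ▸ ha, hqt⟩
  · rintro ⟨a, ha, hat⟩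
    obtain ⟨r', hr't, hr's⟩ := exists_inv_pt G r
    obtain ⟨q, hqt, hqs⟩ := exists_comp_pt G (a := r') (b := a) (hr's.trans hat.symm)
    exact ⟨q, show G.s q ∈ W from hqs ▸ ha, hqt.trans hr't⟩

theorem sat_eq_of_invariant (W : Set G.U) (hW : ⇑G.s ⁻¹' W = ⇑G.t ⁻¹' W) : sat G W = W := by
  refine (Set.image_subset_iff.mpr ?_).antisymm (subset_sat G W)
  rw [hW]

end GrothLib.GrpdQuot
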