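import Groth.Agent.Lib.GrpdQuot.Norm
import Groth.Agent.Lib.GrpdQuot.Points
import Groth.Agent.Lib.FibreFlat.OpenScheme
import Mathlib.AlgebraicGeometry.Morphisms.QuasiFinite
import Mathlib.RingTheory.KrullDimension.Zero
import Mathlib.RingTheory.Ideal.Quotient.Nilpotent
import Mathlib.AlgebraicGeometry.Morphisms.Immersion

/-!
Invariant affine basic opens around finitely many generic points for groupoids with finite, finitely
presented source map.
-/

universe u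

open CategoryTheory CategoryTheory.Limits AlgebraicGeometry

namespace GrothLib.GrpdQuot

theorem flat_of_isField {A B : Type u} [CommRing A] [CommRing B] (hA : IsField A) (f : A →+* B) :
    f.Flat := by
  letI := hA.toField
  letI := f.toAlgebra
  exact (inferInstance : Module.Flat A B)

theorem isField_stalk_of_generic {X : Scheme.{u}} [IsReduced X] (x : X)
    (hx : ∀ y : X, y ⤳ x → y = x) : IsField (X.presheaf.stalk x) := by
  haveI : Subsingleton (PrimeSpectrum (X.presheaf.stalk x)) := ⟨fun p q => by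
    apply (X.fromSpecStalk x).isEmbedding.injective
    have hp : X.fromSpecStalk x p ∈ Set.range (X.fromSpecStalk x) := ⟨p, rfl⟩
    have hq : X.fromSpecStalk x q ∈ Set.range (X.fromSpecStalk x) := ⟨q, rfl⟩
    rw [Scheme.range_fromSpecStalk] at hp hq
    exact (hx _ hp).trans (hx _ hq).symm⟩
  haveI : Ring.KrullDimLE 0 (X.presheaf.stalk x) := by
    rw [Ring.krullDimLE_zero_iff]
    intro I hI
    have h : (⟨I, hI⟩ : PrimeSpectrum (X.presheaf.stalk x)) =
        ⟨IsLocalRing.maximalIdeal _, Ideal.IsMaximal.isPrime' _⟩ := Subsingleton.elim _ _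
    rw [show I = IsLocalRing.maximalIdeal _ from congrArg PrimeSpectrum.asIdeal h]
    exact IsLocalRing.maximalIdeal.isMaximal _
  exact Ring.KrullDimLE.isField_of_isReduced

theorem morphismRestrict_range {X Y : Scheme.{u}} (f : X ⟶ Y) (V : Y.Opens) :
    Set.range (f ∣_ V) = V.ι ⁻¹' Set.range f := by
  ext y
  constructor
  · rintro ⟨x, rfl⟩
    exact ⟨x.1, (morphismRestrict_base_coe f V x).symm⟩
  · rintro ⟨x, hx⟩
    exact ⟨⟨x, show f x ∈ V from hx ▸ y.2⟩, Subtype.ext ((morphismRestrict_base_coe f V _).trans hx)⟩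

set_option backward.isDefEq.respectTransparency.types false in
/-- The norm along a finite finitely presented morphism, near finitely many generic points. -/
theorem exists_open_norm {R U : Scheme.{u}} (s : R ⟶ U) [IsFinite s] [LocallyOfFinitePresentation s]
    (U₁ : U.Opens) (hU₁ : IsAffineOpen U₁) (E : Set U) (hfin : E.Finite) (hE₁ : E ⊆ U₁)
    (hE : ∀ e ∈ E, ∀ x, x ⤳ e → x = e) :
    ∃ W : U.Opens, W ≤ U₁ ∧ E ⊆ W ∧ ∀ V : U.Opens, V ≤ W → IsAffineOpen V → ∀ g : Γ(R, ⊤),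
      ∃ d : Γ(V.toScheme, ⊤), ∀ x : V.toScheme,
        x ∈ V.toScheme.basicOpen d ↔ ∀ r : R, s r = x.1 → r ∈ R.basicOpen g := by
  haveI : IsAffine U₁.toScheme := hU₁
  let N : Ideal Γ(U₁.toScheme, ⊤) := nilradical _
  haveI : _root_.IsReduced (Γ(U₁.toScheme, ⊤) ⧸ N) :=
    (Ideal.isRadical_iff_quotient_reduced N).mp (Ideal.radical_isRadical _)
  let c₁ : Spec (CommRingCat.of (Γ(U₁.toScheme, ⊤) ⧸ N)) ⟶ U₁.toScheme :=
    Spec.map (CommRingCat.ofHom (Ideal.Quotient.mk N)) ≫ U₁.toScheme.isoSpec.inv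
  haveI : IsClosedImmersion (Spec.map (CommRingCat.ofHom (Ideal.Quotient.mk N))) :=
    IsClosedImmersion.spec_of_surjective _ Ideal.Quotient.mk_surjective
  haveI : IsClosedImmersion c₁ := inferInstanceAs (IsClosedImmersion (_ ≫ _))
  have hsurj : Function.Surjective c₁ := by
    intro x
    let p := U₁.toScheme.isoSpec.hom x
    have hp : p ∈ Set.range (Spec.map (CommRingCat.ofHom (Ideal.Quotient.mk N))) := by
      change p ∈ Set.range (PrimeSpectrum.comap (Ideal.Quotient.mk N))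
      rw [range_comap_of_surjective _ _ Ideal.Quotient.mk_surjective, Ideal.mk_ker]
      haveI : p.asIdeal.IsPrime := p.2
      exact nilradical_le_prime p.asIdeal
    obtain ⟨z, hz⟩ := hp
    refine ⟨z, ?_⟩
    change (Spec.map (CommRingCat.ofHom (Ideal.Quotient.mk N)) ≫ U₁.toScheme.isoSpec.inv) z = x
    rw [Scheme.Hom.comp_apply, hz, ← Scheme.Hom.comp_apply, Iso.hom_inv_id]
    rfl
  let U₀ : Scheme.{u} := Spec (CommRingCat.of (Γ(U₁.toScheme, ⊤) ⧸ N))
  let c : U₀ ⟶ U := c₁ ≫ U₁.ι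
  have hc : ∀ x : U, x ∈ U₁ → ∃ z, c z = x := fun x hx => by
    obtain ⟨z, hz⟩ := hsurj ⟨x, hx⟩
    exact ⟨z, (Scheme.Hom.comp_apply _ _ _).trans (congrArg U₁.ι hz)⟩
  let s₀ : pullback s c ⟶ U₀ := pullback.snd s c
  let Φ : Set (pullback s c : Scheme.{u}) := {r | (s₀.stalkMap r).hom.Flat}
  have hΦ : IsOpen Φ := GrothLib.FibreFlat.isOpen_flat_stalkMap s₀
  have hcl : IsClosed (c₁ '' (s₀ '' Φᶜ)) :=
    c₁.isClosedEmbedding.isClosedMap _ (s₀.isClosedMap _ hΦ.isClosed_compl)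
  let W : U.Opens := ⟨U₁.ι '' (c₁ '' (s₀ '' Φᶜ))ᶜ, U₁.ι.isOpenEmbedding.isOpenMap _ hcl.isOpen_compl⟩
  have hWU : W ≤ U₁ := by
    rintro _ ⟨x, -, rfl⟩
    exact x.2
  refine ⟨W, hWU, fun e he => ⟨⟨e, hE₁ he⟩, ?_, rfl⟩, fun V hVW hV g => ?_⟩
  · rintro ⟨z, ⟨r, hr, rfl⟩, hz⟩
    apply hr
    apply flat_of_isField
    apply isField_stalk_of_generic
    intro y hy
    apply c₁.isClosedEmbedding.injective
    apply U₁.ι.isOpenEmbedding.injective
    have h1 : U₁.ι (c₁ (s₀ r)) = e := congrArg U₁.ι hz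
    rw [h1]
    refine hE e he _ ?_
    rw [← h1]
    exact (hy.map c₁.continuous).map U₁.ι.continuous
  · have hVU : V ≤ U₁ := hVW.trans hWU
    haveI : IsAffine V.toScheme := hV
    let V₀ : U₀.Opens := c ⁻¹ᵁ V
    have hV₀ : IsAffineOpen V₀ := by
      have h1 : IsAffineOpen (U₁.ι ⁻¹ᵁ V) := hV.preimage_of_isOpenImmersion U₁.ι
        (by rw [Scheme.Opens.opensRange_ι]; exact hVU)
      exact h1.preimage c₁
    haveI : IsAffine V₀.toScheme := hV₀
    haveI : IsAffine (s₀ ⁻¹ᵁ V₀).toScheme := hV₀.preimage s₀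
    let τ : (s₀ ⁻¹ᵁ V₀).toScheme ⟶ V₀.toScheme := s₀ ∣_ V₀
    haveI : IsFinite τ := MorphismProperty.of_isPullback (isPullback_morphismRestrict s₀ V₀).flip inferInstance
    haveI : LocallyOfFinitePresentation τ :=
      MorphismProperty.of_isPullback (isPullback_morphismRestrict s₀ V₀).flip inferInstance
    haveI : Flat τ := by
      apply Flat.of_stalkMap
      intro r
      have hr : r.1 ∈ Φ := by
        by_contra hr
        obtain ⟨x, hx, hxe⟩ := hVW (show c (s₀ r.1) ∈ V from r.2)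
        apply hx
        refine ⟨s₀ r.1, ⟨r.1, hr, rfl⟩, U₁.ι.isOpenEmbedding.injective ?_⟩
        exact ((Scheme.Hom.comp_apply c₁ U₁.ι (s₀ r.1)).symm).trans hxe.symm
      exact (RingHom.Flat.respectsIso.arrow_mk_iso_iff (morphismRestrictStalkMap s₀ V₀ r)).mpr hr
    let q : (s₀ ⁻¹ᵁ V₀).toScheme ⟶ R := (s₀ ⁻¹ᵁ V₀).ι ≫ pullback.fst s c
    obtain ⟨d₀, hd₀⟩ := exists_basicOpen_iff τ (q.appTop g)
    haveI : IsClosedImmersion (c ∣_ V) := by
      change IsClosedImmersion ((c₁ ≫ U₁.ι) ∣_ V)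
      rw [morphismRestrict_comp]
      have hA : IsClosedImmersion (c₁ ∣_ U₁.ι ⁻¹ᵁ V) :=
        MorphismProperty.of_isPullback (isPullback_morphismRestrict c₁ _).flip inferInstance
      have hB : IsClosedImmersion (U₁.ι ∣_ V) := .of_isPreimmersion _ (by
        rw [morphismRestrict_range, Scheme.Opens.range_ι]
        convert isClosed_univ
        exact Set.eq_univ_of_forall fun x => hVU x.2)
      exact @IsClosedImmersion.comp _ _ _ _ _ hA hB
    obtain ⟨d, hd⟩ := (c ∣_ V).app_surjective ⊤ (isAffineOpen_top _) d₀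
    refine ⟨d, fun x => ?_⟩
    obtain ⟨z, hz⟩ := hc x.1 (hVU x.2)
    let z' : V₀.toScheme := ⟨z, show c z ∈ V from hz ▸ x.2⟩
    have hzx : (c ∣_ V) z' = x := Subtype.ext ((morphismRestrict_base_coe c V z').trans hz)
    have h1 : x ∈ V.toScheme.basicOpen d ↔ z' ∈ V₀.toScheme.basicOpen d₀ := by
      rw [← hd, ← hzx]
      exact Iff.of_eq (congrArg (z' ∈ ·) (Scheme.preimage_basicOpen_top (c ∣_ V) d))
    have hq : ∀ r, r ∈ (s₀ ⁻¹ᵁ V₀).toScheme.basicOpen (q.appTop g) ↔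
        pullback.fst s c r.1 ∈ R.basicOpen g := fun r => by
      rw [← Scheme.preimage_basicOpen_top]
      rfl
    rw [h1, hd₀]
    constructor
    · intro h r hr
      obtain ⟨p, hp₁, hp₂⟩ := Scheme.Pullback.exists_preimage_pullback r z (hr.trans hz.symm)
      have hp : p ∈ s₀ ⁻¹ᵁ V₀ := show s₀ p ∈ V₀ from (show s₀ p = z from hp₂) ▸ z'.2
      have h2 := (hq _).mp (h ⟨p, hp⟩ (Subtype.ext ((morphismRestrict_base_coe s₀ V₀ _).trans hp₂)))
      rwa [← hp₁]
    · intro h r hr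
      rw [hq]
      apply h
      have h2 : s₀ r.1 = z := (morphismRestrict_base_coe s₀ V₀ r).symm.trans (congrArg Subtype.val hr)
      rw [← hz, ← h2, ← Scheme.Hom.comp_apply, pullback.condition, Scheme.Hom.comp_apply]

theorem exists_mem_avoid {A : Type u} [CommRing A] (K : Ideal A) (E : Finset (PrimeSpectrum A))
    (hE : ∀ p ∈ E, p ∉ PrimeSpectrum.zeroLocus (K : Set A)) :
    ∃ h ∈ K, ∀ p ∈ E, p ∈ PrimeSpectrum.basicOpen h := by
  rcases E.eq_empty_or_nonempty with rfl | ⟨p₀, -⟩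
  · exact ⟨0, K.zero_mem, fun p hp => absurd hp (Finset.notMem_empty p)⟩
  by_contra hcon
  push Not at hcon
  have hsub : (K : Set A) ⊆ ⋃ p ∈ (E : Set (PrimeSpectrum A)), (p.asIdeal : Set A) := by
    intro h hh
    obtain ⟨p, hp, hp'⟩ := hcon h hh
    exact Set.mem_biUnion hp (not_not.mp hp')
  obtain ⟨p, hp, hKp⟩ := (Ideal.subset_union_prime (R := A) (f := fun p : PrimeSpectrum A => p.asIdeal)
    (s := E) p₀ p₀ (fun p _ _ _ => p.2)).mp hsub
  exact hE p hp hKp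

theorem exists_invariant_basicOpen {S : Scheme.{u}} (G : Grpd.GroupoidScheme S) [IsFinite G.s]
    [LocallyOfFinitePresentation G.s] {A : Type u} [CommRing A]
    (j : G.U ⟶ Spec (CommRingCat.of A)) [IsImmersion j] (I : Ideal A)
    (hI : ∀ x : G.U, j x ∉ PrimeSpectrum.zeroLocus (I : Set A))
    (hcl : IsClosed (PrimeSpectrum.zeroLocus (I : Set A) ∪ Set.range j))
    (E : Set G.U) (hfin : E.Finite) (hgen : ∀ e ∈ E, ∀ x, x ⤳ e → x = e) (hinv : sat G E = E) :
    ∃ h ∈ I, IsAffineOpen (j ⁻¹ᵁ PrimeSpectrum.basicOpen h) ∧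
      E ⊆ j ⁻¹ᵁ PrimeSpectrum.basicOpen h ∧
      G.s ⁻¹ᵁ (j ⁻¹ᵁ PrimeSpectrum.basicOpen h) = G.t ⁻¹ᵁ (j ⁻¹ᵁ PrimeSpectrum.basicOpen h) := by
  classical
  let X := Spec (CommRingCat.of A)
  have hclosedImm : ∀ D : X.Opens, (D : Set X) ∩ PrimeSpectrum.zeroLocus (I : Set A) = ∅ →
      IsClosedImmersion (j ∣_ D) := fun D hD => .of_isPreimmersion _ (by
    rw [morphismRestrict_range]
    convert hcl.preimage D.ι.continuous using 1
    ext x
    refine ⟨fun hx => Or.inr hx, fun hx => hx.resolve_left fun hx' => ?_⟩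
    exact Set.eq_empty_iff_forall_notMem.mp hD x.1 ⟨x.2, hx'⟩)
  let Bo : A → X.Opens := fun h => PrimeSpectrum.basicOpen h
  have haff : ∀ h ∈ I, IsAffineOpen (j ⁻¹ᵁ Bo h) := fun h hh => by
    haveI : IsClosedImmersion (j ∣_ Bo h) :=
      hclosedImm _ (Set.eq_empty_iff_forall_notMem.mpr fun x hx => hx.1 (hx.2 hh))
    haveI : IsAffine (Bo h).toScheme := IsAffineOpen.Spec_basicOpen (R := CommRingCat.of A) h
    exact isAffine_of_isAffineHom (j ∣_ Bo h)
  let F : Finset (PrimeSpectrum A) := (hfin.image j).toFinset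
  have hF : ∀ p, p ∈ F ↔ ∃ e ∈ E, j e = p := fun p => (hfin.image j).mem_toFinset
  obtain ⟨h₁, hh₁, hh₁E⟩ := exists_mem_avoid I F fun p hp => by
    obtain ⟨e, -, rfl⟩ := (hF p).mp hp
    exact hI e
  let U₁ : G.U.Opens := j ⁻¹ᵁ Bo h₁
  obtain ⟨W, hWU, hEW, hnorm⟩ := exists_open_norm G.s U₁ (haff h₁ hh₁) E hfin
    (fun e he => hh₁E _ ((hF _).mpr ⟨e, he, rfl⟩)) hgen
  let Z : Set (PrimeSpectrum A) := closure (j '' (W : Set G.U)ᶜ)
  obtain ⟨h, hh, hhE⟩ := exists_mem_avoid (I ⊓ PrimeSpectrum.vanishingIdeal Z) F fun p hp hp' => by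
    obtain ⟨e, he, rfl⟩ := (hF p).mp hp
    rw [PrimeSpectrum.zeroLocus_inf, PrimeSpectrum.zeroLocus_vanishingIdeal_eq_closure,
      closure_closure] at hp'
    rcases hp' with hp' | hp'
    · exact hI e hp'
    · have h1 : e ∈ closure (W : Set G.U)ᶜ := by
        rw [j.isEmbedding.isInducing.closure_eq_preimage_closure_image]
        exact hp'
      rw [W.isOpen.isClosed_compl.closure_eq] at h1
      exact h1 (hEW he)
  let D : X.Opens := X.basicOpen ((Scheme.ΓSpecIso (CommRingCat.of A)).inv h)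
  have hD : D = Bo h := basicOpen_eq_of_affine (R := CommRingCat.of A) h
  let V : G.U.Opens := j ⁻¹ᵁ D
  have hmemD : ∀ p : X, p ∈ D ↔ h ∉ p.asIdeal := fun p => by rw [hD]; rfl
  have hVW : V ≤ W := fun x hx => by
    by_contra hxW
    exact (hmemD _).mp hx ((PrimeSpectrum.mem_vanishingIdeal Z h).mp hh.2 _
      (subset_closure ⟨x, hxW, rfl⟩))
  have hV : IsAffineOpen V := by
    have := haff h hh.1
    rwa [← hD] at this
  let hU : Γ(G.U, ⊤) := j.appTop ((Scheme.ΓSpecIso (CommRingCat.of A)).inv h)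
  have hbU : G.U.basicOpen hU = V := (Scheme.preimage_basicOpen_top j _).symm
  obtain ⟨d, hd⟩ := hnorm V hVW hV (G.t.appTop hU)
  have hT : ∀ r : G.R, r ∈ G.R.basicOpen (G.t.appTop hU) ↔ G.t r ∈ V := fun r => by
    rw [← Scheme.preimage_basicOpen_top, hbU]
    rfl
  let C : Set G.U := sat G (V : Set G.U)ᶜ
  have hdC : ∀ x : V.toScheme, x ∈ V.toScheme.basicOpen d ↔ x.1 ∉ C := fun x => by
    rw [hd]
    constructor
    · rintro hx ⟨r, hrV, hrx⟩
      obtain ⟨r', hr't, hr's⟩ := exists_inv_pt G r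
      exact hrV (hr't ▸ (hT r').mp (hx r' (hr's.trans hrx)))
    · intro hx r hr
      rw [hT]
      by_contra hrV
      obtain ⟨r', hr't, hr's⟩ := exists_inv_pt G r
      exact hx ⟨r', show G.s r' ∈ (V : Set G.U)ᶜ from fun h2 => hrV (hr's ▸ h2), hr't.trans hr⟩
  haveI : IsClosedImmersion (j ∣_ D) := hclosedImm D
    (Set.eq_empty_iff_forall_notMem.mpr fun x hx => (hmemD x).mp hx.1 (hx.2 hh.1))
  haveI : IsAffine D.toScheme := (isAffineOpen_top X).basicOpen _
  obtain ⟨y, hy⟩ := (j ∣_ D).app_surjective ⊤ (isAffineOpen_top _) d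
  obtain ⟨f', hf'⟩ := (isAffineOpen_top X).basicOpen_basicOpen_is_basicOpen
    ((Scheme.ΓSpecIso (CommRingCat.of A)).inv h) (D.topIso.hom y)
  replace hf' : X.basicOpen f' = D.ι ''ᵁ D.toScheme.basicOpen y := by
    rw [hf', ← Scheme.Opens.ι_image_basicOpen_topIso_inv, Iso.hom_inv_id_apply]
  let a : A := (Scheme.ΓSpecIso (CommRingCat.of A)).hom f'
  have ha : ∀ p : X, a ∉ p.asIdeal ↔ ∃ hp : p ∈ D, (⟨p, hp⟩ : D.toScheme) ∈ D.toScheme.basicOpen y := by
    intro p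
    have h1 : X.basicOpen f' = D.ι ''ᵁ D.toScheme.basicOpen y := hf'
    have h2 : a ∉ p.asIdeal ↔ p ∈ X.basicOpen f' := by
      rw [basicOpen_eq_of_affine']
      rfl
    rw [h2, h1]
    exact ⟨fun ⟨q, hq, hqp⟩ => ⟨hqp ▸ q.2, by subst hqp; exact hq⟩, fun ⟨hp, hq⟩ => ⟨_, hq, rfl⟩⟩
  have hmem : ∀ x : G.U, x ∈ j ⁻¹ᵁ Bo (h * a) ↔ x ∉ C := by
    intro x
    change h * a ∉ (j x).asIdeal ↔ _
    rw [(j x).2.mul_mem_iff_mem_or_mem, not_or, ha]
    constructor
    · rintro ⟨-, hp, hpy⟩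
      apply (hdC ⟨x, hp⟩).mp
      rw [← hy]
      refine (Iff.of_eq (congrArg ((⟨x, hp⟩ : V.toScheme) ∈ ·) (Scheme.preimage_basicOpen_top (j ∣_ D) y))).mp ?_
      change (j ∣_ D) ⟨x, hp⟩ ∈ D.toScheme.basicOpen y
      rwa [show (j ∣_ D) ⟨x, hp⟩ = ⟨j x, hp⟩ from Subtype.ext (morphismRestrict_base_coe j D _)]
    · intro hx
      have hxV : x ∈ V := by
        by_contra h1
        exact hx (subset_sat G _ h1)
      have h1 := (hdC ⟨x, hxV⟩).mpr hx
      rw [← hy] at h1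
      replace h1 := (Iff.of_eq (congrArg ((⟨x, hxV⟩ : V.toScheme) ∈ ·) (Scheme.preimage_basicOpen_top (j ∣_ D) y))).mpr h1
      change (j ∣_ D) ⟨x, hxV⟩ ∈ D.toScheme.basicOpen y at h1
      rw [show (j ∣_ D) ⟨x, hxV⟩ = ⟨j x, hxV⟩ from Subtype.ext (morphismRestrict_base_coe j D _)] at h1
      exact ⟨(hmemD _).mp hxV, hxV, h1⟩
  refine ⟨h * a, I.mul_mem_right _ hh.1, haff _ (I.mul_mem_right _ hh.1), fun e he => ?_, ?_⟩
  · refine (hmem e).mpr fun ⟨r, hrV, hre⟩ => hrV ?_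
    obtain ⟨r', hr't, hr's⟩ := exists_inv_pt G r
    have h1 : G.s r ∈ sat G E := ⟨r', show G.s r' ∈ E from hr's.trans hre ▸ he, hr't⟩
    rw [hinv] at h1
    exact (hmemD _).mpr (hhE _ ((hF _).mpr ⟨_, h1, rfl⟩))
  · ext r
    have h1 := Set.ext_iff.mp (preimage_sat G ((V : Set G.U)ᶜ)) r
    exact (hmem _).trans ((not_congr h1).trans (hmem _).symm)

end GrothLib.GrpdQuot
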