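import Groth.Agent.Lib.AlgSp.LqfDescent
import Groth.Agent.Lib.GrpdQuot.GenInvariant
import Mathlib.AlgebraicGeometry.Morphisms.Immersion

/-!
Finite sets of points in affine opens.
-/

universe u

open CategoryTheory CategoryTheory.Limits AlgebraicGeometry

namespace GrothLib.GrpdQuot

theorem exists_affineOpen_of_finite_of_quasiAffine {W : Scheme.{u}} [W.IsQuasiAffine] (E : Set W)
    (hE : E.Finite) : ∃ V : W.Opens, IsAffineOpen V ∧ E ⊆ V := by
  classical
  let j := W.toSpecΓ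
  have hcl : IsClosed (Set.range j)ᶜ := j.isOpenEmbedding.isOpen_range.isClosed_compl
  obtain ⟨h, hh, hhE⟩ := exists_mem_avoid (PrimeSpectrum.vanishingIdeal (Set.range j)ᶜ)
    (hE.image j).toFinset (fun p hp => by
      obtain ⟨e, -, rfl⟩ := (hE.image j).mem_toFinset.mp hp
      rw [PrimeSpectrum.zeroLocus_vanishingIdeal_eq_closure]
      exact fun h => hcl.closure_subset h ⟨e, rfl⟩)
  let D : (Spec Γ(W, ⊤)).Opens := PrimeSpectrum.basicOpen h
  have hle : D ≤ j.opensRange := fun p hp => by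
    by_contra hn
    exact hp ((PrimeSpectrum.mem_vanishingIdeal _ _).mp hh p hn)
  exact ⟨j ⁻¹ᵁ D, (IsAffineOpen.Spec_basicOpen h).preimage_of_isOpenImmersion j hle,
    fun e he => hhE _ ((hE.image j).mem_toFinset.mpr ⟨e, he, rfl⟩)⟩

theorem exists_affineOpen_of_finite {R T : Scheme.{u}} [IsAffine T] (f : R ⟶ T) [LocallyQuasiFinite f]
    [LocallyOfFiniteType f] [IsSeparated f] (E : Set R) (hE : E.Finite) :
    ∃ V : R.Opens, IsAffineOpen V ∧ E ⊆ V := by
  choose A hA hxA using fun x : R =>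
    show ∃ A : R.Opens, IsAffineOpen A ∧ x ∈ A by
      obtain ⟨_, ⟨A, hA, rfl⟩, hx, -⟩ :=
        R.isBasis_affineOpens.exists_subset_of_mem_open (Set.mem_univ x) isOpen_univ
      exact ⟨A, hA, hx⟩
  let W : R.Opens := ⟨⋃ x ∈ E, (A x : Set R), isOpen_biUnion fun x _ => (A x).2⟩
  haveI : CompactSpace W.toScheme :=
    isCompact_iff_compactSpace.mp (hE.isCompact_biUnion fun x _ => (hA x).isCompact)
  haveI := GrothLib.AlgSp.isQuasiAffine_of_lqf (W.ι ≫ f)
  obtain ⟨V, hV, hEV⟩ := exists_affineOpen_of_finite_of_quasiAffine (W.ι ⁻¹' E)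
    (hE.preimage W.ι.isOpenEmbedding.injective.injOn)
  exact ⟨W.ι ''ᵁ V, hV.image_of_isOpenImmersion W.ι,
    fun e he => ⟨⟨e, Set.mem_biUnion he (hxA e)⟩, hEV he, rfl⟩⟩

end GrothLib.GrpdQuot
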