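import Groth.Agent.Lib.GrpdQuot.Glue
import Mathlib.AlgebraicGeometry.Morphisms.Finite
import Mathlib.AlgebraicGeometry.Morphisms.Flat

/-!
The glued quotient of a groupoid scheme which is an equivalence relation: the kernel pair of the
quotient map is the scheme of arrows and the quotient map is finite locally free.
-/

universe u

open CategoryTheory CategoryTheory.Limits AlgebraicGeometry

namespace GrothLib.GrpdQuot

noncomputable section

variable {S : Scheme.{u}} {G : Grpd.GroupoidScheme S}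
  [IsFinite G.s] [Flat G.s] [LocallyOfFinitePresentation G.s] [Mono G.j] (hG : Covered G)

theorem mono_kernelPairLift : Mono (pullback.lift G.t G.s (quotientπ_condition hG)) := by
  constructor
  intro Z a b hab
  apply (cancel_mono G.j).mp
  have ht : a ≫ G.t = b ≫ G.t := by
    have h := congrArg (· ≫ pullback.fst (quotientπ hG) (quotientπ hG)) hab
    simpa only [Category.assoc, pullback.lift_fst] using h
  have hs : a ≫ G.s = b ≫ G.s := by
    have h := congrArg (· ≫ pullback.snd (quotientπ hG) (quotientπ hG)) hab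
    simpa only [Category.assoc, pullback.lift_snd] using h
  apply pullback.hom_ext
  · simpa only [Grpd.GroupoidScheme.j, Category.assoc, pullback.lift_fst] using ht
  · simpa only [Grpd.GroupoidScheme.j, Category.assoc, pullback.lift_snd] using hs

/-- Two morphisms to the objects identified in the quotient are, over a chart, linked by an arrow. -/
theorem exists_arrow (i : Idx G) {T : Scheme.{u}} (a b : T ⟶ i.1.toScheme)
    (h : a ≫ i.π = b ≫ i.π) :
    ∃ r : T ⟶ G.R, r ≫ G.t = a ≫ i.1.ι ∧ r ≫ G.s = b ≫ i.1.ι := by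
  haveI : Mono i.grpd.j := mono_restrict_j G i.1 i.2.2
  obtain ⟨-, φ, h₁, h₂⟩ := finite_flat_toQuot i.grpd
  refine ⟨(pullback.lift a b h ≫ φ.inv : T ⟶ (G.s ⁻¹ᵁ i.1).toScheme) ≫ (G.s ⁻¹ᵁ i.1).ι, ?_, ?_⟩
  · have ht : (pullback.lift a b h ≫ φ.inv : T ⟶ (G.s ⁻¹ᵁ i.1).toScheme) ≫ tRes G i.1 i.2.2 = a :=
      (Category.assoc _ _ _).trans ((congrArg (pullback.lift a b h ≫ ·)
        ((Iso.inv_comp_eq φ).mpr h₁.symm)).trans (pullback.lift_fst a b h))
    exact (Category.assoc _ _ _).trans ((congrArg (_ ≫ ·) (tRes_ι G i.1 i.2.2).symm).trans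
      ((Category.assoc _ _ _).symm.trans (congrArg (· ≫ i.1.ι) ht)))
  · have hs : (pullback.lift a b h ≫ φ.inv : T ⟶ (G.s ⁻¹ᵁ i.1).toScheme) ≫ (G.s ∣_ i.1) = b :=
      (Category.assoc _ _ _).trans ((congrArg (pullback.lift a b h ≫ ·)
        ((Iso.inv_comp_eq φ).mpr h₂.symm)).trans (pullback.lift_snd a b h))
    exact (Category.assoc _ _ _).trans ((congrArg (_ ≫ ·) (sRes_ι G i.1).symm).trans
      ((Category.assoc _ _ _).symm.trans (congrArg (· ≫ i.1.ι) hs)))

theorem exists_lift_kernelPair :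
    ∃ ψ : pullback (quotientπ hG) (quotientπ hG) ⟶ G.R,
      ψ ≫ pullback.lift G.t G.s (quotientπ_condition hG) = 𝟙 _ := by
  let P := pullback (quotientπ hG) (quotientπ hG)
  let a : P ⟶ G.U := pullback.fst _ _
  let b : P ⟶ G.U := pullback.snd _ _
  have hab : a ≫ quotientπ hG = b ≫ quotientπ hG := pullback.condition
  have hle : ∀ i : Idx G, a ⁻¹ᵁ i.1 ≤ b ⁻¹ᵁ i.1 := fun i => by
    rw [← preimage_opensRange hG i, ← Scheme.Hom.comp_preimage, ← Scheme.Hom.comp_preimage, hab]
  have hloc : ∀ i : Idx G, ∃ r : (a ⁻¹ᵁ i.1).toScheme ⟶ G.R,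
      r ≫ pullback.lift G.t G.s (quotientπ_condition hG) = (a ⁻¹ᵁ i.1).ι := fun i => by
    have hπ : a.resLE i.1 (a ⁻¹ᵁ i.1) le_rfl ≫ i.π = b.resLE i.1 (a ⁻¹ᵁ i.1) (hle i) ≫ i.π := by
      rw [← cancel_mono (chartι G i), Category.assoc, Category.assoc, ← ι_quotientπ hG i,
        Scheme.Hom.resLE_comp_ι_assoc, Scheme.Hom.resLE_comp_ι_assoc, hab]
    obtain ⟨r, ht, hs⟩ := exists_arrow i _ _ hπ
    refine ⟨r, pullback.hom_ext ?_ ?_⟩
    · rw [Category.assoc, pullback.lift_fst, ht, Scheme.Hom.resLE_comp_ι]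
    · rw [Category.assoc, pullback.lift_snd, hs, Scheme.Hom.resLE_comp_ι]
  choose r hr using hloc
  let 𝒰 : P.OpenCover := Scheme.Cover.mkOfCovers (P := @IsOpenImmersion) (Idx G)
    (fun i => (a ⁻¹ᵁ i.1).toScheme) (fun i => (a ⁻¹ᵁ i.1).ι)
    (fun z => (exists_idx_mem (a z) (hG _)).elim fun i hi => ⟨i, ⟨z, hi⟩, rfl⟩)
    (fun _ => inferInstance)
  haveI := mono_kernelPairLift hG
  have hc : ∀ i j : Idx G, pullback.fst (𝒰.f i) (𝒰.f j) ≫ r i = pullback.snd (𝒰.f i) (𝒰.f j) ≫ r j :=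
    fun i j => (cancel_mono (pullback.lift G.t G.s (quotientπ_condition hG))).mp
      ((Category.assoc _ _ _).trans ((congrArg (_ ≫ ·) (hr i)).trans ((pullback.condition).trans
        ((congrArg (_ ≫ ·) (hr j)).symm.trans (Category.assoc _ _ _).symm))))
  refine ⟨𝒰.glueMorphisms r hc, 𝒰.hom_ext _ _ fun i => ?_⟩
  exact (Category.assoc _ _ _).symm.trans ((congrArg (· ≫ _) (𝒰.ι_glueMorphisms r hc i)).trans
    ((hr i).trans (Category.comp_id _).symm))

theorem isPullback_quotientπ : IsPullback G.t G.s (quotientπ hG) (quotientπ hG) := by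
  haveI := mono_kernelPairLift hG
  obtain ⟨ψ, hψ⟩ := exists_lift_kernelPair hG
  have hφψ : pullback.lift G.t G.s (quotientπ_condition hG) ≫ ψ = 𝟙 _ := by
    rw [← cancel_mono (pullback.lift G.t G.s (quotientπ_condition hG)), Category.assoc, hψ,
      Category.comp_id, Category.id_comp]
  exact IsPullback.of_iso_pullback ⟨quotientπ_condition hG⟩ ⟨_, ψ, hφψ, hψ⟩
    (pullback.lift_fst _ _ _) (pullback.lift_snd _ _ _)

set_option backward.isDefEq.respectTransparency.types false in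
theorem isFinLocFree_quotientπ :
    IsFinite (quotientπ hG) ∧ Flat (quotientπ hG) ∧ LocallyOfFinitePresentation (quotientπ hG) := by
  have h : ∀ i : Idx G, IsFinite i.π ∧ Flat i.π ∧ LocallyOfFinitePresentation i.π := fun i =>
    haveI : Mono i.grpd.j := mono_restrict_j G i.1 i.2.2
    (finite_flat_toQuot i.grpd).1
  exact ⟨prop_quotientπ hG @IsFinite fun i => (h i).1, prop_quotientπ hG @Flat fun i => (h i).2.1,
    prop_quotientπ hG @LocallyOfFinitePresentation fun i => (h i).2.2⟩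

end

end GrothLib.GrpdQuot
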