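import Groth.Prelude.Def_QuotSh
import Mathlib.CategoryTheory.Sites.RegularEpi
import Mathlib.CategoryTheory.Sites.EpiMono
import Mathlib.CategoryTheory.Limits.Shapes.Pullback.IsPullback.Basic
import Mathlib.AlgebraicGeometry.Sites.Fpqc

/-!
Schemes representing quotient sheaves.
-/

universe u

open CategoryTheory CategoryTheory.Limits AlgebraicGeometry Opposite

namespace GrothLib.GrpdQuot

noncomputable section

variable (K : Precoverage Scheme.{u}) {S : Scheme.{u}}

/-- The functor sending a scheme over `S` to its sheaf. -/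
abbrev repFunctor : Over S ⥤ QuotSh.Sh K S :=
  yoneda ⋙ (Functor.whiskeringRight _ _ _).obj uliftFunctor.{u + 1, u} ⋙
    presheafToSheaf (QuotSh.J K S) (Type (u + 1))

theorem isQuotient_of_epi {R U M : Over S} (s t : R ⟶ U) (q : U ⟶ M) (w : s ≫ q = t ≫ q)
    (hq : Epi (QuotSh.repMap K q)) {P : Over S} (p₁ p₂ : P ⟶ U) (hP : IsPullback p₁ p₂ q q)
    (ψ : R ⟶ P) (hψ₁ : ψ ≫ p₁ = t) (hψ₂ : ψ ≫ p₂ = s) (hψ : Epi (QuotSh.repMap K ψ)) :
    QuotSh.IsQuotient K s t q := by
  haveI : Epi ((repFunctor K).map q) := hq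
  haveI : Epi ((repFunctor K).map ψ) := hψ
  refine ⟨w, ?_⟩
  have hπd : QuotSh.quotπ K s t ≫ QuotSh.quotDesc K q w = (repFunctor K).map q :=
    coequalizer.π_desc _ _
  have hker : IsPullback ((repFunctor K).map p₁) ((repFunctor K).map p₂)
      ((repFunctor K).map q) ((repFunctor K).map q) := Functor.map_isPullback (repFunctor K) hP
  haveI := IsRegularEpiCategory.regularEpiOfEpi ((repFunctor K).map q)
  have hc := isColimitCoforkOfEffectiveEpi ((repFunctor K).map q) _ hker.isLimit
  have heq : (repFunctor K).map p₁ ≫ QuotSh.quotπ K s t =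
      (repFunctor K).map p₂ ≫ QuotSh.quotπ K s t := by
    rw [← cancel_epi ((repFunctor K).map ψ), ← Category.assoc, ← Category.assoc, ← Functor.map_comp,
      ← Functor.map_comp, hψ₁, hψ₂]
    exact (QuotSh.quot_condition K s t).symm
  obtain ⟨inv, hinv⟩ := Cofork.IsColimit.desc' hc (QuotSh.quotπ K s t) heq
  have hinv' : (repFunctor K).map q ≫ inv = QuotSh.quotπ K s t := hinv
  refine ⟨inv, ?_, ?_⟩
  · apply coequalizer.hom_ext
    change QuotSh.quotπ K s t ≫ QuotSh.quotDesc K q w ≫ inv = QuotSh.quotπ K s t ≫ 𝟙 _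
    rw [← Category.assoc, hπd, hinv', Category.comp_id]
  · haveI : Epi ((repFunctor K).map q) := hq
    rw [← cancel_epi ((repFunctor K).map q), ← Category.assoc, hinv', hπd]
    exact (Category.comp_id _).symm

theorem epi_repMap_of_mem {U M : Over S} (q : U ⟶ M) (hq : Presieve.singleton q.left ∈ K M.left) :
    Epi (QuotSh.repMap K q) := by
  have hloc : Presheaf.IsLocallySurjective (QuotSh.J K S)
      (Functor.whiskerRight (yoneda.map q) uliftFunctor.{u + 1, u}) := by
    refine ⟨fun {V} x => ?_⟩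
    have hcov : Sieve.generate (Presieve.singleton q) ∈ QuotSh.J K S M := by
      rw [GrothendieckTopology.mem_over_iff]
      refine GrothendieckTopology.superset_covering _ ?_ (Precoverage.generate_mem_toGrothendieck hq)
      rw [Sieve.generate_le_iff]
      rintro Z f ⟨⟩
      rw [Sieve.overEquiv_generate]
      exact ⟨_, 𝟙 _, q.left, ⟨U, q, 𝟙 _, ⟨⟩, (Category.id_comp _).symm⟩, Category.id_comp _⟩
    refine GrothendieckTopology.superset_covering _ ?_
      (GrothendieckTopology.pullback_stable _ x.down hcov)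
    rintro Z f ⟨W, a, b, ⟨⟩, hab⟩
    exact ⟨⟨a⟩, congrArg ULift.up hab⟩
  haveI : Sheaf.IsLocallySurjective (QuotSh.repMap K q) :=
    (Presheaf.isLocallySurjective_presheafToSheaf_map_iff (QuotSh.J K S) _).mpr hloc
  infer_instance

theorem singleton_mem_fppf {X Y : Scheme.{u}} (f : X ⟶ Y) [Flat f] [LocallyOfFinitePresentation f]
    [Surjective f] : Presieve.singleton f ∈ Scheme.fppfPrecoverage Y := by
  rw [Scheme.fppfPrecoverage, Scheme.singleton_mem_precoverage_iff]
  exact ⟨f.surjective, inferInstance, inferInstance⟩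

end

end GrothLib.GrpdQuot
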