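import Groth.Prelude.Def_Mor2
import Groth.Agent.Lib.GrpdQuot.GlueMono
import Groth.Agent.Lib.GrpdQuot.QuotSheaf
import Groth.Agent.Lib.GrpdQuot.FiniteAffine
import Mathlib.AlgebraicGeometry.Morphisms.QuasiSeparated
import Mathlib.AlgebraicGeometry.Morphisms.UniversallyClosed
import Mathlib.AlgebraicGeometry.Sites.Fpqc

/-!
Quotients of finite locally free equivalence relations as fppf quotient sheaves.
-/

universe u

open CategoryTheory CategoryTheory.Limits AlgebraicGeometry

namespace GrothLib.GrpdQuot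

noncomputable section

variable {S : Scheme.{u}}

theorem covered_of_closed (G : Grpd.GroupoidScheme S) [IsFinite G.s]
    (h3 : ∀ Z : Set G.U, IsClosed Z → Z.Nonempty →
      ∃ u ∈ Z, ∃ W : G.U.Opens, IsAffineOpen W ∧ ∀ r : G.R, G.s r = u → G.t r ∈ W) : Covered G := by
  haveI := isFinite_t G
  let Good : Set G.U := ⋃ W : {W : G.U.Opens // IsAffineOpen W}, (sat G (W.1 : Set G.U)ᶜ)ᶜ
  have hmem : ∀ u, u ∈ Good ↔ ∃ W : G.U.Opens, IsAffineOpen W ∧ ∀ r : G.R, G.s r = u → G.t r ∈ W := by
    intro u
    simp only [Good, Set.mem_iUnion, Set.mem_compl_iff, Subtype.exists, exists_prop]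
    refine exists_congr fun W => and_congr_right fun _ => ⟨fun h r hr => ?_, ?_⟩
    · by_contra hrW
      obtain ⟨r', hr't, hr's⟩ := exists_inv_pt G r
      exact h ⟨r', show G.s r' ∈ (W : Set G.U)ᶜ from fun h2 => hrW (hr's ▸ h2), hr't.trans hr⟩
    · rintro h ⟨r, hrW, hru⟩
      obtain ⟨r', hr't, hr's⟩ := exists_inv_pt G r
      exact hrW (hr't ▸ h r' (hr's.trans hru))
  have hopen : IsOpen Good := isOpen_iUnion fun W =>
    (G.t.isClosedMap _ (W.1.2.isClosed_compl.preimage G.s.continuous)).isOpen_compl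
  intro u
  apply (hmem u).mp
  by_contra hu
  obtain ⟨v, hv, hv'⟩ := h3 Goodᶜ hopen.isClosed_compl ⟨u, hu⟩
  exact hv ((hmem v).mpr hv')

/-- The scheme quotient of a finite locally free equivalence relation with orbits in affine opens
represents the fppf quotient sheaf. -/
theorem exists_fppf_quotient (G : Grpd.GroupoidScheme S) [IsFinite G.s] [Flat G.s]
    [LocallyOfFinitePresentation G.s] [Mono G.j] (hG : Covered G) :
    ∃ (M : Over S) (m : Over.mk G.pU ⟶ M), Mor2.IsFinLocFree m.left ∧ Surjective m.left ∧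
      IsPullback G.t G.s m.left m.left ∧
      QuotSh.IsQuotient Scheme.fppfPrecoverage
        (Over.homMk G.s G.s_over : Over.mk G.pR ⟶ Over.mk G.pU)
        (Over.homMk G.t G.t_over : Over.mk G.pR ⟶ Over.mk G.pU) m := by
  obtain ⟨pV, hpV⟩ := exists_desc_quotientπ hG G.pU (G.t_over.trans G.s_over.symm)
  let q : Over.mk G.pU ⟶ Over.mk pV := Over.homMk (quotientπ hG) hpV
  let sP : Over.mk G.pR ⟶ Over.mk G.pU := Over.homMk G.s G.s_over
  let tP : Over.mk G.pR ⟶ Over.mk G.pU := Over.homMk G.t G.t_over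
  obtain ⟨h₁, h₂, h₃⟩ := isFinLocFree_quotientπ hG
  haveI : Flat q.left := h₂
  haveI : LocallyOfFinitePresentation q.left := h₃
  haveI : Surjective q.left := ⟨quotientπ_surjective hG⟩
  have hpb : IsPullback tP sP q q := IsPullback.of_map (Over.forget S)
    (Over.OverMorphism.ext (quotientπ_condition hG)) (isPullback_quotientπ hG)
  refine ⟨Over.mk pV, q, ⟨h₁, h₂, h₃⟩, ⟨quotientπ_surjective hG⟩, isPullback_quotientπ hG, ?_⟩
  exact isQuotient_of_epi Scheme.fppfPrecoverage sP tP q hpb.w.symm
    (epi_repMap_of_mem Scheme.fppfPrecoverage q (singleton_mem_fppf q.left)) tP sP hpb (𝟙 _)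
    (Category.id_comp _) (Category.id_comp _)
    (epi_repMap_of_mem Scheme.fppfPrecoverage (𝟙 _) (singleton_mem_fppf (𝟙 G.R)))

theorem mono_j_of_ext (G : Grpd.GroupoidScheme S)
    (h : ∀ {T : Scheme.{u}} (a b : T ⟶ G.R), a ≫ G.t = b ≫ G.t → a ≫ G.s = b ≫ G.s → a = b) :
    Mono G.j := by
  constructor
  intro Z a b hab
  refine h a b ?_ ?_
  · have h1 := congrArg (· ≫ pullback.fst G.pU G.pU) hab
    simpa only [Category.assoc, Grpd.GroupoidScheme.j, pullback.lift_fst] using h1
  · have h1 := congrArg (· ≫ pullback.snd G.pU G.pU) hab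
    simpa only [Category.assoc, Grpd.GroupoidScheme.j, pullback.lift_snd] using h1

/-- A finite flat finitely presented surjection with kernel pair `R` is an fppf quotient. -/
theorem isQuotient_of_kernelPair {R U M : Over S} (s t : R ⟶ U) (q : U ⟶ M)
    [Flat q.left] [LocallyOfFinitePresentation q.left] [Surjective q.left]
    (h : IsPullback t.left s.left q.left q.left) :
    QuotSh.IsQuotient Scheme.fppfPrecoverage s t q := by
  have hpb : IsPullback t s q q :=
    IsPullback.of_map (Over.forget S) (Over.OverMorphism.ext h.w) h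
  exact isQuotient_of_epi Scheme.fppfPrecoverage s t q hpb.w.symm
    (epi_repMap_of_mem Scheme.fppfPrecoverage q (singleton_mem_fppf q.left)) t s hpb (𝟙 R)
    (Category.id_comp _) (Category.id_comp _)
    (epi_repMap_of_mem Scheme.fppfPrecoverage (𝟙 R) (singleton_mem_fppf (𝟙 R.left)))

theorem quasiCompact_of_comp_surjective {X Y Z : Scheme.{u}} (f : X ⟶ Y) (g : Y ⟶ Z) [Surjective f]
    [QuasiCompact (f ≫ g)] : QuasiCompact g := by
  refine ⟨fun U hU hUc => ?_⟩
  have h := ((f ≫ g).isCompact_preimage (U := ⟨U, hU⟩) hUc).image f.continuous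
  convert h
  ext y
  constructor
  · intro hy
    obtain ⟨x, rfl⟩ := f.surjective y
    exact ⟨x, by simpa using hy, rfl⟩
  · rintro ⟨x, hx, rfl⟩
    simpa using hx

theorem diagonal_comp_eq {U M T : Scheme.{u}} (m : U ⟶ M) (q : M ⟶ T) :
    m ≫ pullback.diagonal q = pullback.diagonal (m ≫ q) ≫
      pullback.map (m ≫ q) (m ≫ q) q q m m (𝟙 T) (Category.comp_id _) (Category.comp_id _) := by
  apply pullback.hom_ext
  · simp only [Category.assoc, pullback.map, pullback.lift_fst, pullback.diagonal_fst, Category.comp_id]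
    exact ((Category.assoc _ _ _).symm.trans ((congrArg (· ≫ m) (pullback.diagonal_fst _)).trans
      (Category.id_comp m))).symm
  · simp only [Category.assoc, pullback.map, pullback.lift_snd, pullback.diagonal_snd, Category.comp_id]
    exact ((Category.assoc _ _ _).symm.trans ((congrArg (· ≫ m) (pullback.diagonal_snd _)).trans
      (Category.id_comp m))).symm

theorem isSeparated_of_comp_surjective {U M T : Scheme.{u}} (m : U ⟶ M) (q : M ⟶ T)
    [UniversallyClosed m] [Surjective m] [IsSeparated (m ≫ q)] : IsSeparated q := by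
  haveI : UniversallyClosed (pullback.map (m ≫ q) (m ≫ q) q q m m (𝟙 T) (Category.comp_id _)
      (Category.comp_id _)) :=
    MorphismProperty.pullbackMap (P := @UniversallyClosed) ‹_› ‹_› rfl rfl
  refine ⟨IsClosedImmersion.of_isPreimmersion _ ?_⟩
  have h : Set.range (m ≫ pullback.diagonal q) = Set.range (pullback.diagonal q) := by
    rw [Scheme.Hom.comp_base, TopCat.coe_comp, Set.range_comp, m.surjective.range_eq, Set.image_univ]
  rw [← h, diagonal_comp_eq, Scheme.Hom.comp_base, TopCat.coe_comp, Set.range_comp]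
  exact Scheme.Hom.isClosedMap _ _ (pullback.diagonal (m ≫ q)).isClosedEmbedding.isClosed_range

theorem quasiSeparated_of_comp_surjective {U M T : Scheme.{u}} (m : U ⟶ M) (q : M ⟶ T)
    [QuasiCompact m] [Surjective m] [QuasiSeparated (m ≫ q)] : QuasiSeparated q := by
  haveI : QuasiCompact (pullback.map (m ≫ q) (m ≫ q) q q m m (𝟙 T) (Category.comp_id _)
      (Category.comp_id _)) :=
    MorphismProperty.pullbackMap (P := @QuasiCompact) ‹_› ‹_› rfl rfl
  haveI : QuasiCompact (m ≫ pullback.diagonal q) := by rw [diagonal_comp_eq]; infer_instance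
  exact ⟨quasiCompact_of_comp_surjective m _⟩

end

end GrothLib.GrpdQuot
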