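import Groth.Agent.Lib.AlgSp.Quotient

/-!
A morphism exhibiting a scheme as an fppf quotient sheaf is surjective.
-/

universe u

open CategoryTheory CategoryTheory.Limits AlgebraicGeometry

namespace GrothLib.GrpdQuot

open _root_.AlgSp

theorem epi_repMap_of_isQuotient {K : Precoverage Scheme.{u}} {S : Scheme.{u}} {R U M : Over S}
    {s t : R ⟶ U} {q : U ⟶ M} (hq : QuotSh.IsQuotient K s t q) : Epi (QuotSh.repMap K q) := by
  obtain ⟨w, hiso⟩ := hq
  have h : QuotSh.quotπ K s t ≫ QuotSh.quotDesc K q w = QuotSh.repMap K q := coequalizer.π_desc _ _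
  rw [← h]
  haveI : Epi (QuotSh.quotπ K s t) := coequalizer.π_epi
  haveI := hiso
  exact epi_comp _ _

theorem exists_fppf_lift_of_epi {S : Scheme.{u}} {U M T : Over S} (q : U ⟶ M)
    [Epi (QuotSh.repMap Scheme.fppfPrecoverage q)] (x : T ⟶ M) :
    ∃ (V : Over S) (c : V ⟶ T) (l : V ⟶ U), Flat c.left ∧ LocallyOfFinitePresentation c.left ∧
      Surjective c.left ∧ l ≫ q = c ≫ x := by
  have : Epi ((yon S).map q) := by
    have h : (yon S).map q = (QuotSh.repIsoUliftYoneda Scheme.fppfPrecoverage U).inv ≫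
        QuotSh.repMap Scheme.fppfPrecoverage q ≫
          (QuotSh.repIsoUliftYoneda Scheme.fppfPrecoverage M).hom := by
      rw [GrothLib.AlgSp.repIsoUliftYoneda_naturality, Iso.inv_hom_id_assoc]
    rw [h]
    exact epi_comp _ _
  haveI : Sheaf.IsLocallySurjective ((yon S).map q) := (Sheaf.isLocallySurjective_iff_epi _).mpr this
  obtain ⟨V, c, l, hf, hp, hs, hl⟩ := GrothLib.AlgSp.exists_fppf_lift ((yon S).map q) ((yon S).map x)
  refine ⟨V, c, (yon S).preimage l, hf, hp, hs, (yon S).map_injective ?_⟩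
  rw [Functor.map_comp, Functor.map_preimage, hl, Functor.map_comp]

theorem surjective_of_isQuotient {S : Scheme.{u}} {R U M : Over S} {s t : R ⟶ U} {q : U ⟶ M}
    (hq : QuotSh.IsQuotient Scheme.fppfPrecoverage s t q) : Surjective q.left := by
  haveI := epi_repMap_of_isQuotient hq
  obtain ⟨V, c, l, -, -, hs, hl⟩ := exists_fppf_lift_of_epi q (𝟙 M)
  haveI : Surjective (l.left ≫ q.left) := by
    rw [← Over.comp_left, hl, Category.comp_id]; exact hs
  exact .of_comp l.left q.left

end GrothLib.GrpdQuot
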