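import Groth.Agent.Lib.GrpdQuot.FlatQuot
import Groth.Agent.Lib.GrpdQuot.QuotSheaf
import Groth.Agent.Lib.GrpdQuot.QuotEpi
import Groth.Agent.Lib.GrpSchField.Shear

/-!
# An fppf quotient by a group action is a geometric quotient
-/

universe u

open CategoryTheory CategoryTheory.Limits MonoidalCategory CartesianMonoidalCategory MonObj AlgebraicGeometry Opposite

namespace GrothLib.GrpdQuot

noncomputable section

section local_section

variable {X Y V : Scheme.{u}} (q : X ⟶ Y) (c : V ⟶ Y) (l : V ⟶ X)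

theorem effectiveEpi_of_local_section (w : l ≫ q = c) [Flat c] [LocallyOfFinitePresentation c] [Surjective c] :
    EffectiveEpi q := by
  haveI : Flat (pullback.fst q c) := MorphismProperty.pullback_fst _ _ ‹Flat c›
  haveI : LocallyOfFinitePresentation (pullback.fst q c) := MorphismProperty.pullback_fst _ _ ‹LocallyOfFinitePresentation c›
  haveI : Surjective (pullback.fst q c) := MorphismProperty.pullback_fst _ _ ‹Surjective c›
  have hc : ∀ {W : Scheme.{u}} (e : X ⟶ W),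
      (∀ {Z : Scheme.{u}} (g₁ g₂ : Z ⟶ X), g₁ ≫ q = g₂ ≫ q → g₁ ≫ e = g₂ ≫ e) →
      ∀ {Z : Scheme.{u}} (g₁ g₂ : Z ⟶ V), g₁ ≫ c = g₂ ≫ c → g₁ ≫ l ≫ e = g₂ ≫ l ≫ e := by
    intro W e he Z g₁ g₂ hg
    simpa only [Category.assoc] using he (g₁ ≫ l) (g₂ ≫ l) (by rw [Category.assoc, Category.assoc, w, hg])
  refine ⟨⟨{
    desc := fun e he => EffectiveEpi.desc c (l ≫ e) (fun g₁ g₂ hg => hc e he g₁ g₂ hg)
    fac := fun e he => ?_
    uniq := fun e he m hm => ?_ }⟩⟩
  · rw [← cancel_epi (pullback.fst q c), pullback.condition_assoc, EffectiveEpi.fac, ← Category.assoc]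
    exact he _ _ (by rw [Category.assoc, w, pullback.condition])
  · refine EffectiveEpi.uniq c _ _ _ ?_
    rw [← w, Category.assoc, hm]

theorem isUnivSubmersive_of_local_section (w : l ≫ q = c) [Flat c] [LocallyOfFinitePresentation c] [Surjective c] :
    GIT.IsUnivSubmersive q := by
  intro X' Y' i₁ i₂ q' h
  let c' : pullback c i₂ ⟶ Y' := pullback.snd c i₂
  let l' : pullback c i₂ ⟶ X' := h.flip.lift (pullback.fst c i₂ ≫ l) c'
    (by rw [Category.assoc, w, pullback.condition])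
  have hl' : l' ≫ q' = c' := h.flip.lift_snd _ _ _
  haveI : UniversallyOpen c' := MorphismProperty.pullback_snd _ _ (inferInstance : UniversallyOpen c)
  haveI : Surjective c' := MorphismProperty.pullback_snd _ _ ‹Surjective c›
  have hc : Topology.IsQuotientMap c'.base := c'.isOpenMap.isQuotientMap c'.continuous c'.surjective
  refine Topology.IsQuotientMap.of_comp l'.continuous q'.continuous ?_
  rw [show (q'.base ∘ l'.base) = c'.base from funext fun x => by rw [← hl']; rfl]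
  exact hc

/-- Functions on opens descend along morphisms with flat local sections. -/
theorem sections_of_local_section (w : l ≫ q = c) [Flat c] [LocallyOfFinitePresentation c] [Surjective c]
    (U : Y.Opens) :
    Function.Injective (q.app U) ∧ ∀ f : Γ(X, q ⁻¹ᵁ U),
      (∀ {Z : Scheme.{u}} (g₁ g₂ : Z ⟶ X) (e₁ : ⊤ ≤ g₁ ⁻¹ᵁ (q ⁻¹ᵁ U)) (e₂ : ⊤ ≤ g₂ ⁻¹ᵁ (q ⁻¹ᵁ U)),
        g₁ ≫ q = g₂ ≫ q → g₁.appLE _ ⊤ e₁ f = g₂.appLE _ ⊤ e₂ f) → ∃ s, q.app U s = f := by
  let W := q ⁻¹ᵁ U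
  have eV : (⊤ : W.toScheme.Opens) ≤ W.ι ⁻¹ᵁ W := by rw [W.ι_preimage_self]
  have eU : (⊤ : U.toScheme.Opens) ≤ U.ι ⁻¹ᵁ U := by rw [U.ι_preimage_self]
  have hiso : ∀ {Z : Scheme.{u}} (W : Z.Opens) (e : (⊤ : W.toScheme.Opens) ≤ W.ι ⁻¹ᵁ W),
      IsIso (W.ι.appLE W ⊤ e) := fun {Z} W e => by
    rw [Scheme.Opens.ι_appLE]
    refine @Functor.map_isIso _ _ _ _ _ _ _ _ ?_
    exact ⟨(homOfLE (by rw [Scheme.Opens.ι_image_top])).op, Subsingleton.elim _ _, Subsingleton.elim _ _⟩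
  haveI := hiso W eV
  haveI := hiso U eU
  have hbV := ConcreteCategory.bijective_of_isIso (W.ι.appLE W ⊤ eV)
  have hbU := ConcreteCategory.bijective_of_isIso (U.ι.appLE U ⊤ eU)
  haveI : EffectiveEpi (q ∣_ U) := by
    let l' : pullback c U.ι ⟶ W.toScheme := (isPullback_morphismRestrict q U).lift (pullback.snd c U.ι)
      (pullback.fst c U.ι ≫ l) (by rw [Category.assoc, w, pullback.condition])
    haveI : Flat (pullback.snd c U.ι) := MorphismProperty.pullback_snd _ _ ‹Flat c›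
    haveI : LocallyOfFinitePresentation (pullback.snd c U.ι) := MorphismProperty.pullback_snd _ _ ‹LocallyOfFinitePresentation c›
    haveI : Surjective (pullback.snd c U.ι) := MorphismProperty.pullback_snd _ _ ‹Surjective c›
    exact effectiveEpi_of_local_section _ (pullback.snd c U.ι) l' ((isPullback_morphismRestrict q U).lift_fst _ _ _)
  have hsq : ∀ s, (q ∣_ U).appTop (U.ι.appLE U ⊤ eU s) = W.ι.appLE W ⊤ eV (q.app U s) := by
    have e : U.ι.appLE U ⊤ eU ≫ (q ∣_ U).appTop = q.app U ≫ W.ι.appLE W ⊤ eV := by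
      rw [show (q ∣_ U).appTop = (q ∣_ U).appLE ⊤ ⊤ le_rfl from
          Scheme.Hom.app_eq_appLE (f := q ∣_ U) (U := ⊤),
        Scheme.Hom.app_eq_appLE]
      refine (Scheme.Hom.appLE_comp_appLE (q ∣_ U) U.ι U ⊤ ⊤ eU le_rfl).trans
        (Eq.trans ?_ (Scheme.Hom.appLE_comp_appLE W.ι q U W ⊤ le_rfl eV).symm)
      simp only [morphismRestrict_ι]
      rfl
    exact fun s => ConcreteCategory.congr_hom e s
  refine ⟨fun s t e => hbU.1 ?_, fun f hf => ?_⟩
  · have he : (q ∣_ U).appTop (U.ι.appLE U ⊤ eU s) = (q ∣_ U).appTop (U.ι.appLE U ⊤ eU t) := by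
      rw [hsq, hsq, e]
    have hL : ∀ u : Γ(U.toScheme, ⊤), (toLine u).appTop coordFun = u := toLine_appTop
    rw [← hL (U.ι.appLE U ⊤ eU s), ← hL (U.ι.appLE U ⊤ eU t)]
    refine congrArg (fun g : U.toScheme ⟶ line.{u} => g.appTop coordFun) ((cancel_epi (q ∣_ U)).1 (toLine_ext ?_))
    rw [Scheme.Hom.comp_appTop, Scheme.Hom.comp_appTop, CommRingCat.comp_apply, CommRingCat.comp_apply,
      toLine_appTop, toLine_appTop]
    exact he
  · let f' := W.ι.appLE W ⊤ eV f
    have hc : ∀ {Z : Scheme.{u}} (g₁ g₂ : Z ⟶ W.toScheme), g₁ ≫ q ∣_ U = g₂ ≫ q ∣_ U →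
        g₁ ≫ toLine f' = g₂ ≫ toLine f' := fun {Z} g₁ g₂ e => toLine_ext (by
      rw [Scheme.Hom.comp_appTop, Scheme.Hom.comp_appTop, CommRingCat.comp_apply,
        CommRingCat.comp_apply, toLine_appTop]
      have hg : (g₁ ≫ W.ι) ≫ q = (g₂ ≫ W.ι) ≫ q := by
        rw [Category.assoc, Category.assoc, ← morphismRestrict_ι q U, reassoc_of% e]
      have h1 := hf (g₁ ≫ W.ι) (g₂ ≫ W.ι) (fun z _ => (g₁ z).2) (fun z _ => (g₂ z).2) hg
      rw [← Scheme.Hom.appLE_comp_appLE g₁ W.ι W ⊤ ⊤ eV le_top,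
        ← Scheme.Hom.appLE_comp_appLE g₂ W.ι W ⊤ ⊤ eV le_top, CommRingCat.comp_apply,
        CommRingCat.comp_apply] at h1
      rwa [Scheme.Hom.appTop, Scheme.Hom.appTop, Scheme.Hom.app_eq_appLE, Scheme.Hom.app_eq_appLE])
    let d := EffectiveEpi.desc (q ∣_ U) (toLine f') hc
    obtain ⟨s, hs⟩ := hbU.2 (d.appTop coordFun)
    refine ⟨s, hbV.1 ?_⟩
    rw [← hsq, hs, ← CommRingCat.comp_apply, ← Scheme.Hom.comp_appTop, EffectiveEpi.fac (q ∣_ U) (toLine f') hc,
      toLine_appTop]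

end local_section

section related

variable {S : Scheme.{u}} {R U : Over S} (s t : R ⟶ U)

/-- The presheaf quotient by a relation. -/
def relPre : (Over S)ᵒᵖ ⥤ Type (u + 1) where
  obj T := ULift.{u + 1} (Quot fun a b : T.unop ⟶ U => ∃ r : T.unop ⟶ R, r ≫ s = a ∧ r ≫ t = b)
  map {T T'} g := ↾fun x => ⟨Quot.map (g.unop ≫ ·)
    (by rintro _ _ ⟨r, rfl, rfl⟩; exact ⟨g.unop ≫ r, Category.assoc _ _ _, Category.assoc _ _ _⟩) x.down⟩
  map_id T := by
    ext ⟨x⟩
    induction x using Quot.ind with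
    | mk a => exact congrArg (Quot.mk _) (Category.id_comp a)
  map_comp {T T' T''} g g' := by
    ext ⟨x⟩
    induction x using Quot.ind with
    | mk a => exact congrArg (Quot.mk _) (Category.assoc g'.unop g.unop a)

/-- The projection onto the presheaf quotient. -/
def relPreπ : yoneda.obj U ⋙ uliftFunctor.{u + 1, u} ⟶ relPre s t where
  app T := ↾fun x => ⟨Quot.mk _ x.down⟩
  naturality _ _ _ := rfl

/-- Points with the same image in an fppf quotient are related after an fppf cover. -/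
theorem locally_related
    (hE : ∀ T : Over S, Equivalence (fun a b : T ⟶ U => ∃ r : T ⟶ R, r ≫ s = a ∧ r ≫ t = b))
    {M : Over S} {q : U ⟶ M} (hq : QuotSh.IsQuotient Scheme.fppfPrecoverage s t q)
    {T : Over S} (a b : T ⟶ U) (h : a ≫ q = b ≫ q) :
    ∃ (V : Over S) (c : V ⟶ T) (r : V ⟶ R), Flat c.left ∧ LocallyOfFinitePresentation c.left ∧
      Surjective c.left ∧ r ≫ s = c ≫ a ∧ r ≫ t = c ≫ b := by
  obtain ⟨w, hiso⟩ := hq
  let K := Scheme.fppfPrecoverage.{u}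
  let F := presheafToSheaf (QuotSh.J K S) (Type (u + 1))
  let y : ∀ {A B : Over S}, (A ⟶ B) → (yoneda.obj A ⋙ uliftFunctor.{u + 1, u} ⟶ yoneda.obj B ⋙ uliftFunctor.{u + 1, u}) :=
    fun g => Functor.whiskerRight (yoneda.map g) uliftFunctor.{u + 1, u}
  have hcond : y s ≫ relPreπ s t = y t ≫ relPreπ s t := by
    ext T' ⟨r⟩
    exact congrArg ULift.up (Quot.sound ⟨r, rfl, rfl⟩)
  let d : QuotSh.quot K s t ⟶ F.obj (relPre s t) := coequalizer.desc (F.map (relPreπ s t)) (by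
    change F.map (y s) ≫ _ = F.map (y t) ≫ _
    rw [← F.map_comp, ← F.map_comp, hcond])
  have hd : QuotSh.quotπ K s t ≫ d = F.map (relPreπ s t) := coequalizer.π_desc _ _
  have hπd : QuotSh.quotπ K s t ≫ QuotSh.quotDesc K q w = QuotSh.repMap K q := coequalizer.π_desc _ _
  have h1 : QuotSh.repMap K a ≫ QuotSh.quotπ K s t = QuotSh.repMap K b ≫ QuotSh.quotπ K s t := by
    rw [← cancel_mono (QuotSh.quotDesc K q w), Category.assoc, Category.assoc, hπd]
    change F.map (y a) ≫ F.map (y q) = F.map (y b) ≫ F.map (y q)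
    rw [← F.map_comp, ← F.map_comp]
    simp only [y, ← Functor.whiskerRight_comp, ← yoneda.map_comp, h]
  have h2 : F.map (y a ≫ relPreπ s t) = F.map (y b ≫ relPreπ s t) := by
    rw [F.map_comp, F.map_comp, ← hd]
    exact (Category.assoc _ _ _).symm.trans ((congrArg (· ≫ d) h1).trans (Category.assoc _ _ _))
  have h3 : (toSheafify (QuotSh.J K S) (relPre s t)).app (op T) ⟨Quot.mk _ a⟩ =
      (toSheafify (QuotSh.J K S) (relPre s t)).app (op T) ⟨Quot.mk _ b⟩ := by
    have e : (y a ≫ relPreπ s t) ≫ toSheafify (QuotSh.J K S) _ =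
        (y b ≫ relPreπ s t) ≫ toSheafify (QuotSh.J K S) _ := by
      rw [toSheafify_naturality, toSheafify_naturality]
      exact congrArg (fun k => toSheafify (QuotSh.J K S) _ ≫ k.hom) h2
    have e2 := congrArg (fun k => k.app (op T) ⟨𝟙 T⟩) e
    have hy : ∀ g : T ⟶ U, (y g ≫ relPreπ s t).app (op T) ⟨𝟙 T⟩ = ⟨Quot.mk _ g⟩ := fun g =>
      congrArg ULift.up (congrArg (Quot.mk _) (Category.id_comp g))
    rw [← hy a, ← hy b]
    exact e2
  have hS := Presheaf.equalizerSieve_mem (QuotSh.J K S) (toSheafify (QuotSh.J K S) (relPre s t)) _ _ h3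
  obtain ⟨C, hC, hle⟩ := Precoverage.mem_toGrothendieck_iff_of_isStableUnderComposition.1
    (show Sieve.overEquiv T _ ∈ Scheme.fppfTopology T.left from hS)
  have hsel : ∀ x : T.left, ∃ (Z : Scheme.{u}) (f : Z ⟶ T.left) (z : Z), C f ∧ f z = x := fun x => by
    obtain ⟨Y, f, hf, y, hy⟩ := Scheme.JointlySurjective.exists_eq
      (K := Scheme.precoverage (@Flat ⊓ @LocallyOfFinitePresentation)) C hC x
    exact ⟨Y, f, y, hf, hy⟩
  choose Z f z hCf hz using hsel
  have hr : ∀ x, ∃ r : Over.mk (f x ≫ T.hom) ⟶ R,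
      r ≫ s = (Over.homMk (f x) rfl : Over.mk (f x ≫ T.hom) ⟶ T) ≫ a ∧
      r ≫ t = (Over.homMk (f x) rfl : Over.mk (f x ≫ T.hom) ⟶ T) ≫ b := fun x => by
    have := (Sieve.overEquiv_iff _ (f x)).1 (hle _ _ (hCf x))
    have e := congrArg ULift.down this
    exact (hE _).eqvGen_iff.1 (Quot.eqvGen_exact e)
  choose r hr₁ hr₂ using hr
  let V : Over S := Over.mk (Sigma.desc f ≫ T.hom)
  let c : V ⟶ T := Over.homMk (Sigma.desc f) rfl
  let ρ : V ⟶ R := Over.homMk (Sigma.desc fun x => (r x).left) (Sigma.hom_ext _ _ fun x => by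
    simp only [V, Over.mk_hom, Sigma.ι_desc_assoc]
    exact Over.w (r x))
  have hc : ∀ x, Sigma.ι Z x ≫ c.left = f x := fun x => Sigma.ι_desc _ _
  refine ⟨V, c, ρ, ?_, ?_, ⟨fun x => ⟨Sigma.ι Z x (z x), ?_⟩⟩, ?_, ?_⟩
  · rw [IsZariskiLocalAtSource.iff_of_openCover (P := @Flat) (sigmaOpenCover _)]
    exact fun i => (hc i).symm ▸ (hC.2 (hCf i)).1
  · rw [IsZariskiLocalAtSource.iff_of_openCover (P := @LocallyOfFinitePresentation) (sigmaOpenCover _)]
    exact fun i => (hc i).symm ▸ (hC.2 (hCf i)).2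
  · rw [← Scheme.Hom.comp_apply, hc]
    exact hz x
  · refine Over.OverMorphism.ext (Sigma.hom_ext _ _ fun x => ?_)
    simp only [ρ, c, Over.comp_left, Over.homMk_left, Sigma.ι_desc_assoc]
    exact congrArg CommaMorphism.left (hr₁ x)
  · refine Over.OverMorphism.ext (Sigma.hom_ext _ _ fun x => ?_)
    simp only [ρ, c, Over.comp_left, Over.homMk_left, Sigma.ι_desc_assoc]
    exact congrArg CommaMorphism.left (hr₂ x)

end related

variable {S : Scheme.{u}} {G X Y : Over S} [GrpObj G]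

open GrothLib.GrpSchField (act_one act_mul)

theorem orbit_equivalence (a : AlgGrp.Action G X) (T : Over S) :
    Equivalence (fun x y : T ⟶ X => ∃ r : T ⟶ G ⊗ X, r ≫ a.act = x ∧ r ≫ snd G X = y) := by
  have key : ∀ x y : T ⟶ X, (∃ r : T ⟶ G ⊗ X, r ≫ a.act = x ∧ r ≫ snd G X = y) ↔
      ∃ g : T ⟶ G, lift g y ≫ a.act = x := fun x y => by
    constructor
    · rintro ⟨r, rfl, rfl⟩
      refine ⟨r ≫ fst G X, ?_⟩
      rw [← comp_lift, lift_fst_snd, Category.comp_id]
    · rintro ⟨g, rfl⟩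
      exact ⟨lift g y, rfl, lift_snd _ _⟩
  refine ⟨fun x => (key x x).2 ⟨1, act_one a x⟩, fun {x y} h => ?_, fun {x y z} h h' => ?_⟩
  · obtain ⟨g, rfl⟩ := (key _ _).1 h
    exact (key _ _).2 ⟨g⁻¹, by rw [← act_mul, inv_mul_cancel, act_one]⟩
  · obtain ⟨g, rfl⟩ := (key _ _).1 h
    obtain ⟨g', rfl⟩ := (key _ _).1 h'
    exact (key _ _).2 ⟨g * g', act_mul a g g' z⟩

/-- An fppf quotient by a group action is a geometric quotient. -/
theorem isGeomQuot_of_isQuotient (a : AlgGrp.Action G X) (q : X ⟶ Y)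
    (hq : QuotSh.IsQuotient Scheme.fppfPrecoverage a.act (snd G X) q) : GIT.IsGeomQuot a q := by
  have hinv : GIT.IsInvariant a q := hq.choose
  haveI := epi_repMap_of_isQuotient hq
  obtain ⟨V, c, l, hcf, hcp, hcs, hl⟩ := exists_fppf_lift_of_epi q (𝟙 Y)
  haveI := hcf
  haveI := hcp
  haveI := hcs
  have hlq : l.left ≫ q.left = c.left := by rw [← Over.comp_left, hl, Category.comp_id]
  haveI := surjective_of_isQuotient hq
  have hrel : ∀ {Z : Scheme.{u}} (g₁ g₂ : Z ⟶ X.left), g₁ ≫ q.left = g₂ ≫ q.left →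
      ∃ (Z' : Scheme.{u}) (d : Z' ⟶ Z) (r : Z' ⟶ (G ⊗ X).left), Flat d ∧ LocallyOfFinitePresentation d ∧
        Surjective d ∧ r ≫ a.act.left = d ≫ g₁ ∧ r ≫ (snd G X).left = d ≫ g₂ := by
    intro Z g₁ g₂ hg
    let T : Over S := Over.mk (g₁ ≫ X.hom)
    have hw : g₂ ≫ X.hom = T.hom := by
      rw [← Over.w q, ← reassoc_of% hg, Over.w q]; rfl
    obtain ⟨V, d, r, hf, hp, hs, h₁, h₂⟩ := locally_related a.act (snd G X) (orbit_equivalence a) hq
      (Over.homMk g₁ rfl : T ⟶ X) (Over.homMk g₂ hw : T ⟶ X) (Over.OverMorphism.ext hg)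
    exact ⟨V.left, d.left, r.left, hf, hp, hs, congrArg CommaMorphism.left h₁, congrArg CommaMorphism.left h₂⟩
  refine ⟨hinv, q.left.surjective, fun p => ?_, isUnivSubmersive_of_local_section q.left c.left l.left hlq,
    fun U => ⟨(sections_of_local_section q.left c.left l.left hlq U).1, Set.ext fun f => ⟨?_, fun hf => ?_⟩⟩⟩
  · let i := (pullback q.left q.left).fromSpecResidueField p
    obtain ⟨Z', d, r, -, -, hs, h₁, h₂⟩ := hrel (i ≫ pullback.fst _ _) (i ≫ pullback.snd _ _)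
      (by rw [Category.assoc, Category.assoc, pullback.condition])
    obtain ⟨z⟩ : Nonempty Z' := ⟨(d.surjective (IsLocalRing.closedPoint _)).choose⟩
    refine ⟨r z, ?_⟩
    have e : r ≫ GIT.PsiY a q hinv = d ≫ i := by
      refine pullback.hom_ext ?_ ?_
      · rw [Category.assoc, GIT.PsiY, pullback.lift_fst, h₁, Category.assoc]
      · rw [Category.assoc, GIT.PsiY, pullback.lift_snd, h₂, Category.assoc]
    rw [← Scheme.Hom.comp_apply, e, Scheme.Hom.comp_apply]
    exact Scheme.fromSpecResidueField_apply _ _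
  · rintro ⟨s, rfl⟩
    change GIT.IsInvSection a q U _
    rw [GIT.IsInvSection, Scheme.Hom.app_eq_appLE, ← CommRingCat.comp_apply, ← CommRingCat.comp_apply,
      Scheme.Hom.appLE_comp_appLE, Scheme.Hom.appLE_comp_appLE]
    simp only [hinv.left]
  · refine (sections_of_local_section q.left c.left l.left hlq U).2 f fun {Z} g₁ g₂ e₁ e₂ hg => ?_
    obtain ⟨Z', d, r, hdf, hdp, hds, h₁, h₂⟩ := hrel g₁ g₂ hg
    haveI := hdf
    haveI := hdp
    haveI := hds
    have hinj : Function.Injective d.appTop := by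
      intro u v huv
      have : toLine u = toLine v := (cancel_epi d).1 (toLine_ext (by
        rw [Scheme.Hom.comp_appTop, Scheme.Hom.comp_appTop, CommRingCat.comp_apply,
          CommRingCat.comp_apply, toLine_appTop, toLine_appTop, huv]))
      simpa [toLine_appTop] using congrArg (fun g : Z ⟶ line.{u} => g.appTop coordFun) this
    let W : (G ⊗ X).left.Opens := a.act.left ⁻¹ᵁ (q.left ⁻¹ᵁ U) ⊓ (snd G X).left ⁻¹ᵁ (q.left ⁻¹ᵁ U)
    have hr : (⊤ : Z'.Opens) ≤ r ⁻¹ᵁ W := fun x _ => by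
      refine ⟨?_, ?_⟩
      · change (r ≫ a.act.left) x ∈ q.left ⁻¹ᵁ U
        rw [h₁]; exact e₁ trivial
      · change (r ≫ (snd G X).left) x ∈ q.left ⁻¹ᵁ U
        rw [h₂]; exact e₂ trivial
    apply hinj
    have hf' : GIT.IsInvSection a q U f := hf
    have h := congrArg (r.appLE W ⊤ hr) hf'
    rw [← CommRingCat.comp_apply, ← CommRingCat.comp_apply, Scheme.Hom.appLE_comp_appLE,
      Scheme.Hom.appLE_comp_appLE] at h
    rw [show d.appTop = d.appLE ⊤ ⊤ le_top from Scheme.Hom.app_eq_appLE (f := d) (U := ⊤),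
      ← CommRingCat.comp_apply, ← CommRingCat.comp_apply, Scheme.Hom.appLE_comp_appLE, Scheme.Hom.appLE_comp_appLE]
    simpa only [h₁, h₂] using h

end

end GrothLib.GrpdQuot
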