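import Groth.Agent.Lib.GrpdQuot.DenseProd
import Groth.Agent.Lib.GrpdQuot.EquivRel
import Groth.Agent.Lib.GrpSchField.ReducedProd
import Groth.Agent.Lib.GrpSchField.GrpdField
import Groth.Agent.Lib.Misc6.LiftClosed
import Groth.Agent.Lib.RedSub.Basic
import Groth.Agent.Lib.DiagGrp.TrivOver

/-!
Images of morphisms of groupoid schemes on the spectrum of a field.
-/

open CategoryTheory CategoryTheory.Limits AlgebraicGeometry

namespace GrothLib.GrpdQuot

open GrothLib.GrpSchField (cmp cmp_congr comp_cmp fR_cmp e_fR i_fR)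

universe u

noncomputable section

variable {S : Scheme.{u}}

/-- A closed subscheme of arrows stable under the structure maps is a groupoid scheme. -/
def closedSub (G : Grpd.GroupoidScheme S) {Z : Scheme.{u}} (z : Z ⟶ G.R) [Mono z]
    (e' : G.U ⟶ Z) (he : e' ≫ z = G.e) (i' : Z ⟶ Z) (hi : i' ≫ z = z ≫ G.i)
    (c' : pullback (z ≫ G.s) (z ≫ G.t) ⟶ Z)
    (hc : ∀ {T : Scheme.{u}} (α β : T ⟶ Z) (h : α ≫ z ≫ G.s = β ≫ z ≫ G.t),
      (pullback.lift α β h ≫ c') ≫ z =
        cmp G (α ≫ z) (β ≫ z) (by simpa only [Category.assoc] using h)) :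
    Grpd.GroupoidScheme S where
  U := G.U
  R := Z
  pU := G.pU
  pR := z ≫ G.pR
  s := z ≫ G.s
  t := z ≫ G.t
  e := e'
  i := i'
  c := c'
  s_over := by rw [Category.assoc, G.s_over]
  t_over := by rw [Category.assoc, G.t_over]
  comp_s α β h := by
    rw [← Category.assoc, hc α β h, ← Category.assoc β z G.s]
    exact G.comp_s _ _ _
  comp_t α β h := by
    rw [← Category.assoc, hc α β h, ← Category.assoc α z G.t]
    exact G.comp_t _ _ _
  assoc α β γ h₁ h₂ := by
    refine (cancel_mono z).mp ?_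
    refine (hc _ _ _).trans (Eq.trans ?_ (hc _ _ _).symm)
    refine (cmp_congr G _ (hc α β h₁) rfl).trans ?_
    refine (G.assoc (α ≫ z) (β ≫ z) (γ ≫ z) (by simpa only [Category.assoc] using h₁)
      (by simpa only [Category.assoc] using h₂)).trans ?_
    exact cmp_congr G _ rfl (hc β γ h₂).symm
  e_s := by rw [← Category.assoc, he, G.e_s]
  e_t := by rw [← Category.assoc, he, G.e_t]
  comp_e α := by
    rw [← cancel_mono z, hc]
    refine (cmp_congr G _ rfl ?_).trans (G.comp_e (α ≫ z))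
    simp only [Category.assoc, he]
  e_comp α := by
    rw [← cancel_mono z, hc]
    refine (cmp_congr G _ ?_ rfl).trans (G.e_comp (α ≫ z))
    simp only [Category.assoc, he]
  i_s := by rw [← Category.assoc, hi, Category.assoc, G.i_s]
  i_t := by rw [← Category.assoc, hi, Category.assoc, G.i_t]
  comp_i α := by
    rw [← cancel_mono z, hc]
    refine (cmp_congr G _ rfl ?_).trans ((G.comp_i (α ≫ z)).trans ?_)
    · simp only [Category.assoc, hi]
    · simp only [Category.assoc, he]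
  i_comp α := by
    rw [← cancel_mono z, hc]
    refine (cmp_congr G _ ?_ rfl).trans ((G.i_comp (α ≫ z)).trans ?_)
    · simp only [Category.assoc, hi]
    · simp only [Category.assoc, he]

/-- The inclusion of a closed subgroupoid. -/
def closedSubι (G : Grpd.GroupoidScheme S) {Z : Scheme.{u}} (z : Z ⟶ G.R) [Mono z]
    (e' : G.U ⟶ Z) (he : e' ≫ z = G.e) (i' : Z ⟶ Z) (hi : i' ≫ z = z ≫ G.i)
    (c' : pullback (z ≫ G.s) (z ≫ G.t) ⟶ Z)
    (hc : ∀ {T : Scheme.{u}} (α β : T ⟶ Z) (h : α ≫ z ≫ G.s = β ≫ z ≫ G.t),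
      (pullback.lift α β h ≫ c') ≫ z =
        cmp G (α ≫ z) (β ≫ z) (by simpa only [Category.assoc] using h)) :
    (closedSub G z e' he i' hi c' hc).Hom G where
  fU := 𝟙 G.U
  fR := z
  fU_over := Category.id_comp _
  comm_s := (Category.comp_id _).symm
  comm_t := (Category.comp_id _).symm
  comm_c α β h := hc α β h

/-- The pair groupoid on `U`. -/
def pairGrpd (U : Scheme.{u}) (pU : U ⟶ S) : Grpd.GroupoidScheme S :=
  ofEquivRel U (pullback pU pU) pU (pullback.snd pU pU) (pullback.fst pU pU) pullback.condition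
    (fun _ _ h₁ h₂ => pullback.hom_ext h₁ h₂)
    ⟨pullback.lift (𝟙 U) (𝟙 U) rfl, pullback.lift_snd _ _ _, pullback.lift_fst _ _ _⟩
    ⟨pullback.lift (pullback.snd pU pU) (pullback.fst pU pU) pullback.condition.symm,
      pullback.lift_snd _ _ _, pullback.lift_fst _ _ _⟩
    ⟨pullback.lift (pullback.fst _ _ ≫ pullback.fst pU pU) (pullback.snd _ _ ≫ pullback.snd pU pU)
        (by
          have h := pullback.condition (f := pullback.snd pU pU) (g := pullback.fst pU pU)
          simp only [Category.assoc, pullback.condition]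
          rw [← Category.assoc, h, Category.assoc, pullback.condition]),
      pullback.lift_snd _ _ _, pullback.lift_fst _ _ _⟩

theorem pairGrpd_j (U : Scheme.{u}) (pU : U ⟶ S) : (pairGrpd U pU).j = 𝟙 _ := by
  apply pullback.hom_ext
  · exact (pullback.lift_fst _ _ _).trans (Category.id_comp _).symm
  · exact (pullback.lift_snd _ _ _).trans (Category.id_comp _).symm

/-- The morphism `(id, j)` to the pair groupoid. -/
def toPair (G : Grpd.GroupoidScheme S) : G.Hom (pairGrpd G.U G.pU) where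
  fU := 𝟙 G.U
  fR := G.j
  fU_over := Category.id_comp _
  comm_s := (pullback.lift_snd _ _ _).trans (Category.comp_id _).symm
  comm_t := (pullback.lift_fst _ _ _).trans (Category.comp_id _).symm
  comm_c α β h := by
    apply pullback.hom_ext
    · have hg : pullback.fst G.pU G.pU = (pairGrpd G.U G.pU).t := rfl
      refine (Category.assoc _ _ _).trans ?_
      refine Eq.trans ?_ ((pairGrpd G.U G.pU).comp_t (α ≫ G.j) (β ≫ G.j) _).symm
      exact (congrArg (_ ≫ ·) (pullback.lift_fst _ _ _)).trans ((G.comp_t α β h).trans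
        ((congrArg (α ≫ ·) (pullback.lift_fst _ _ _)).symm.trans (Category.assoc _ _ _).symm))
    · have hg : pullback.snd G.pU G.pU = (pairGrpd G.U G.pU).s := rfl
      refine (Category.assoc _ _ _).trans ?_
      refine Eq.trans ?_ ((pairGrpd G.U G.pU).comp_s (α ≫ G.j) (β ≫ G.j) _).symm
      exact (congrArg (_ ≫ ·) (pullback.lift_snd _ _ _)).trans ((G.comp_s α β h).trans
        ((congrArg (β ≫ ·) (pullback.lift_snd _ _ _)).symm.trans (Category.assoc _ _ _).symm))

/-- Factorisation through a closed immersion can be tested on a schematically dominant cover. -/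
theorem exists_factor_of_dominant {W T Z R : Scheme.{u}} (w : W ⟶ T) [IsSchemeTheoreticallyDominant w]
    [QuasiCompact w] (b : T ⟶ R) (z : Z ⟶ R) [IsClosedImmersion z] (q : W ⟶ Z) (h : q ≫ z = w ≫ b) :
    ∃ l : T ⟶ Z, l ≫ z = b := by
  let l : W ⟶ pullback b z := pullback.lift w q h.symm
  have : IsIso (pullback.fst b z) := by
    rw [IsClosedImmersion.isIso_iff_ker_eq_bot, ← le_bot_iff]
    calc (pullback.fst b z).ker ≤ (l ≫ pullback.fst b z).ker := Scheme.Hom.le_ker_comp _ _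
      _ = ⊥ := by rw [pullback.lift_fst]; exact Scheme.Hom.ker_eq_bot _
  exact ⟨inv (pullback.fst b z) ≫ pullback.snd b z, by
    rw [Category.assoc, ← pullback.condition, IsIso.inv_hom_id_assoc]⟩

variable {k : Type u} [Field k] {G₁ G₂ : Grpd.GroupoidScheme S} (f : G₁.Hom G₂) [IsIso f.fU]
  (eU : G₂.U ≅ Spec (CommRingCat.of k))

set_option backward.isDefEq.respectTransparency.types false in
include eU in
/-- The scheme theoretic image of a quasi-compact morphism of groupoids on a field is stable under the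
structure maps. -/
theorem exists_imageGrpd [QuasiCompact f.fR] :
    ∃ (Z : Scheme.{u}) (z : Z ⟶ G₂.R) (_ : IsClosedImmersion z) (e' : G₂.U ⟶ Z) (he : e' ≫ z = G₂.e)
      (i' : Z ⟶ Z) (hi : i' ≫ z = z ≫ G₂.i) (c' : pullback (z ≫ G₂.s) (z ≫ G₂.t) ⟶ Z)
      (hc : ∀ {T : Scheme.{u}} (α β : T ⟶ Z) (h : α ≫ z ≫ G₂.s = β ≫ z ≫ G₂.t),
        (pullback.lift α β h ≫ c') ≫ z =
          cmp G₂ (α ≫ z) (β ≫ z) (by simpa only [Category.assoc] using h))
      (φ : G₁.Hom (closedSub G₂ z e' he i' hi c' hc)),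
      φ.fU = f.fU ∧ φ.fR ≫ z = f.fR ∧ z.ker = f.fR.ker := by
  let z := f.fR.imageι
  let g := f.fR.toImage
  have hgz : g ≫ z = f.fR := f.fR.toImage_imageι
  have : IsSchemeTheoreticallyDominant g := GrothLib.Misc6.isSchemeTheoreticallyDominant_toImage f.fR
  have : QuasiCompact (g ≫ z) := by rw [hgz]; infer_instance
  have : QuasiCompact g := QuasiCompact.of_comp g z
  have hfl : ∀ {T : Scheme.{u}} (h : T ⟶ G₂.U), Flat h := fun {T} h => by
    have : Flat (h ≫ eU.hom) := GrothLib.DiagGrp.flat_of_field _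
    have h1 : h = (h ≫ eU.hom) ≫ eU.inv := by simp
    rw [h1]; infer_instance
  let e' : G₂.U ⟶ f.fR.image := inv f.fU ≫ G₁.e ≫ g
  have he : e' ≫ z = G₂.e := by
    simp only [e', Category.assoc, hgz, e_fR f, IsIso.inv_hom_id_assoc]
  obtain ⟨i', hi⟩ := exists_factor_of_dominant g (z ≫ G₂.i) z (G₁.i ≫ g) (by
    rw [Category.assoc, hgz, ← Category.assoc g z, hgz]
    simpa using i_fR f (𝟙 G₁.R))
  let zs := z ≫ G₂.s
  let zt := z ≫ G₂.t
  let u := pullback.fst zs zt
  let v := pullback.snd zs zt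
  have huv : (u ≫ z) ≫ G₂.s = (v ≫ z) ≫ G₂.t := by
    rw [Category.assoc, Category.assoc]; exact pullback.condition
  have : Flat u := MorphismProperty.pullback_fst _ _ (hfl zt)
  let w₁ := pullback.snd g u
  have hsq : IsPullback (w₁ ≫ v) (pullback.fst g u) zt (g ≫ zs) :=
    ((IsPullback.of_hasPullback g u).paste_vert (IsPullback.of_hasPullback zs zt).flip.flip).flip
  have : Flat (w₁ ≫ v) := MorphismProperty.of_isPullback hsq.flip (hfl (g ≫ zs))
  have : QuasiCompact w₁ := MorphismProperty.pullback_snd g u ‹_›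
  let w₂ := pullback.snd g (w₁ ≫ v)
  have : QuasiCompact w₂ := MorphismProperty.pullback_snd g (w₁ ≫ v) ‹_›
  let α := w₂ ≫ pullback.fst g u
  let β := pullback.fst g (w₁ ≫ v)
  have hα : α ≫ f.fR = (w₂ ≫ w₁) ≫ u ≫ z := by
    refine (congrArg (α ≫ ·) hgz).symm.trans ?_
    simp only [α, w₁, Category.assoc, pullback.condition_assoc]
  have hβ : β ≫ f.fR = (w₂ ≫ w₁) ≫ v ≫ z := by
    refine (congrArg (β ≫ ·) hgz).symm.trans ?_
    simp only [β, w₂, Category.assoc, pullback.condition_assoc]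
  have hαβ : α ≫ G₁.s = β ≫ G₁.t := by
    rw [← cancel_mono f.fU, Category.assoc α, Category.assoc β, ← f.comm_s, ← f.comm_t,
      ← Category.assoc α, hα, ← Category.assoc β, hβ]
    simp only [Category.assoc] at huv ⊢
    rw [huv]
  obtain ⟨c', hc'⟩ := exists_factor_of_dominant (w₂ ≫ w₁) (cmp G₂ (u ≫ z) (v ≫ z) huv) z
    (cmp G₁ α β hαβ ≫ g) (by
      rw [Category.assoc, hgz, fR_cmp, comp_cmp]
      exact cmp_congr G₂ _ hα hβ)
  have hc : ∀ {T : Scheme.{u}} (α β : T ⟶ f.fR.image) (h : α ≫ z ≫ G₂.s = β ≫ z ≫ G₂.t),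
      (pullback.lift α β h ≫ c') ≫ z =
        cmp G₂ (α ≫ z) (β ≫ z) (by simpa only [Category.assoc] using h) := by
    intro T α β h
    rw [Category.assoc, hc', comp_cmp]
    exact cmp_congr G₂ _ (pullback.lift_fst_assoc _ _ _ _) (pullback.lift_snd_assoc _ _ _ _)
  refine ⟨_, z, inferInstance, e', he, i', hi, c', hc,
    { fU := f.fU, fR := g, fU_over := f.fU_over
      comm_s := (reassoc_of% hgz) G₂.s |>.trans f.comm_s
      comm_t := (reassoc_of% hgz) G₂.t |>.trans f.comm_t
      comm_c := fun {T} α β h => ?_ }, rfl, hgz, Scheme.IdealSheafData.ker_subschemeι _⟩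
  refine (cancel_mono z).mp ?_
  refine ((Category.assoc _ _ _).trans ((congrArg (_ ≫ ·) hgz).trans (f.comm_c α β h))).trans ?_
  refine Eq.trans ?_ (hc (α ≫ g) (β ≫ g) _).symm
  exact cmp_congr G₂ _ (by rw [Category.assoc, hgz]) (by rw [Category.assoc, hgz])

include eU in
/-- The closure of the image of a morphism of groupoids on a perfect field, with its reduced
structure, is stable under the structure maps. -/
theorem exists_reducedImageGrpd [PerfectField k] :
    ∃ (Z : Scheme.{u}) (z : Z ⟶ G₂.R) (_ : IsClosedImmersion z) (e' : G₂.U ⟶ Z) (he : e' ≫ z = G₂.e)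
      (i' : Z ⟶ Z) (hi : i' ≫ z = z ≫ G₂.i) (c' : pullback (z ≫ G₂.s) (z ≫ G₂.t) ⟶ Z)
      (_ : ∀ {T : Scheme.{u}} (α β : T ⟶ Z) (h : α ≫ z ≫ G₂.s = β ≫ z ≫ G₂.t),
        (pullback.lift α β h ≫ c') ≫ z =
          cmp G₂ (α ≫ z) (β ≫ z) (by simpa only [Category.assoc] using h)),
      IsReduced Z ∧ Set.range z = closure (Set.range f.fR) := by
  let I := Scheme.IdealSheafData.vanishingIdeal
    (⟨closure (Set.range f.fR), isClosed_closure⟩ : TopologicalSpace.Closeds G₂.R)
  let z := I.subschemeι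
  have hz : Set.range z = closure (Set.range f.fR) := RedSub.range_subschemeι_vanishingIdeal _
  have : IsReduced I.subscheme := RedSub.isReduced_subscheme_vanishingIdeal _
  have : IsReduced G₂.U := isReduced_of_isOpenImmersion eU.hom
  obtain ⟨e', he⟩ := RedSub.exists_lift G₂.e z (by
    rw [hz]
    rintro _ ⟨x, rfl⟩
    refine subset_closure ⟨(inv f.fU ≫ G₁.e) x, ?_⟩
    rw [← Scheme.Hom.comp_apply, Category.assoc, e_fR f, IsIso.inv_hom_id_assoc])
  obtain ⟨i', hi⟩ := RedSub.exists_lift (z ≫ G₂.i) z (by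
    rintro _ ⟨x, rfl⟩
    rw [hz, Scheme.Hom.comp_apply]
    refine map_mem_closure G₂.i.continuous (hz.le ⟨x, rfl⟩) ?_
    rintro _ ⟨y, rfl⟩
    refine ⟨G₁.i y, ?_⟩
    rw [← Scheme.Hom.comp_apply, ← Scheme.Hom.comp_apply]
    exact congrArg (fun h : G₁.R ⟶ G₂.R => h y) (by simpa using i_fR f (𝟙 G₁.R)))
  let zs := z ≫ G₂.s
  let zt := z ≫ G₂.t
  have : IsReduced (pullback zs zt) := by
    have := GrothLib.GrpSchField.isReduced_pullback (zs ≫ eU.hom) (zt ≫ eU.hom)
    exact isReduced_of_isOpenImmersion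
      (pullback.map zs zt (zs ≫ eU.hom) (zt ≫ eU.hom) (𝟙 _) (𝟙 _) eU.hom (by simp) (by simp))
  let u := pullback.fst zs zt
  let v := pullback.snd zs zt
  have huv : (u ≫ z) ≫ G₂.s = (v ≫ z) ≫ G₂.t := by
    rw [Category.assoc, Category.assoc]; exact pullback.condition
  obtain ⟨c', hc'⟩ := RedSub.exists_lift (cmp G₂ (u ≫ z) (v ≫ z) huv) z (by
    rintro _ ⟨x, rfl⟩
    rw [hz]
    let l := pullback.lift (u ≫ z) (v ≫ z) huv
    let J := pullback.map (f.fR ≫ G₂.s) (f.fR ≫ G₂.t) G₂.s G₂.t f.fR f.fR (𝟙 G₂.U) (by simp) (by simp)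
    have hp : l x ∈ closure (Set.range J) := by
      refine mem_closure_range_map (fun h => universallyOpen_of_iso_field eU h) G₂.s G₂.t f.fR f.fR _ ?_ ?_
      · rw [← Scheme.Hom.comp_apply, pullback.lift_fst, Scheme.Hom.comp_apply, ← hz]; exact ⟨_, rfl⟩
      · rw [← Scheme.Hom.comp_apply, pullback.lift_snd, Scheme.Hom.comp_apply, ← hz]; exact ⟨_, rfl⟩
    show (l ≫ G₂.c) x ∈ _
    rw [Scheme.Hom.comp_apply]
    refine map_mem_closure G₂.c.continuous hp ?_
    rintro _ ⟨q, rfl⟩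
    let u₁ := pullback.fst (f.fR ≫ G₂.s) (f.fR ≫ G₂.t)
    let v₁ := pullback.snd (f.fR ≫ G₂.s) (f.fR ≫ G₂.t)
    have huv₁ : u₁ ≫ G₁.s = v₁ ≫ G₁.t := by
      rw [← cancel_mono f.fU, Category.assoc, Category.assoc, ← f.comm_s, ← f.comm_t]
      exact pullback.condition
    have hJ : J ≫ G₂.c = cmp G₁ u₁ v₁ huv₁ ≫ f.fR := by rw [fR_cmp]
    rw [← Scheme.Hom.comp_apply, hJ, Scheme.Hom.comp_apply]
    exact ⟨_, rfl⟩)
  refine ⟨_, z, inferInstance, e', he, i', hi, c', fun {T} α β h => ?_, inferInstance, hz⟩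
  rw [Category.assoc, hc', comp_cmp]
  exact cmp_congr G₂ _ (pullback.lift_fst_assoc _ _ _ _) (pullback.lift_snd_assoc _ _ _ _)

end

end GrothLib.GrpdQuot
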