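import Groth.Prelude.Def_W4bk4git07Quot
import Mathlib.AlgebraicGeometry.Sites.Fpqc
import Mathlib.AlgebraicGeometry.Morphisms.UniversallyOpen
import Mathlib.AlgebraicGeometry.Morphisms.UnderlyingMap
import Mathlib.AlgebraicGeometry.Morphisms.FlatDescent
import Mathlib.AlgebraicGeometry.PullbackCarrier

/-!
Universal openness of orbit quotients, and descent of functions along flat covers.
-/

universe u

open CategoryTheory CategoryTheory.Limits AlgebraicGeometry Polynomial Topology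

namespace GrothLib.GrpdQuot

variable {X Y R : Scheme.{u}}

theorem isOpenMap_of_relation (φ : X ⟶ Y) (p q : R ⟶ X) (w : p ≫ φ = q ≫ φ)
    (hrel : Surjective (pullback.lift p q w)) (hq : IsOpenMap q.base)
    (hsub : IsQuotientMap φ.base) : IsOpenMap φ.base := by
  intro U hU
  rw [← hsub.isOpen_preimage]
  have h : φ.base ⁻¹' (φ.base '' U) = q.base '' (p.base ⁻¹' U) := by
    ext x
    constructor
    · rintro ⟨y, hy, hyx⟩
      obtain ⟨z, hz₁, hz₂⟩ := Scheme.Pullback.exists_preimage_pullback (f := φ) (g := φ) y x hyx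
      obtain ⟨r, rfl⟩ := hrel.surj z
      rw [← Scheme.Hom.comp_apply, pullback.lift_fst] at hz₁
      rw [← Scheme.Hom.comp_apply, pullback.lift_snd] at hz₂
      exact ⟨r, Set.mem_preimage.2 (hz₁ ▸ hy), hz₂⟩
    · rintro ⟨r, hr, rfl⟩
      refine ⟨p.base r, hr, ?_⟩
      exact congrArg (fun g : R ⟶ Y => g.base r) w
  rw [h]
  exact hq _ (hU.preimage p.continuous)

set_option backward.isDefEq.respectTransparency.types false in
/-- A universally submersive morphism with a universally open surjective relation is universally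
open. -/
theorem universallyOpen_of_relation (φ : X ⟶ Y) (p q : R ⟶ X) (w : p ≫ φ = q ≫ φ)
    [hrel : Surjective (pullback.lift p q w)] [UniversallyOpen q] (hsub : GIT.IsUnivSubmersive φ) :
    UniversallyOpen φ := by
  refine ⟨fun {X' Y'} i₁ i₂ φ' h₀ => ?_⟩
  have h := h₀.flip
  let R' := pullback (q ≫ φ) i₂
  let r : R' ⟶ R := pullback.fst _ _
  let p' : R' ⟶ X' := h.lift (r ≫ p) (pullback.snd _ _)
    (by rw [Category.assoc, w]; exact pullback.condition)
  let q' : R' ⟶ X' := h.lift (r ≫ q) (pullback.snd _ _)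
    (by rw [Category.assoc]; exact pullback.condition)
  have w' : p' ≫ φ' = q' ≫ φ' := by rw [h.lift_snd, h.lift_snd]
  have hq' : IsPullback r q' q i₁ := by
    refine IsPullback.of_bot ?_ (h.lift_fst _ _ _).symm h
    rw [h.lift_snd]
    exact IsPullback.of_hasPullback _ _
  have : UniversallyOpen q' := MorphismProperty.of_isPullback (P := @UniversallyOpen) hq' inferInstance
  refine isOpenMap_of_relation φ' p' q' w' ⟨fun z => ?_⟩ q'.isOpenMap (hsub _ _ _ h₀)
  let m : pullback φ' φ' ⟶ pullback φ φ :=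
    pullback.lift (pullback.fst _ _ ≫ i₁) (pullback.snd _ _ ≫ i₁)
      (by rw [Category.assoc, Category.assoc, h.w, pullback.condition_assoc])
  let l := pullback.lift p q w
  haveI : Surjective (pullback.fst m l) := MorphismProperty.pullback_fst _ _ hrel
  obtain ⟨v, rfl⟩ := (pullback.fst m l).surjective z
  have hm₁ : pullback.fst m l ≫ pullback.fst φ' φ' ≫ i₁ = pullback.snd m l ≫ p :=
    calc _ = (pullback.fst m l ≫ m) ≫ pullback.fst φ φ := by
          rw [Category.assoc, pullback.lift_fst]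
      _ = _ := by rw [pullback.condition, Category.assoc, pullback.lift_fst]
  have hm₂ : pullback.fst m l ≫ pullback.snd φ' φ' ≫ i₁ = pullback.snd m l ≫ q :=
    calc _ = (pullback.fst m l ≫ m) ≫ pullback.snd φ φ := by
          rw [Category.assoc, pullback.lift_snd]
      _ = _ := by rw [pullback.condition, Category.assoc, pullback.lift_snd]
  let κ : pullback m l ⟶ R' := pullback.lift (pullback.snd m l)
    (pullback.fst m l ≫ pullback.snd φ' φ' ≫ φ') (by
      rw [← reassoc_of% hm₂, Category.assoc, Category.assoc, h.w])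
  refine ⟨κ v, ?_⟩
  have e : κ ≫ pullback.lift p' q' w' = pullback.fst m l := by
    refine pullback.hom_ext ?_ ?_ <;> refine h.hom_ext ?_ ?_
    · simp only [κ, p', r, R', Category.assoc, pullback.lift_fst_assoc, h.lift_fst, hm₁]
    · simp only [κ, p', r, R', Category.assoc, pullback.lift_fst_assoc, h.lift_snd, pullback.lift_snd]
      exact congrArg (pullback.fst m l ≫ ·) pullback.condition.symm
    · simp only [κ, q', r, R', Category.assoc, pullback.lift_snd_assoc, h.lift_fst,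
        pullback.lift_fst_assoc, hm₂]
    · simp only [κ, q', r, R', Category.assoc, pullback.lift_snd_assoc, h.lift_snd, pullback.lift_snd]
  exact congrArg (fun g : pullback m l ⟶ pullback φ' φ' => g.base v) e

/-- Surjective universally open morphisms are universally submersive. -/
theorem isUnivSubmersive_of_universallyOpen (φ : X ⟶ Y) [Surjective φ] [UniversallyOpen φ] :
    GIT.IsUnivSubmersive φ := by
  intro X' Y' i₁ i₂ φ' h
  haveI : Surjective φ' := MorphismProperty.of_isPullback (P := @Surjective) h.flip inferInstance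
  haveI : UniversallyOpen φ' := MorphismProperty.of_isPullback (P := @UniversallyOpen) h.flip inferInstance
  exact φ'.isOpenMap.isQuotientMap φ'.continuous φ'.surjective

noncomputable section

/-- The affine line over the integers. -/
abbrev line : Scheme.{u} := Spec (CommRingCat.of (ULift.{u} ℤ)[X])

/-- The coordinate of the line. -/
def coordFun : Γ(line.{u}, ⊤) := (Scheme.ΓSpecIso (CommRingCat.of (ULift.{u} ℤ)[X])).inv Polynomial.X

/-- The morphism to the line given by a function. -/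
def toLine (f : Γ(X, ⊤)) : X ⟶ line.{u} :=
  X.toSpecΓ ≫ Spec.map (CommRingCat.ofHom
    (Polynomial.eval₂RingHom ((Int.castRingHom Γ(X, ⊤)).comp ULift.ringEquiv.toRingHom) f))

theorem toLine_appTop (f : Γ(X, ⊤)) : (toLine f).appTop coordFun = f := by
  have h : ∀ (ψ : CommRingCat.of (ULift.{u} ℤ)[X] ⟶ Γ(X, ⊤)),
      (Scheme.ΓSpecIso _).inv ≫ (X.toSpecΓ ≫ Spec.map ψ).appTop = ψ := fun ψ => by
    rw [Scheme.Hom.comp_appTop, ← Scheme.ΓSpecIso_inv_naturality_assoc, Scheme.toSpecΓ_appTop,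
      Iso.inv_hom_id, Category.comp_id]
  refine (ConcreteCategory.congr_hom (h _) Polynomial.X).trans ?_
  exact Polynomial.eval₂_X _ _

theorem toLine_ext {g g' : X ⟶ line.{u}} (h : g.appTop coordFun = g'.appTop coordFun) : g = g' := by
  refine ext_of_isAffine ?_
  rw [← cancel_epi (Scheme.ΓSpecIso (CommRingCat.of (ULift.{u} ℤ)[X])).inv]
  refine CommRingCat.hom_ext (Polynomial.ringHom_ext' ?_ h)
  have : Subsingleton (ULift.{u} ℤ →+* Γ(X, ⊤)) :=
    ⟨fun a b => RingHom.ext fun n => congrArg (fun r : ℤ →+* Γ(X, ⊤) => r n.down)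
      (Subsingleton.elim (a.comp (ULift.ringEquiv.{0, u} (R := ℤ)).symm.toRingHom)
        (b.comp (ULift.ringEquiv.{0, u} (R := ℤ)).symm.toRingHom))⟩
  exact Subsingleton.elim _ _

/-- Functions descend along flat covers. -/
theorem exists_appTop_eq (f₀ : X ⟶ Y) [QuasiCompact f₀] [Surjective f₀] [Flat f₀] (f : Γ(X, ⊤))
    (h : ∀ {Z : Scheme.{u}} (g₁ g₂ : Z ⟶ X), g₁ ≫ f₀ = g₂ ≫ f₀ → g₁.appTop f = g₂.appTop f) :
    ∃ s, f₀.appTop s = f := by
  have hc : ∀ {Z : Scheme.{u}} (g₁ g₂ : Z ⟶ X), g₁ ≫ f₀ = g₂ ≫ f₀ →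
      g₁ ≫ toLine f = g₂ ≫ toLine f := fun g₁ g₂ e => toLine_ext (by
    rw [Scheme.Hom.comp_appTop, Scheme.Hom.comp_appTop, CommRingCat.comp_apply,
      CommRingCat.comp_apply, toLine_appTop]
    exact h g₁ g₂ e)
  refine ⟨(EffectiveEpi.desc f₀ (toLine f) hc).appTop coordFun, ?_⟩
  rw [← CommRingCat.comp_apply, ← Scheme.Hom.comp_appTop, EffectiveEpi.fac f₀ (toLine f) hc,
    toLine_appTop]

theorem appTop_injective (f₀ : X ⟶ Y) [QuasiCompact f₀] [Surjective f₀] [Flat f₀] :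
    Function.Injective f₀.appTop := by
  intro s t e
  have : toLine s = toLine t := (cancel_epi f₀).1 (toLine_ext (by
    rw [Scheme.Hom.comp_appTop, Scheme.Hom.comp_appTop, CommRingCat.comp_apply,
      CommRingCat.comp_apply, toLine_appTop, toLine_appTop, e]))
  simpa [toLine_appTop] using congrArg (fun g : Y ⟶ line.{u} => g.appTop coordFun) this

/-- Functions on opens descend along flat covers. -/
theorem sections_of_flat (φ : X ⟶ Y) [QuasiCompact φ] [Surjective φ] [Flat φ] (U : Y.Opens) :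
    Function.Injective (φ.app U) ∧ ∀ f : Γ(X, φ ⁻¹ᵁ U),
      (∀ {Z : Scheme.{u}} (g₁ g₂ : Z ⟶ X) (e₁ : ⊤ ≤ g₁ ⁻¹ᵁ (φ ⁻¹ᵁ U)) (e₂ : ⊤ ≤ g₂ ⁻¹ᵁ (φ ⁻¹ᵁ U)),
        g₁ ≫ φ = g₂ ≫ φ → g₁.appLE _ ⊤ e₁ f = g₂.appLE _ ⊤ e₂ f) → ∃ s, φ.app U s = f := by
  let V := φ ⁻¹ᵁ U
  have eV : (⊤ : V.toScheme.Opens) ≤ V.ι ⁻¹ᵁ V := by rw [V.ι_preimage_self]
  have eU : (⊤ : U.toScheme.Opens) ≤ U.ι ⁻¹ᵁ U := by rw [U.ι_preimage_self]
  have hiso : ∀ {Z : Scheme.{u}} (W : Z.Opens) (e : (⊤ : W.toScheme.Opens) ≤ W.ι ⁻¹ᵁ W),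
      IsIso (W.ι.appLE W ⊤ e) := fun {Z} W e => by
    rw [Scheme.Opens.ι_appLE]
    refine @Functor.map_isIso _ _ _ _ _ _ _ _ ?_
    exact ⟨(homOfLE (by rw [Scheme.Opens.ι_image_top])).op, Subsingleton.elim _ _, Subsingleton.elim _ _⟩
  haveI := hiso V eV
  haveI := hiso U eU
  have hbV := ConcreteCategory.bijective_of_isIso (V.ι.appLE V ⊤ eV)
  have hbU := ConcreteCategory.bijective_of_isIso (U.ι.appLE U ⊤ eU)
  haveI : QuasiCompact (φ ∣_ U) :=
    MorphismProperty.of_isPullback (P := @QuasiCompact) (isPullback_morphismRestrict φ U).flip ‹_›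
  haveI : Surjective (φ ∣_ U) :=
    MorphismProperty.of_isPullback (P := @Surjective) (isPullback_morphismRestrict φ U).flip ‹_›
  haveI : Flat (φ ∣_ U) :=
    MorphismProperty.of_isPullback (P := @Flat) (isPullback_morphismRestrict φ U).flip ‹_›
  have hsq : ∀ s, (φ ∣_ U).appTop (U.ι.appLE U ⊤ eU s) = V.ι.appLE V ⊤ eV (φ.app U s) := by
    have e : U.ι.appLE U ⊤ eU ≫ (φ ∣_ U).appTop = φ.app U ≫ V.ι.appLE V ⊤ eV := by
      rw [show (φ ∣_ U).appTop = (φ ∣_ U).appLE ⊤ ⊤ le_rfl from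
          Scheme.Hom.app_eq_appLE (f := φ ∣_ U) (U := ⊤),
        Scheme.Hom.app_eq_appLE]
      refine (Scheme.Hom.appLE_comp_appLE (φ ∣_ U) U.ι U ⊤ ⊤ eU le_rfl).trans
        (Eq.trans ?_ (Scheme.Hom.appLE_comp_appLE V.ι φ U V ⊤ le_rfl eV).symm)
      simp only [morphismRestrict_ι]
      rfl
    exact fun s => ConcreteCategory.congr_hom e s
  refine ⟨fun s t e => hbU.1 (appTop_injective (φ ∣_ U) (by rw [hsq, hsq, e])), fun f hf => ?_⟩
  obtain ⟨s', hs'⟩ := exists_appTop_eq (φ ∣_ U) (V.ι.appLE V ⊤ eV f) fun {Z} g₁ g₂ e => by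
    have hg : (g₁ ≫ V.ι) ≫ φ = (g₂ ≫ V.ι) ≫ φ := by
      rw [Category.assoc, Category.assoc, ← morphismRestrict_ι φ U, reassoc_of% e]
    have h1 := hf (g₁ ≫ V.ι) (g₂ ≫ V.ι) (fun z _ => (g₁ z).2) (fun z _ => (g₂ z).2) hg
    rw [← Scheme.Hom.appLE_comp_appLE g₁ V.ι V ⊤ ⊤ eV le_top,
      ← Scheme.Hom.appLE_comp_appLE g₂ V.ι V ⊤ ⊤ eV le_top, CommRingCat.comp_apply,
      CommRingCat.comp_apply] at h1
    rwa [Scheme.Hom.appTop, Scheme.Hom.appTop, Scheme.Hom.app_eq_appLE, Scheme.Hom.app_eq_appLE]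
  obtain ⟨s, rfl⟩ := hbU.2 s'
  exact ⟨s, hbV.1 ((hsq s).symm.trans hs')⟩

end

end GrothLib.GrpdQuot
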