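import Groth.Agent.Lib.GrpdQuot.EquivRel
import Groth.Agent.Lib.GrpSchField.Shear

/-!
The groupoid scheme of a free action.
-/

universe u

open CategoryTheory CategoryTheory.Limits MonoidalCategory CartesianMonoidalCategory MonObj GrpObj
open AlgebraicGeometry

namespace GrothLib.GrpdQuot

open GrothLib.GrpSchField (act_one act_mul)

noncomputable section

variable {S : Scheme.{u}} {G X : Over S} [GrpObj G] (a : AlgGrp.Action G X)

/-- Freeness of an action on points. -/
def ActionFree : Prop :=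
  ∀ (T : Over S) (g : T ⟶ G) (x : T ⟶ X), lift g x ≫ a.act = x → g = 1

variable {a}

theorem act_ext (h : ActionFree a) {T : Over S} (p q : T ⟶ G ⊗ X) (ht : p ≫ a.act = q ≫ a.act)
    (hs : p ≫ snd G X = q ≫ snd G X) : p = q := by
  have hp : p = lift (p ≫ fst G X) (p ≫ snd G X) := by
    apply CartesianMonoidalCategory.hom_ext <;> simp
  have hq : q = lift (q ≫ fst G X) (q ≫ snd G X) := by
    apply CartesianMonoidalCategory.hom_ext <;> simp
  rw [hp, hq, ← hs] at ht
  have h1 : lift ((q ≫ fst G X)⁻¹ * (p ≫ fst G X)) (p ≫ snd G X) ≫ a.act = p ≫ snd G X := by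
    rw [act_mul, ht, ← act_mul, inv_mul_cancel, act_one]
  have h2 := h T _ _ h1
  rw [inv_mul_eq_one] at h2
  rw [hp, hq, h2, hs]

variable (a)

theorem action_exists_e : ∃ e : X.left ⟶ (G ⊗ X).left,
    e ≫ (snd G X).left = 𝟙 X.left ∧ e ≫ a.act.left = 𝟙 X.left :=
  ⟨(lift (1 : X ⟶ G) (𝟙 X)).left, by rw [← Over.comp_left, lift_snd]; rfl,
    by rw [← Over.comp_left, act_one]; rfl⟩

theorem action_exists_i : ∃ i : (G ⊗ X).left ⟶ (G ⊗ X).left,
    i ≫ (snd G X).left = a.act.left ∧ i ≫ a.act.left = (snd G X).left :=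
  ⟨(lift ((fst G X)⁻¹) a.act).left, by rw [← Over.comp_left, lift_snd], by
    rw [← Over.comp_left]
    congr 1
    have e : lift (fst G X) (snd G X) ≫ a.act = a.act := by rw [lift_fst_snd, Category.id_comp]
    refine (congrArg (fun z => lift (fst G X)⁻¹ z ≫ a.act) e).symm.trans ?_
    rw [← act_mul, inv_mul_cancel, act_one]⟩

theorem action_exists_c :
    ∃ c : pullback (snd G X).left a.act.left ⟶ (G ⊗ X).left,
      c ≫ (snd G X).left = pullback.snd _ _ ≫ (snd G X).left ∧
      c ≫ a.act.left = pullback.fst _ _ ≫ a.act.left := by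
  let π₂ : pullback (snd G X).left a.act.left ⟶ S := pullback.snd _ _ ≫ (G ⊗ X).hom
  let Q : Over S := Over.mk π₂
  have hw : pullback.fst (snd G X).left a.act.left ≫ (G ⊗ X).hom = π₂ := by
    rw [← Over.w (snd G X), ← Category.assoc, pullback.condition, Category.assoc, Over.w a.act]
  let p : Q ⟶ G ⊗ X := Over.homMk (pullback.fst _ _) hw
  let q : Q ⟶ G ⊗ X := Over.homMk (pullback.snd _ _) rfl
  have hpq : p ≫ snd G X = q ≫ a.act := Over.OverMorphism.ext pullback.condition
  refine ⟨(lift ((p ≫ fst G X) * (q ≫ fst G X)) (q ≫ snd G X)).left, ?_, ?_⟩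
  · rw [← Over.comp_left, lift_snd]; rfl
  · rw [← Over.comp_left, act_mul]
    have hq : lift (q ≫ fst G X) (q ≫ snd G X) = q := by
      apply CartesianMonoidalCategory.hom_ext <;> simp
    rw [hq, ← hpq]
    have hp : lift (p ≫ fst G X) (p ≫ snd G X) = p := by
      apply CartesianMonoidalCategory.hom_ext <;> simp
    rw [hp]
    rfl

theorem action_cond : a.act.left ≫ X.hom = (snd G X).left ≫ X.hom := by
  rw [Over.w a.act, Over.w (snd G X)]

theorem action_mono (h : ActionFree a) {T : Scheme.{u}} (p q : T ⟶ (G ⊗ X).left)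
    (ht : p ≫ a.act.left = q ≫ a.act.left) (hs : p ≫ (snd G X).left = q ≫ (snd G X).left) :
    p = q := by
  have hw : q ≫ (G ⊗ X).hom = p ≫ (G ⊗ X).hom := by
    rw [← Over.w (snd G X), ← Category.assoc, ← hs, Category.assoc]
  let P : Over.mk (p ≫ (G ⊗ X).hom) ⟶ G ⊗ X := Over.homMk p rfl
  let Q : Over.mk (p ≫ (G ⊗ X).hom) ⟶ G ⊗ X := Over.homMk q hw
  exact congrArg (fun f : Over.mk (p ≫ (G ⊗ X).hom) ⟶ G ⊗ X => f.left)
    (act_ext h P Q (Over.OverMorphism.ext ht) (Over.OverMorphism.ext hs))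

/-- The groupoid scheme of a free action. -/
def actionGrpd (h : ActionFree a) : Grpd.GroupoidScheme S :=
  ofEquivRel X.left (G ⊗ X).left X.hom (snd G X).left a.act.left (action_cond a)
    (fun p q ht hs => action_mono a h p q ht hs) (action_exists_e a) (action_exists_i a)
    (action_exists_c a)

theorem mono_actionGrpd_j (h : ActionFree a) : Mono (actionGrpd a h).j :=
  mono_j_ofEquivRel _ _ _ _ _ _ _ _ _ _

omit [GrpObj G] in
theorem property_snd (P : MorphismProperty Scheme.{u}) [P.IsStableUnderBaseChange] (hG : P G.hom) :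
    P (snd G X).left :=
  MorphismProperty.pullback_snd G.hom X.hom hG

end

end GrothLib.GrpdQuot
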