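import Groth.Agent.Lib.GrpdQuot.Scheme
import Mathlib.AlgebraicGeometry.Morphisms.Integral

/-!
The quotient of an affine groupoid scheme with finite locally free source map.
-/

universe u

open CategoryTheory CategoryTheory.Limits AlgebraicGeometry TensorProduct

namespace GrothLib.GrpdQuot

noncomputable section

variable {S : Scheme.{u}} (G : Grpd.GroupoidScheme S)

theorem t_toQuot : G.t ≫ G.toQuot = G.s ≫ G.toQuot := by
  rw [Grpd.GroupoidScheme.toQuot, Scheme.toSpecΓ_naturality_assoc, Scheme.toSpecΓ_naturality_assoc,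
    ← Spec.map_comp, ← Spec.map_comp]
  congr 2
  ext c
  exact c.2.symm

variable [IsAffine G.U]

theorem toQuot_eq : G.toQuot = G.U.isoSpec.hom ≫ Spec.map (CommRingCat.ofHom G.invariants.subtype) :=
  rfl

variable [IsAffine G.R] [IsFinite G.s] [Flat G.s] [LocallyOfFinitePresentation G.s]

theorem isIntegral_subtype : G.invariants.subtype.IsIntegral := by
  haveI : letI := (gdata G).s.toAlgebra; Module.Finite Γ(G.U, ⊤) Γ(G.R, ⊤) := finite_appTop_s G
  haveI : letI := (gdata G).s.toAlgebra; Module.Projective Γ(G.U, ⊤) Γ(G.R, ⊤) := projective_appTop_s G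
  exact algebraMap_isIntegral_iff.mpr (gdata G).isIntegral_inv

theorem isIntegralHom_toQuot : IsIntegralHom G.toQuot := by
  rw [toQuot_eq]
  haveI : IsIntegralHom (Spec.map (CommRingCat.ofHom G.invariants.subtype)) :=
    IsIntegralHom.SpecMap_iff.mpr (isIntegral_subtype G)
  infer_instance

theorem surjective_toQuot : Function.Surjective G.toQuot := by
  intro m
  letI : Algebra G.invariants Γ(G.U, ⊤) := G.invariants.subtype.toAlgebra
  haveI : Algebra.IsIntegral G.invariants Γ(G.U, ⊤) := ⟨isIntegral_subtype G⟩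
  obtain ⟨Q, -, hQ, hQm⟩ := Ideal.exists_ideal_over_prime_of_isIntegral m.asIdeal
    (⊥ : Ideal Γ(G.U, ⊤)) (by
      intro x hx
      rw [Ideal.mem_comap, Ideal.mem_bot] at hx
      rw [show x = 0 from Subtype.ext hx]
      exact zero_mem _)
  refine ⟨G.U.isoSpec.inv ⟨Q, hQ⟩, ?_⟩
  rw [← Scheme.Hom.comp_apply, toQuot_eq, Iso.inv_hom_id_assoc]
  exact PrimeSpectrum.ext hQm

theorem isoSpec_hom_apply (f : G.R ⟶ G.U) (r : G.R) :
    (G.U.isoSpec.hom (f r)).asIdeal = Ideal.comap f.appTop.hom (G.R.isoSpec.hom r).asIdeal := by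
  rw [← Scheme.Hom.comp_apply, ← Scheme.isoSpec_hom_naturality, Scheme.Hom.comp_apply]
  rfl

theorem toQuot_eq_iff (u₀ u₁ : G.U) :
    G.toQuot u₀ = G.toQuot u₁ ↔ ∃ r : G.R, G.t r = u₀ ∧ G.s r = u₁ := by
  refine ⟨fun h => ?_, ?_⟩
  · haveI : letI := (gdata G).s.toAlgebra; Module.Finite Γ(G.U, ⊤) Γ(G.R, ⊤) := finite_appTop_s G
    haveI : letI := (gdata G).s.toAlgebra; Module.Projective Γ(G.U, ⊤) Γ(G.R, ⊤) := projective_appTop_s G
    have h' : (G.U.isoSpec.hom u₁).asIdeal.comap (gdata G).inv.subtype =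
        (G.U.isoSpec.hom u₀).asIdeal.comap (gdata G).inv.subtype := by
      rw [toQuot_eq, Scheme.Hom.comp_apply, Scheme.Hom.comp_apply] at h
      exact (congrArg PrimeSpectrum.asIdeal h).symm
    obtain ⟨Q, hQ, hs, ht⟩ := (gdata G).exists_prime_of_comap_eq (G.U.isoSpec.hom u₁).asIdeal
      (G.U.isoSpec.hom u₀).asIdeal h'
    refine ⟨G.R.isoSpec.inv ⟨Q, hQ⟩, ?_, ?_⟩
    · apply G.U.isoSpec.hom.isOpenEmbedding.injective
      apply PrimeSpectrum.ext
      rw [isoSpec_hom_apply, ← Scheme.Hom.comp_apply, Iso.inv_hom_id]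
      exact ht
    · apply G.U.isoSpec.hom.isOpenEmbedding.injective
      apply PrimeSpectrum.ext
      rw [isoSpec_hom_apply, ← Scheme.Hom.comp_apply, Iso.inv_hom_id]
      exact hs
  · rintro ⟨r, rfl, rfl⟩
    rw [← Scheme.Hom.comp_apply, ← Scheme.Hom.comp_apply, t_toQuot]

variable {k : Type u} [Field k] [IsAlgClosed k]

omit [IsAlgClosed k] in
theorem exists_pt_eq {X : Scheme.{u}} [IsAffine X] (x : Spec (CommRingCat.of k) ⟶ X) :
    ∃ v : Γ(X, ⊤) →+* k, x = Spec.map (CommRingCat.ofHom v) ≫ X.isoSpec.inv := by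
  refine ⟨(Spec.preimage (x ≫ X.isoSpec.hom)).hom, ?_⟩
  rw [CommRingCat.ofHom_hom, Spec.map_preimage, Category.assoc, Iso.hom_inv_id, Category.comp_id]

theorem exists_lift_toQuot (m : Spec (CommRingCat.of k) ⟶ Spec (CommRingCat.of G.invariants)) :
    ∃ x : Spec (CommRingCat.of k) ⟶ G.U, x ≫ G.toQuot = m := by
  haveI : letI := (gdata G).s.toAlgebra; Module.Finite Γ(G.U, ⊤) Γ(G.R, ⊤) := finite_appTop_s G
  haveI : letI := (gdata G).s.toAlgebra; Module.Projective Γ(G.U, ⊤) Γ(G.R, ⊤) := projective_appTop_s G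
  obtain ⟨v, hv⟩ := (gdata G).exists_lift_hom (Spec.preimage m).hom
  refine ⟨Spec.map (CommRingCat.ofHom v) ≫ G.U.isoSpec.inv, ?_⟩
  rw [toQuot_eq, Category.assoc, Iso.inv_hom_id_assoc, ← Spec.map_comp]
  conv_rhs => rw [← Spec.map_preimage m]
  congr 1
  ext c
  exact RingHom.congr_fun hv c

theorem comp_toQuot_eq_iff (x₀ x₁ : Spec (CommRingCat.of k) ⟶ G.U) :
    x₀ ≫ G.toQuot = x₁ ≫ G.toQuot ↔
      ∃ r : Spec (CommRingCat.of k) ⟶ G.R, r ≫ G.t = x₀ ∧ r ≫ G.s = x₁ := by
  refine ⟨fun h => ?_, ?_⟩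
  · haveI : letI := (gdata G).s.toAlgebra; Module.Finite Γ(G.U, ⊤) Γ(G.R, ⊤) := finite_appTop_s G
    haveI : letI := (gdata G).s.toAlgebra; Module.Projective Γ(G.U, ⊤) Γ(G.R, ⊤) := projective_appTop_s G
    obtain ⟨v₀, rfl⟩ := exists_pt_eq x₀
    obtain ⟨v₁, rfl⟩ := exists_pt_eq x₁
    rw [toQuot_eq, Category.assoc, Iso.inv_hom_id_assoc, Category.assoc, Iso.inv_hom_id_assoc,
      ← Spec.map_comp, ← Spec.map_comp] at h
    have h' := Spec.map_injective h
    obtain ⟨r, hs, ht⟩ := (gdata G).exists_hom_of_agree v₁ v₀ (fun c hc =>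
      (congrArg (fun χ => (ConcreteCategory.hom χ) (⟨c, hc⟩ : G.invariants)) h').symm)
    have key : ∀ f : G.R ⟶ G.U, (Spec.map (CommRingCat.ofHom r) ≫ G.R.isoSpec.inv) ≫ f =
        Spec.map (CommRingCat.ofHom (r.comp f.appTop.hom)) ≫ G.U.isoSpec.inv := by
      intro f
      rw [Category.assoc, ← Scheme.isoSpec_inv_naturality, CommRingCat.ofHom_comp, Spec.map_comp,
        Category.assoc]
      rfl
    refine ⟨Spec.map (CommRingCat.ofHom r) ≫ G.R.isoSpec.inv, ?_, ?_⟩
    · rw [key]; exact congrArg (fun χ => Spec.map (CommRingCat.ofHom χ) ≫ G.U.isoSpec.inv) ht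
    · rw [key]; exact congrArg (fun χ => Spec.map (CommRingCat.ofHom χ) ≫ G.U.isoSpec.inv) hs
  · rintro ⟨r, rfl, rfl⟩
    rw [Category.assoc, Category.assoc, t_toQuot]

theorem finite_flat_toQuot [Mono G.j] :
    (IsFinite G.toQuot ∧ Flat G.toQuot ∧ LocallyOfFinitePresentation G.toQuot) ∧
      ∃ φ : G.R ≅ pullback G.toQuot G.toQuot, φ.hom ≫ pullback.fst G.toQuot G.toQuot = G.t ∧
        φ.hom ≫ pullback.snd G.toQuot G.toQuot = G.s := by
  haveI : letI := (gdata G).s.toAlgebra; Module.Finite Γ(G.U, ⊤) Γ(G.R, ⊤) := finite_appTop_s G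
  haveI : letI := (gdata G).s.toAlgebra; Module.Projective Γ(G.U, ⊤) Γ(G.R, ⊤) := projective_appTop_s G
  obtain ⟨⟨hfin, hproj⟩, hbij⟩ := (gdata G).finite_projective_and_bijective (spanned_gdata G)
  haveI := hfin
  haveI := hproj
  haveI : Module.Finite G.invariants Γ(G.U, ⊤) := hfin
  haveI : Module.Projective G.invariants Γ(G.U, ⊤) := hproj
  haveI : Module.FinitePresentation G.invariants Γ(G.U, ⊤) :=
    Module.finitePresentation_of_projective _ _
  refine ⟨⟨?_, ?_, ?_⟩, ?_⟩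
  · rw [toQuot_eq]
    haveI : IsFinite (Spec.map (CommRingCat.ofHom G.invariants.subtype)) :=
      (IsFinite.SpecMap_iff _).mpr (RingHom.finite_algebraMap.mpr hfin)
    infer_instance
  · rw [toQuot_eq]
    haveI : Flat (Spec.map (CommRingCat.ofHom G.invariants.subtype)) :=
      Flat.SpecMap_iff.mpr (RingHom.flat_algebraMap_iff.mpr inferInstance)
    infer_instance
  · rw [toQuot_eq]
    haveI : LocallyOfFinitePresentation (Spec.map (CommRingCat.ofHom G.invariants.subtype)) := by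
      refine (LocallyOfFinitePresentation.SpecMap_iff _).mpr ?_
      exact RingHom.finitePresentation_algebraMap.mpr inferInstance
    infer_instance
  letI : Algebra G.invariants Γ(G.R, ⊤) := (G.t.appTop.hom.comp G.invariants.subtype).toAlgebra
  let f₁ : Γ(G.U, ⊤) →ₐ[G.invariants] Γ(G.R, ⊤) := { G.t.appTop.hom with commutes' := fun _ => rfl }
  let f₂ : Γ(G.U, ⊤) →ₐ[G.invariants] Γ(G.R, ⊤) :=
    { G.s.appTop.hom with commutes' := fun c => c.2 }
  let Φ := Algebra.TensorProduct.productMap f₁ f₂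
  have hΦ : Function.Bijective Φ.toRingHom := hbij Φ.toLinearMap.toAddMonoidHom fun a a' =>
    Algebra.TensorProduct.productMap_apply_tmul _ _ a a'
  have hpush : IsPushout (CommRingCat.ofHom G.invariants.subtype)
      (CommRingCat.ofHom G.invariants.subtype) G.t.appTop G.s.appTop := by
    refine (CommRingCat.isPushout_tensorProduct G.invariants Γ(G.U, ⊤) Γ(G.U, ⊤)).of_iso
      (Iso.refl _) (Iso.refl _) (Iso.refl _) (RingEquiv.ofBijective _ hΦ).toCommRingCatIso
      (by simp; rfl) (by simp; rfl) ?_ ?_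
    · ext a
      change Φ (a ⊗ₜ 1) = G.t.appTop.hom a
      rw [Algebra.TensorProduct.productMap_apply_tmul, map_one, mul_one]
      rfl
    · ext a
      change Φ (1 ⊗ₜ a) = G.s.appTop.hom a
      rw [Algebra.TensorProduct.productMap_apply_tmul, map_one, one_mul]
      rfl
  have hpb : IsPullback G.t G.s G.toQuot G.toQuot := by
    refine IsPullback.of_iso (isPullback_SpecMap_of_isPushout _ _ _ _ hpush)
      G.R.isoSpec.symm G.U.isoSpec.symm G.U.isoSpec.symm (Iso.refl _) ?_ ?_ ?_ ?_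
    · exact Scheme.isoSpec_inv_naturality G.t
    · exact Scheme.isoSpec_inv_naturality G.s
    · simp [toQuot_eq]
    · simp [toQuot_eq]
  exact ⟨hpb.isoPullback, hpb.isoPullback_hom_fst, hpb.isoPullback_hom_snd⟩

end

end GrothLib.GrpdQuot
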