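import Groth.Agent.Lib.GrpdQuot.Alg
import Mathlib.RingTheory.LocalRing.ResidueField.Ideal
import Mathlib.LinearAlgebra.Basis.VectorSpace
import Mathlib.RingTheory.TensorProduct.Basic
import Mathlib.LinearAlgebra.Matrix.Adjugate
import Mathlib.LinearAlgebra.Matrix.ToLin

/-!
Affine groupoids whose arrows are spanned by products of functions pulled back along source and
target: the quotient map is finite projective and the groupoid is the kernel pair of it.
-/

universe u

namespace GrothLib.GrpdQuot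

open Matrix TensorProduct

namespace GData

variable {A B C : Type u} [CommRing A] [CommRing B] [CommRing C] (G : GData A B C)

theorem q_s_mul (a : A) (y : B) : G.q (G.s a * y) = G.p (G.s a) * G.q y := by
  rw [map_mul, ← RingHom.comp_apply G.q G.s, ← G.pos.comm, RingHom.comp_apply]

theorem w_s_mul (a : A) (y : B) : G.w (G.s a * y) = G.p (G.t a) * G.w y := by
  rw [map_mul, ← RingHom.comp_apply G.w G.s, ← G.pot.comm, RingHom.comp_apply]

theorem q_t (a : A) : G.q (G.t a) = G.w (G.t a) := RingHom.congr_fun G.qt a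

theorem sum_p_mul_q_eq {ia : Type*} (σ : Finset ia) (c : ia → A) (x : ia → A) (H : A)
    (hH : H ∈ G.inv) (a : A) (h : G.s H * G.t a = ∑ i ∈ σ, G.s (c i) * G.t (x i)) :
    ∑ i ∈ σ, G.p (G.s (c i)) * G.q (G.t (x i)) =
      ∑ i ∈ σ, G.p (G.t (c i)) * G.q (G.t (x i)) := by
  have hq := congrArg G.q h
  have hw := congrArg G.w h
  simp only [map_sum, q_s_mul, w_s_mul, ← q_t] at hq hw
  rw [← hq, ← hw, show G.t H = G.s H from (hH : G.s H = G.t H).symm]

theorem coeff_mem_inv_of_basis {ia : Type*} (c x : ia → A) (φ : ia → B →+ A)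
    (hφ : ∀ i a y, φ i (G.s a * y) = a * φ i y) (σ : Finset ia)
    (hdual : ∀ i ∈ σ, ∀ j ∈ σ, j ≠ i → φ i (G.t (x j)) = 0) (hone : ∀ i ∈ σ, φ i (G.t (x i)) = 1)
    (a : A) (h : G.t a = ∑ i ∈ σ, G.s (c i) * G.t (x i)) (i : ia) (hi : i ∈ σ) : c i ∈ G.inv := by
  obtain ⟨ψ, hψ⟩ := G.pos.dual (φ i) (hφ i)
  have he := congrArg ψ (G.sum_p_mul_q_eq σ c x 1 (one_mem _) a (by rwa [map_one, one_mul]))
  have hev : ∀ r : ia → B, ψ (∑ j ∈ σ, G.p (r j) * G.q (G.t (x j))) = r i := fun r => by
    rw [map_sum, Finset.sum_eq_single i (fun j hj hne => by rw [hψ, hdual i hi j hj hne, map_zero, mul_zero])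
      (fun hn => absurd hi hn), hψ, hone i hi, map_one, mul_one]
  rw [hev (fun j => G.s (c j)), hev (fun j => G.t (c j))] at he
  exact he

section locus

variable {io : Type} [Fintype io] [DecidableEq io] (S : Sys G.s io) {n : ℕ} (x : Fin n → A)

/-- The coordinates of the pullbacks by the target of a finite family of functions. -/
def Z : Matrix io (Fin n) A := Matrix.of fun k i => S.φ k (G.t (x i))

omit [DecidableEq io] in
theorem mat_one_mul_Z : S.mat 1 * G.Z S x = G.Z S x := by
  ext k i
  rw [Matrix.mul_apply]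
  conv_rhs => rw [Z, Matrix.of_apply, ← S.expand (G.t (x i)), map_sum]
  refine Finset.sum_congr rfl fun l _ => ?_
  rw [S.φ_smul, Sys.mat, Sys.cross_apply, one_mul, mul_comm]
  rfl

/-- The functions `a` for which the family becomes a basis after inverting `a`. -/
def locus : Ideal A where
  carrier := {a | ∃ Y : Matrix (Fin n) io A, Y * G.Z S x = a • 1 ∧ G.Z S x * Y = a • S.mat 1}
  zero_mem' := ⟨0, by simp, by simp⟩
  add_mem' := by
    rintro a b ⟨Y, h1, h2⟩ ⟨Y', h1', h2'⟩
    exact ⟨Y + Y', by rw [Matrix.add_mul, h1, h1', add_smul],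
      by rw [Matrix.mul_add, h2, h2', add_smul]⟩
  smul_mem' := by
    rintro r a ⟨Y, h1, h2⟩
    exact ⟨r • Y, by rw [Matrix.smul_mul, h1, smul_smul, smul_eq_mul],
      by rw [Matrix.mul_smul, h2, smul_smul, smul_eq_mul]⟩

theorem exists_notMem_iff {K : Type*} [Field K] (g : A →+* K) :
    (∃ a ∈ G.locus S x, g a ≠ 0) ↔
      ∃ Y : Matrix (Fin n) io K, Y * (G.Z S x).map g = 1 ∧ (G.Z S x).map g * Y = (S.mat 1).map g := by
  constructor
  · rintro ⟨a, ⟨Y, h1, h2⟩, ha⟩
    refine ⟨(g a)⁻¹ • Y.map g, ?_, ?_⟩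
    · rw [Matrix.smul_mul, ← Matrix.map_mul, h1, Matrix.map_smul' _ _ _ (map_mul g),
        Matrix.map_one _ (map_zero g) (map_one g), smul_smul, inv_mul_cancel₀ ha, one_smul]
    · rw [Matrix.mul_smul, ← Matrix.map_mul, h2, Matrix.map_smul' _ _ _ (map_mul g), smul_smul,
        inv_mul_cancel₀ ha, one_smul]
  · rintro ⟨Y, h1, h2⟩
    haveI : (RingHom.ker g).IsPrime := RingHom.ker_isPrime g
    let k := (RingHom.ker g).ResidueField
    let j : k →+* K := Ideal.ResidueField.lift (RingHom.ker g) g le_rfl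
      (fun r hr => isUnit_iff_ne_zero.mpr hr)
    have hj : ∀ r, j (algebraMap A k r) = g r := fun r => Ideal.ResidueField.lift_algebraMap _ _ _ _ r
    letI : Algebra k K := j.toAlgebra
    obtain ⟨π, hπ⟩ := LinearMap.exists_leftInverse_of_injective (Algebra.linearMap k K)
      (LinearMap.ker_eq_bot.mpr j.injective)
    have hπj : ∀ z : k, π (j z) = z := fun z => DFunLike.congr_fun hπ z
    have hlin : ∀ (z : k) (y : K), π (j z * y) = z * π y := fun z y => by
      rw [show j z * y = z • y from (Algebra.smul_def z y).symm, map_smul, smul_eq_mul]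
    have hY0 : ∀ i l, ∃ (num : A) (den : A), den ∉ RingHom.ker g ∧
        π (Y i l) * algebraMap A k den = algebraMap A k num := by
      intro i l
      obtain ⟨⟨num, den⟩, hd⟩ := IsLocalization.surj (nonZeroDivisors (A ⧸ RingHom.ker g)) (π (Y i l))
      obtain ⟨num, rfl⟩ := Ideal.Quotient.mk_surjective num
      obtain ⟨den', hden'⟩ := Ideal.Quotient.mk_surjective (den : A ⧸ RingHom.ker g)
      refine ⟨num, den', fun h => ?_, ?_⟩
      · exact nonZeroDivisors.coe_ne_zero den
          (hden' ▸ Ideal.Quotient.eq_zero_iff_mem.mpr h)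
      · rw [IsScalarTower.algebraMap_apply A (A ⧸ RingHom.ker g) k,
          IsScalarTower.algebraMap_apply A (A ⧸ RingHom.ker g) k, Ideal.Quotient.algebraMap_eq, hden']
        exact hd
    choose num den hden hnum using hY0
    let a : A := ∏ i, ∏ l, den i l
    have ha : g a ≠ 0 := by
      simp only [a, map_prod]
      exact Finset.prod_ne_zero_iff.mpr fun i _ => Finset.prod_ne_zero_iff.mpr fun l _ => hden i l
    have hdvd : ∀ i l, ∃ m, den i l * m = a := fun i l => by
      obtain ⟨m, hm⟩ := (Finset.dvd_prod_of_mem (fun l => den i l) (Finset.mem_univ l)).trans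
        (Finset.dvd_prod_of_mem (fun i => ∏ l, den i l) (Finset.mem_univ i))
      exact ⟨m, hm.symm⟩
    choose m hm using hdvd
    let Y' : Matrix (Fin n) io A := Matrix.of fun i l => num i l * m i l
    have hY' : ∀ i l, g (Y' i l) = g a * j (π (Y i l)) := fun i l => by
      simp only [Y', Matrix.of_apply, map_mul, ← hm i l, ← hj]
      rw [← hnum i l, map_mul]
      ring
    have e1 : (Y' * G.Z S x).map g = (g a) • (1 : Matrix (Fin n) (Fin n) K) := by
      ext i i'
      have h := congrArg π (congrFun (congrFun h1 i) i')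
      simp only [Matrix.mul_apply, Matrix.map_apply, map_sum] at h ⊢
      simp only [← hj, mul_comm (Y i _), hlin] at h
      have h' := congrArg j h
      simp only [map_sum, map_mul, hj] at h'
      simp only [map_mul, hY', mul_assoc, ← Finset.mul_sum, Matrix.smul_apply, smul_eq_mul]
      simp only [mul_comm (j _) (g _)]
      rw [h']
      rcases eq_or_ne i i' with rfl | hne
      · rw [Matrix.one_apply_eq, ← map_one j, hπj, map_one]
      · rw [Matrix.one_apply_ne hne, map_zero, map_zero]
    have e2 : (G.Z S x * Y').map g = (g a) • (S.mat 1).map g := by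
      ext l l'
      have h := congrArg π (congrFun (congrFun h2 l) l')
      simp only [Matrix.mul_apply, Matrix.map_apply, map_sum] at h ⊢
      simp only [← hj, hlin, hπj] at h
      have h' := congrArg j h
      simp only [map_sum, map_mul, hj] at h'
      simp only [map_mul, hY', Matrix.smul_apply, smul_eq_mul, Matrix.map_apply]
      rw [← h', Finset.mul_sum]
      exact Finset.sum_congr rfl fun i _ => by ring
    let Y₁ := (Y' * G.Z S x).adjugate * Y' * S.mat 1
    let d := (Y' * G.Z S x).det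
    have hd : Y₁ * G.Z S x = d • 1 := by
      simp only [Y₁, Matrix.mul_assoc, G.mat_one_mul_Z S x, Matrix.adjugate_mul, d]
    let E := G.Z S x * Y₁
    have hEE : E * E = d • E := by
      simp only [E, Matrix.mul_assoc]
      rw [← Matrix.mul_assoc Y₁ (G.Z S x) Y₁, hd, Matrix.smul_mul, Matrix.one_mul, Matrix.mul_smul]
    have hME : S.mat 1 * E = E := by
      simp only [E, ← Matrix.mul_assoc, G.mat_one_mul_Z S x]
    have hMM : S.mat 1 * S.mat 1 = S.mat 1 := by rw [S.mat_mul, mul_one]
    have hEM : E * S.mat 1 = E := by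
      simp only [E, Y₁, Matrix.mul_assoc, hMM]
    let F := d • S.mat 1 - E
    have hFF : F * (d • 1 - F) = 0 := by
      simp only [F, Matrix.sub_mul, Matrix.mul_sub, Matrix.smul_mul, Matrix.mul_smul, Matrix.mul_one,
        hEE, hME, hEM, hMM, smul_smul]
      module
    have hgd : g d = g a ^ n := by
      simp only [d, RingHom.map_det, RingHom.mapMatrix_apply, e1, Matrix.det_smul, Matrix.det_one,
        Fintype.card_fin, mul_one]
    have hgF : F.map g = 0 := by
      have hadj : (Y' * G.Z S x).adjugate.map g = (g a ^ n * (g a)⁻¹) • (1 : Matrix (Fin n) (Fin n) K) := by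
        have h : ((Y' * G.Z S x).adjugate * (Y' * G.Z S x)).map g =
            ((Y' * G.Z S x).det • (1 : Matrix (Fin n) (Fin n) A)).map g := by rw [Matrix.adjugate_mul]
        rw [Matrix.map_mul, e1, Matrix.map_smul' _ _ _ (map_mul g),
          Matrix.map_one _ (map_zero g) (map_one g), show g (Y' * G.Z S x).det = g a ^ n from hgd,
          Matrix.mul_smul, Matrix.mul_one] at h
        rw [mul_comm, ← smul_smul, ← h, smul_smul, inv_mul_cancel₀ ha, one_smul]
      have hM2 : (S.mat 1).map g * (S.mat 1).map g = (S.mat 1).map g := by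
        rw [← Matrix.map_mul, hMM]
      have e2' : (G.Z S x).map g * Y'.map g = g a • (S.mat 1).map g := by
        rw [← Matrix.map_mul, e2]
      simp only [F, E, Y₁, Matrix.map_sub _ (map_sub g), Matrix.map_smul' _ _ _ (map_mul g),
        Matrix.map_mul, hgd]
      rw [hadj, Matrix.smul_mul, Matrix.one_mul, Matrix.smul_mul,
        Matrix.mul_smul, ← Matrix.mul_assoc, e2', Matrix.smul_mul, hM2, smul_smul,
        mul_assoc, inv_mul_cancel₀ ha, mul_one, sub_self]
    refine ⟨(d • 1 - F).det * d, ⟨(d • 1 - F).det • Y₁, ?_, ?_⟩, ?_⟩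
    · rw [Matrix.smul_mul, hd, smul_smul]
    · have h0 : (d • 1 - F).det • F = 0 := by
        have h := congrArg (fun M => M * (d • 1 - F).adjugate) hFF
        simpa only [Matrix.mul_assoc, Matrix.mul_adjugate, Matrix.mul_smul, Matrix.mul_one,
          Matrix.zero_mul] using h
      rw [Matrix.mul_smul]
      simp only [F, smul_sub, smul_smul, sub_eq_zero] at h0
      exact h0.symm
    · have h1' : g (d • 1 - F).det = g d ^ Fintype.card io := by
        rw [RingHom.map_det, RingHom.mapMatrix_apply, Matrix.map_sub _ (map_sub g), hgF, sub_zero,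
          Matrix.map_smul' _ _ _ (map_mul g), Matrix.map_one _ (map_zero g) (map_one g),
          Matrix.det_smul, Matrix.det_one, mul_one]
      rw [map_mul, h1', hgd]
      exact mul_ne_zero (pow_ne_zero _ (pow_ne_zero _ ha)) (pow_ne_zero _ ha)

theorem exists_notMem_iff_of_point {K : Type*} [Field K] (r : B →+* K) :
    (∃ a ∈ G.locus S x, r (G.s a) ≠ 0) ↔ (∃ a ∈ G.locus S x, r (G.t a) ≠ 0) := by
  let S₁ := S.baseChange G.pos
  let S₂ := S.baseChange G.pot
  let U := S₁.cross S₂ 1
  let V := S₂.cross S₁ 1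
  let Zs : Matrix io (Fin n) B := (G.Z S x).map G.s
  let Zt : Matrix io (Fin n) B := (G.Z S x).map G.t
  have hs : ∀ k i, Zs k i = S₁.φ k (G.q (G.t (x i))) := fun k i => (S.baseChange_φ' G.pos k _).symm
  have ht : ∀ k i, Zt k i = S₂.φ k (G.q (G.t (x i))) := fun k i => by
    rw [q_t]; exact (S.baseChange_φ' G.pot k _).symm
  have hU : U * Zt = Zs := by
    ext k i
    rw [Matrix.mul_apply, hs]
    conv_rhs => rw [← S₂.expand (G.q (G.t (x i))), map_sum]
    refine Finset.sum_congr rfl fun l _ => ?_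
    rw [S₁.φ_smul, ht]
    simp only [U, Sys.cross_apply, one_mul, mul_comm]
  have hV : V * Zs = Zt := by
    ext k i
    rw [Matrix.mul_apply, ht]
    conv_rhs => rw [← S₁.expand (G.q (G.t (x i))), map_sum]
    refine Finset.sum_congr rfl fun l _ => ?_
    rw [S₂.φ_smul, hs]
    simp only [V, Sys.cross_apply, one_mul, mul_comm]
  have h1 : S₁.mat 1 = (S.mat 1).map G.s := by rw [← S.baseChange_mat G.pos, map_one]
  have h2 : S₂.mat 1 = (S.mat 1).map G.t := by rw [← S.baseChange_mat G.pot, map_one]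
  have hUV : U * V = (S.mat 1).map G.s := by rw [Sys.cross_mul_cross, mul_one, ← h1, Sys.mat]
  have hVU : V * U = (S.mat 1).map G.t := by rw [Sys.cross_mul_cross, mul_one, ← h2, Sys.mat]
  have hMU : (S.mat 1).map G.s * U = U := by
    rw [← h1, Sys.mat, Sys.cross_mul_cross, one_mul]
  have hMV : (S.mat 1).map G.t * V = V := by
    rw [← h2, Sys.mat, Sys.cross_mul_cross, one_mul]
  have hU' : U.map r * (G.Z S x).map (r.comp G.t) = (G.Z S x).map (r.comp G.s) := by
    simpa only [Zs, Zt, Matrix.map_mul, Matrix.map_map, RingHom.coe_comp] using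
      congrArg (fun M : Matrix io (Fin n) B => M.map r) hU
  have hV' : V.map r * (G.Z S x).map (r.comp G.s) = (G.Z S x).map (r.comp G.t) := by
    simpa only [Zs, Zt, Matrix.map_mul, Matrix.map_map, RingHom.coe_comp] using
      congrArg (fun M : Matrix io (Fin n) B => M.map r) hV
  rw [show (∃ a ∈ G.locus S x, r (G.s a) ≠ 0) ↔ _ from G.exists_notMem_iff S x (r.comp G.s),
    show (∃ a ∈ G.locus S x, r (G.t a) ≠ 0) ↔ _ from G.exists_notMem_iff S x (r.comp G.t)]
  constructor
  · rintro ⟨Y, hY1, hY2⟩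
    refine ⟨Y * U.map r, by rw [Matrix.mul_assoc, hU', hY1], ?_⟩
    rw [← hV', ← Matrix.mul_assoc, Matrix.mul_assoc (V.map r), hY2]
    have := congrArg (fun M : Matrix io io B => M.map r)
      (show V * (S.mat 1).map G.s * U = (S.mat 1).map G.t by rw [Matrix.mul_assoc, hMU, hVU])
    simpa only [Matrix.map_mul, Matrix.map_map, RingHom.coe_comp] using this
  · rintro ⟨Y, hY1, hY2⟩
    refine ⟨Y * V.map r, by rw [Matrix.mul_assoc, hV', hY1], ?_⟩
    rw [← hU', ← Matrix.mul_assoc, Matrix.mul_assoc (U.map r), hY2]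
    have := congrArg (fun M : Matrix io io B => M.map r)
      (show U * (S.mat 1).map G.t * V = (S.mat 1).map G.s by rw [Matrix.mul_assoc, hMV, hUV])
    simpa only [Matrix.map_mul, Matrix.map_map, RingHom.coe_comp] using this

end locus

/-- The hypothesis that the arrows are spanned by products of pullbacks of functions. -/
def Spanned : Prop := ∀ y : B, y ∈ AddSubgroup.closure {z : B | ∃ a a', G.s a * G.t a' = z}

theorem exists_notMem_field {io : Type} [Fintype io] [DecidableEq io] (S : Sys G.s io)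
    (hG : G.Spanned) {k : Type*} [Field k] (g : A →+* k) :
    ∃ (n : ℕ) (x : Fin n → A), ∃ a ∈ G.locus S x, g a ≠ 0 := by
  let M := (S.mat 1).map g
  let col : A → (io → k) := fun a l => g (S.φ l (G.t a))
  obtain ⟨b, hb, hbspan, hbli⟩ := exists_linearIndependent k (Set.range col)
  have : Fintype b := hbli.setFinite.fintype
  choose xa hxa using fun v : b => hb v.2
  let x : Fin (Fintype.card b) → A := fun i => xa ((Fintype.equivFin b).symm i)
  refine ⟨_, x, (G.exists_notMem_iff S x g).mpr ?_⟩
  let Zk := (G.Z S x).map g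
  have hcol : ∀ i l, Zk l i = ((Fintype.equivFin b).symm i : io → k) l := fun i l =>
    congrFun (hxa ((Fintype.equivFin b).symm i)) l
  have hinj : Function.Injective Zk.mulVecLin := by
    rw [Matrix.coe_mulVecLin, Matrix.mulVec_injective_iff]
    have hc : Zk.col = fun i => ((Fintype.equivFin b).symm i : io → k) := by
      ext i l
      exact hcol i l
    rw [hc]
    exact hbli.comp _ (Equiv.injective _)
  have hmem : ∀ l, M.col l ∈ LinearMap.range Zk.mulVecLin := by
    intro l
    have hr : Set.range Zk.col = b := by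
      ext v
      constructor
      · rintro ⟨i, rfl⟩
        rw [show Zk.col i = ((Fintype.equivFin b).symm i : io → k) from funext (hcol i)]
        exact Subtype.coe_prop _
      · intro hv
        exact ⟨Fintype.equivFin b ⟨v, hv⟩, funext fun j => by
          rw [Matrix.col_apply, hcol, Equiv.symm_apply_apply]⟩
    rw [Matrix.range_mulVecLin, hr, hbspan]
    let Φ : B →+ (io → k) := AddMonoidHom.mk' (fun y j => g (S.φ j y)) fun y z => by
      ext j; simp
    have hΦ : ∀ y, Φ y ∈ Submodule.span k (Set.range col) := by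
      intro y
      induction hG y using AddSubgroup.closure_induction with
      | mem z hz =>
        obtain ⟨a, a', rfl⟩ := hz
        have : Φ (G.s a * G.t a') = g a • col a' := funext fun j => by
          change g (S.φ j (G.s a * G.t a')) = g a * g (S.φ j (G.t a'))
          rw [S.φ_smul, map_mul]
        rw [this]
        exact Submodule.smul_mem _ _ (Submodule.subset_span ⟨a', rfl⟩)
      | zero => rw [map_zero]; exact zero_mem _
      | add y z _ _ hy hz => rw [map_add]; exact add_mem hy hz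
      | neg y _ hy => rw [map_neg]; exact neg_mem hy
    have : M.col l = Φ (S.b l) := funext fun j => by
      simp [M, Sys.mat, Sys.cross_apply, Φ]
    rw [this]
    exact hΦ _
  choose W hW using hmem
  let Wm : Matrix (Fin (Fintype.card b)) io k := Matrix.of fun i l => W l i
  have hZW : Zk * Wm = M := by
    ext j l
    have := congrFun (hW l) j
    simpa [Matrix.mul_apply, Matrix.mulVec, dotProduct, Wm] using this
  obtain ⟨L, hL⟩ := LinearMap.exists_leftInverse_of_injective Zk.mulVecLin
    (LinearMap.ker_eq_bot.mpr hinj)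
  let Y₀ := LinearMap.toMatrix' L
  have hY₀ : Y₀ * Zk = 1 := by
    apply Matrix.toLin'.injective
    rw [Matrix.toLin'_mul, Matrix.toLin'_toMatrix', Matrix.toLin'_one]
    exact hL
  have hMZ : M * Zk = Zk := by
    rw [← Matrix.map_mul, G.mat_one_mul_Z S x]
  refine ⟨Y₀ * M, by rw [Matrix.mul_assoc, hMZ, hY₀], ?_⟩
  change Zk * (Y₀ * M) = M
  rw [← hZW, ← Matrix.mul_assoc, ← Matrix.mul_assoc, Matrix.mul_assoc Zk Y₀ Zk, hY₀, Matrix.mul_one]

theorem exists_inv_mem_locus {io : Type} [Fintype io] [DecidableEq io] (S : Sys G.s io)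
    [letI := G.s.toAlgebra; Module.Finite A B] [letI := G.s.toAlgebra; Module.Projective A B]
    {n : ℕ} (x : Fin n → A) (P : Ideal A) [P.IsPrime]
    (h : ∃ a ∈ G.locus S x, a ∉ P) :
    ∃ H ∈ G.inv, H ∈ G.locus S x ∧ H ∉ P := by
  classical
  have hfin : {Q : Ideal B | Q.IsPrime ∧ Q.comap G.s = P}.Finite := by
    letI := G.s.toAlgebra
    refine (Algebra.QuasiFinite.finite_primesOver (R := A) (S := B) P).subset ?_
    rintro Q ⟨hQ, hQP⟩
    exact ⟨hQ, ⟨hQP.symm⟩⟩
  have hsub : ¬ ((G.locus S x : Set A) ⊆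
      ⋃ Q ∈ (↑hfin.toFinset : Set (Ideal B)), (Q.comap G.t : Ideal A)) := by
    rw [Ideal.subset_union_prime (⊤ : Ideal B) ⊤ fun Q hQ _ _ => by
      haveI := ((Set.Finite.mem_toFinset hfin).mp hQ).1
      exact Ideal.IsPrime.comap G.t]
    rintro ⟨Q, hQ, hle⟩
    obtain ⟨hQp, hQP⟩ := (Set.Finite.mem_toFinset hfin).mp hQ
    haveI := hQp
    obtain ⟨a, ha, haP⟩ := h
    have hker : ∀ y : B, algebraMap B Q.ResidueField y = 0 ↔ y ∈ Q := fun y =>
      Ideal.algebraMap_residueField_eq_zero
    have := (G.exists_notMem_iff_of_point S x (algebraMap B Q.ResidueField)).mp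
      ⟨a, ha, fun h0 => haP (by rw [← hQP]; exact (hker _).mp h0)⟩
    obtain ⟨a', ha', hne⟩ := this
    exact hne ((hker _).mpr (hle ha'))
  obtain ⟨f, hf1, hf⟩ := Set.not_subset.mp hsub
  refine ⟨G.N S f, G.N_mem_inv S f,
    (Ideal.span_singleton_le_iff_mem _).mpr hf1 (G.N_mem_span S f), ?_⟩
  refine S.det_notMem P (G.t f) (fun Q hQ hQP hfQ => hf ?_)
  exact Set.mem_biUnion ((Set.Finite.mem_toFinset hfin).mpr ⟨hQ, hQP⟩) hfQ

theorem sum_smul_eq_of_locus {io : Type} [Fintype io] [DecidableEq io] (S : Sys G.s io) {n : ℕ}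
    (x : Fin n → A) {H : A} (hHi : H ∈ G.inv) {Y : Matrix (Fin n) io A}
    (hY1 : Y * G.Z S x = H • 1) (hY2 : G.Z S x * Y = H • S.mat 1) (a : A) :
    (∀ i, H * (∑ k, Y i k * S.φ k (G.t a)) ∈ G.inv) ∧
      H * H * a = ∑ i, (H * ∑ k, Y i k * S.φ k (G.t a)) * x i := by
  let c : Fin n → A := fun i => ∑ k, Y i k * S.φ k (G.t a)
  have hexp : G.s H * G.t a = ∑ i, G.s (c i) * G.t (x i) := by
    have hcol : ∀ k, ∑ i, G.Z S x k i * c i = H * S.φ k (G.t a) := by
      intro k
      have h := congrArg (fun M : Matrix io io A => (M *ᵥ fun l => S.φ l (G.t a)) k) hY2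
      simp only [← Matrix.mulVec_mulVec, Matrix.smul_mulVec, Pi.smul_apply, smul_eq_mul] at h
      rw [show ((S.mat 1) *ᵥ fun l => S.φ l (G.t a)) k = S.φ k (G.t a) by
        conv_rhs => rw [← S.expand (G.t a), map_sum]
        refine Finset.sum_congr rfl fun l _ => ?_
        rw [S.φ_smul]
        simp only [Sys.mat, Sys.cross_apply, one_mul, mul_comm]] at h
      exact h
    conv_rhs => enter [2, i]; rw [← S.expand (G.t (x i)), Finset.mul_sum]
    rw [Finset.sum_comm]
    conv_lhs => rw [← S.expand (G.t a), Finset.mul_sum]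
    refine Finset.sum_congr rfl fun k _ => ?_
    rw [← mul_assoc, ← map_mul, ← hcol k, map_sum, Finset.sum_mul]
    refine Finset.sum_congr rfl fun i _ => ?_
    rw [map_mul, Z, Matrix.of_apply]
    ring
  have hδ : ∀ i, H * c i ∈ G.inv := by
    have h := G.sum_p_mul_q_eq Finset.univ c x H hHi a hexp
    have h2 : ∀ k, ∑ i, (G.s (c i) - G.t (c i)) * G.s (G.Z S x k i) = 0 := by
      intro k
      have := congrArg ((S.baseChange G.pos).φ k) h
      simp only [map_sum, S.baseChange_φ G.pos] at this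
      rw [Finset.sum_congr rfl fun i _ => sub_mul (G.s (c i)) (G.t (c i)) (G.s (G.Z S x k i)),
        Finset.sum_sub_distrib]
      exact sub_eq_zero.mpr this
    intro i
    have h3 : ∑ k, G.s (Y i k) * ∑ j, (G.s (c j) - G.t (c j)) * G.s (G.Z S x k j) = 0 := by
      simp [h2]
    simp only [Finset.mul_sum] at h3
    rw [Finset.sum_comm] at h3
    have h4 : ∀ j, ∑ k, G.s (Y i k) * ((G.s (c j) - G.t (c j)) * G.s (G.Z S x k j)) =
        (G.s (c j) - G.t (c j)) * G.s ((H • (1 : Matrix (Fin n) (Fin n) A)) i j) := fun j => by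
      rw [← hY1, Matrix.mul_apply, map_sum G.s (fun k => Y i k * G.Z S x k j), Finset.mul_sum]
      exact Finset.sum_congr rfl fun k _ => by rw [map_mul]; ring
    rw [Finset.sum_congr rfl fun j _ => h4 j, Finset.sum_eq_single i (fun j _ hj => by
      rw [Matrix.smul_apply, Matrix.one_apply_ne hj.symm, smul_zero, map_zero, mul_zero])
      (fun h => absurd (Finset.mem_univ i) h), Matrix.smul_apply, Matrix.one_apply_eq, smul_eq_mul,
      mul_one] at h3
    change G.s (H * c i) = G.t (H * c i)
    rw [map_mul, map_mul, ← show G.s H = G.t H from hHi]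
    linear_combination h3
  refine ⟨hδ, ?_⟩
  have h := congrArg G.e hexp
  simp only [map_sum, map_mul, G.e_s_apply, G.e_t_apply] at h
  rw [mul_assoc, h, Finset.mul_sum]
  exact Finset.sum_congr rfl fun i _ => (mul_assoc _ _ _).symm

theorem finite_projective_and_bijective [letI := G.s.toAlgebra; Module.Finite A B]
    [letI := G.s.toAlgebra; Module.Projective A B] (hG : G.Spanned) :
    (Module.Finite G.inv A ∧ Module.Projective G.inv A) ∧
      ∀ Φ : A ⊗[G.inv] A →+ B, (∀ a a', Φ (a ⊗ₜ a') = G.t a * G.s a') → Function.Bijective Φ := by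
  classical
  obtain ⟨N, ⟨S⟩⟩ := Sys.exists_of_projective (s := G.s)
  let good : Set G.inv := {H | ∃ (n : ℕ) (x : Fin n → A), (H : A) ∈ G.locus S x}
  have hgood : Ideal.span good = ⊤ := by
    by_contra hne
    obtain ⟨m, hm, hle⟩ := Ideal.exists_le_maximal _ hne
    haveI := hm
    haveI := G.isIntegral_inv
    obtain ⟨P, -, hP, hPm⟩ := Ideal.exists_ideal_over_prime_of_isIntegral (R := G.inv) m (⊥ : Ideal A)
      (by
        intro y hy
        rw [Ideal.mem_comap, Ideal.mem_bot] at hy
        rw [show y = 0 from Subtype.ext hy]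
        exact zero_mem _)
    haveI := hP
    obtain ⟨n, x, a, ha, hne'⟩ := G.exists_notMem_field S hG (algebraMap A P.ResidueField)
    obtain ⟨H, hHi, hH, hHP⟩ := G.exists_inv_mem_locus S x P
      ⟨a, ha, fun h => hne' (Ideal.algebraMap_residueField_eq_zero.mpr h)⟩
    exact hHP (hPm ▸ hle (Ideal.subset_span ⟨n, x, hH⟩) : (⟨H, hHi⟩ : G.inv) ∈ P.comap (algebraMap G.inv A))
  obtain ⟨σ, hσ⟩ := (Ideal.span_eq_top_iff_finite _).mp hgood
  have hdat : ∀ H : σ, ∃ (n : ℕ) (x : Fin n → A) (Y : Matrix (Fin n) (Fin N) A),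
      Y * G.Z S x = ((H : G.inv) : A) • 1 ∧ G.Z S x * Y = ((H : G.inv) : A) • S.mat 1 := fun H => by
    obtain ⟨n, x, Y, hY⟩ := hσ.1 H.2
    exact ⟨n, x, Y, hY⟩
  choose n x Y hY using hdat
  let ψ : ∀ (H : σ), Fin (n H) → (A →ₗ[G.inv] G.inv) := fun H i =>
    { toFun := fun a => ⟨((H : G.inv) : A) * ∑ k, Y H i k * S.φ k (G.t a),
        (G.sum_smul_eq_of_locus S (x H) (H : G.inv).2 (hY H).1 (hY H).2 a).1 i⟩
      map_add' := fun a b => Subtype.ext (by
        simp only [map_add, mul_add, Finset.sum_add_distrib]; rfl)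
      map_smul' := fun r a => Subtype.ext (by
        change _ = (r : A) * _
        have e : G.t (r • a) = G.s (r : A) * G.t a := by
          rw [show r • a = (r : A) * a from rfl, map_mul, show G.t (r : A) = G.s r from r.2.symm]
        simp only [e, S.φ_smul, RingHom.id_apply]
        rw [← mul_assoc, mul_comm (r : A), mul_assoc, Finset.mul_sum (a := (r : A))]
        congr 1
        exact Finset.sum_congr rfl fun k _ => by ring) }
  have hψ : ∀ (H : σ) (a : A),
      ((H : G.inv) * (H : G.inv)) • a = ∑ i, ψ H i a • x H i := fun H a =>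
    (G.sum_smul_eq_of_locus S (x H) (H : G.inv).2 (hY H).1 (hY H).2 a).2
  have hsq : Ideal.span ((fun H : G.inv => H ^ 2) '' (σ : Set G.inv)) = ⊤ :=
    Ideal.span_pow_eq_top _ hσ.2 2
  rw [Ideal.eq_top_iff_one, show (fun H : G.inv => H ^ 2) '' (σ : Set G.inv) =
    ↑(σ.image fun H : G.inv => H ^ 2) from Finset.coe_image.symm] at hsq
  obtain ⟨u, -, hu⟩ := Submodule.mem_span_finset.mp hsq
  have hone : ∃ u' : σ → G.inv, ∑ H, u' H * ((H : G.inv) * (H : G.inv)) = 1 := by
    have : (1 : G.inv) ∈ Ideal.span (Set.range fun H : σ => (H : G.inv) * (H : G.inv)) := by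
      rw [← hu]
      refine Ideal.sum_mem _ fun z hz => Ideal.mul_mem_left _ _ (Ideal.subset_span ?_)
      obtain ⟨H, hH, rfl⟩ := Finset.mem_image.mp hz
      exact ⟨⟨H, hH⟩, (sq H).symm⟩
    exact (Submodule.mem_span_range_iff_exists_fun _).mp this
  obtain ⟨u', hu'⟩ := hone
  have hrepr : ∀ a : A, a = ∑ H, ∑ i, (u' H * ψ H i a) • x H i := fun a => by
    conv_lhs => rw [← one_smul G.inv a, ← hu', Finset.sum_smul]
    refine Finset.sum_congr rfl fun H _ => ?_
    rw [mul_smul, hψ, Finset.smul_sum]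
    exact Finset.sum_congr rfl fun i _ => smul_smul _ _ _
  let f : (((H : σ) × Fin (n H)) → G.inv) →ₗ[G.inv] A :=
    Fintype.linearCombination G.inv (fun Hi : (H : σ) × Fin (n H) => x Hi.1 Hi.2)
  let g : A →ₗ[G.inv] (((H : σ) × Fin (n H)) → G.inv) :=
    LinearMap.pi fun Hi => u' Hi.1 • ψ Hi.1 Hi.2
  have hfg : f.comp g = LinearMap.id := LinearMap.ext fun a => by
    rw [LinearMap.comp_apply, LinearMap.id_apply, Fintype.linearCombination_apply, Fintype.sum_sigma]
    conv_rhs => rw [hrepr a]
    rfl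
  refine ⟨⟨Module.Finite.of_surjective f fun a => ⟨g a, DFunLike.congr_fun hfg a⟩,
    Module.Projective.of_split g f hfg⟩, fun Φ hΦ => ⟨?_, fun y => ?_⟩⟩
  · rw [injective_iff_map_eq_zero]
    intro ξ hξ
    have key : ∀ H : σ, ((H : G.inv) * ((H : G.inv) * (H : G.inv))) • ξ = 0 := by
      intro H
      let Ψ : Fin (n H) → A ⊗[G.inv] A →ₗ[G.inv] A := fun i =>
        TensorProduct.lift ((LinearMap.lsmul G.inv A).comp (ψ H i))
      have hsplit : ((H : G.inv) * (H : G.inv)) • ξ = ∑ i, x H i ⊗ₜ Ψ i ξ := by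
        clear hξ
        induction ξ using TensorProduct.induction_on with
        | zero => simp
        | tmul a a' =>
          rw [TensorProduct.smul_tmul', hψ, TensorProduct.sum_tmul]
          exact Finset.sum_congr rfl fun i _ => TensorProduct.smul_tmul _ _ _
        | add ξ ξ' hx hy =>
          rw [smul_add, hx, hy, ← Finset.sum_add_distrib]
          exact Finset.sum_congr rfl fun i _ => by rw [map_add, TensorProduct.tmul_add]
      let c : Fin (n H) → A := fun i => Ψ i ξ
      have hsmul : ∀ (r : G.inv) (ζ : A ⊗[G.inv] A), Φ (r • ζ) = G.s (r : A) * Φ ζ := by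
        intro r ζ
        induction ζ using TensorProduct.induction_on with
        | zero => simp
        | tmul a a' =>
          rw [TensorProduct.smul_tmul', hΦ, hΦ, show r • a = (r : A) * a from rfl, map_mul,
            show G.t (r : A) = G.s r from r.2.symm, mul_assoc]
        | add ζ ζ' hx hy => rw [smul_add, map_add, hx, hy, map_add, mul_add]
      have h0 : ∑ i, G.s (c i) * G.t (x H i) = 0 := by
        have := congrArg Φ hsplit
        rw [hsmul, hξ, mul_zero, map_sum] at this
        rw [this]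
        exact Finset.sum_congr rfl fun i _ => by rw [hΦ, mul_comm]
      have hZ : (G.Z S (x H)) *ᵥ c = 0 := funext fun k => by
        have := congrArg (S.φ k) h0
        simp only [map_sum, S.φ_smul, map_zero] at this
        simpa [Matrix.mulVec, dotProduct, Z, mul_comm] using this
      have hHc : ∀ i, ((H : G.inv) : A) * c i = 0 := fun i => by
        have := congrFun (congrArg (fun M : Matrix (Fin (n H)) (Fin (n H)) A => M *ᵥ c) (hY H).1) i
        simpa [← Matrix.mulVec_mulVec, hZ, Matrix.smul_mulVec] using this.symm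
      rw [mul_smul, hsplit, Finset.smul_sum]
      refine Finset.sum_eq_zero fun i _ => ?_
      rw [← TensorProduct.tmul_smul, show (H : G.inv) • Ψ i ξ = ((H : G.inv) : A) * c i from rfl,
        hHc, TensorProduct.tmul_zero]
    have h3 : Ideal.span ((fun H : G.inv => H ^ 3) '' (σ : Set G.inv)) = ⊤ :=
      Ideal.span_pow_eq_top _ hσ.2 3
    have : (1 : G.inv) ∈ LinearMap.ker (LinearMap.toSpanSingleton G.inv (A ⊗[G.inv] A) ξ) := by
      have hle : Ideal.span ((fun H : G.inv => H ^ 3) '' (σ : Set G.inv)) ≤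
          LinearMap.ker (LinearMap.toSpanSingleton G.inv (A ⊗[G.inv] A) ξ) := by
        rw [Ideal.span_le]
        rintro _ ⟨H, hH, rfl⟩
        simp only [SetLike.mem_coe, LinearMap.mem_ker, LinearMap.toSpanSingleton_apply]
        rw [show H ^ 3 = H * (H * H) by ring]
        exact key ⟨H, hH⟩
      exact hle (h3 ▸ Submodule.mem_top)
    simpa using this
  · induction hG y using AddSubgroup.closure_induction with
    | mem z hz =>
      obtain ⟨a, a', rfl⟩ := hz
      exact ⟨a' ⊗ₜ a, (hΦ _ _).trans (mul_comm _ _)⟩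
    | zero => exact ⟨0, map_zero _⟩
    | add y z _ _ hy hz =>
      obtain ⟨a, ha⟩ := hy
      obtain ⟨b, hb⟩ := hz
      exact ⟨a + b, by rw [map_add, ha, hb]⟩
    | neg y _ hy =>
      obtain ⟨a, ha⟩ := hy
      exact ⟨-a, by rw [map_neg, ha]⟩

end GData

end GrothLib.GrpdQuot
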