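import Groth.Agent.Lib.GrpdQuot.Points
import Mathlib.AlgebraicGeometry.Morphisms.Flat
import Mathlib.AlgebraicGeometry.Morphisms.FinitePresentation
import Mathlib.AlgebraicGeometry.Morphisms.Finite

/-!
Restriction of a groupoid scheme to an invariant open set of objects.
-/

universe u

open CategoryTheory CategoryTheory.Limits AlgebraicGeometry

namespace GrothLib.GrpdQuot

open GrothLib.GrpSchField (cmp cmp_congr comp_cmp)

noncomputable section

variable {S : Scheme.{u}} (G : Grpd.GroupoidScheme S)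

theorem i_i : G.i ≫ G.i = 𝟙 G.R := by
  have hii : (G.i ≫ G.i) ≫ G.s = G.i ≫ G.t := by rw [Category.assoc, G.i_s]
  have hi1 : G.i ≫ G.s = (𝟙 G.R : G.R ⟶ G.R) ≫ G.t := by rw [Category.id_comp, G.i_s]
  have e₂ : cmp G G.i (𝟙 G.R) hi1 = G.s ≫ G.e := by
    refine (cmp_congr G hi1 (Category.id_comp G.i).symm rfl).trans ?_
    exact (G.i_comp (𝟙 G.R)).trans (by rw [Category.id_comp])
  have h' : (G.i ≫ G.i) ≫ G.s = cmp G G.i (𝟙 G.R) hi1 ≫ G.t := by
    rw [cmp_t]; exact hii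
  have key := cmp_inv_left' G G.i (𝟙 G.R) hi1 h'
  have e₃ : (G.i ≫ G.i) ≫ G.s ≫ G.e = G.s ≫ G.e := by
    rw [Category.assoc, ← Category.assoc G.i G.s, G.i_s, ← Category.assoc G.i G.t, G.i_t]
  refine (G.comp_e (G.i ≫ G.i)).symm.trans (Eq.trans ?_ key)
  exact cmp_congr G _ rfl (e₃.trans e₂.symm)

theorem isIso_i : IsIso G.i := ⟨G.i, i_i G, i_i G⟩

theorem isFinite_t [IsFinite G.s] : IsFinite G.t := by
  haveI := isIso_i G
  rw [← G.i_s]
  infer_instance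

theorem flat_t [Flat G.s] : Flat G.t := by
  haveI := isIso_i G
  rw [← G.i_s]
  infer_instance

theorem locallyOfFinitePresentation_t [LocallyOfFinitePresentation G.s] :
    LocallyOfFinitePresentation G.t := by
  haveI := isIso_i G
  rw [← G.i_s]
  infer_instance

variable (W : G.U.Opens) (hW : G.s ⁻¹ᵁ W = G.t ⁻¹ᵁ W)

theorem range_le_preimage {X : Scheme.{u}} (f : X ⟶ G.R) (g : X ⟶ W.toScheme)
    (h : f ≫ G.s = g ≫ W.ι) : Set.range f ⊆ Set.range (G.s ⁻¹ᵁ W).ι := by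
  rintro _ ⟨x, rfl⟩
  rw [Scheme.Opens.range_ι]
  change G.s (f x) ∈ W
  rw [← Scheme.Hom.comp_apply, h, Scheme.Hom.comp_apply]
  exact (g x).2

/-- A morphism to the arrows over an open set of objects. -/
def liftR {X : Scheme.{u}} (f : X ⟶ G.R) (g : X ⟶ W.toScheme) (h : f ≫ G.s = g ≫ W.ι) :
    X ⟶ (G.s ⁻¹ᵁ W).toScheme :=
  IsOpenImmersion.lift (G.s ⁻¹ᵁ W).ι f (range_le_preimage G W f g h)

@[reassoc]
theorem liftR_ι {X : Scheme.{u}} (f : X ⟶ G.R) (g : X ⟶ W.toScheme) (h : f ≫ G.s = g ≫ W.ι) :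
    liftR G W f g h ≫ (G.s ⁻¹ᵁ W).ι = f :=
  IsOpenImmersion.lift_fac _ _ _

/-- The target map on arrows over an invariant open set. -/
def tRes : (G.s ⁻¹ᵁ W).toScheme ⟶ W.toScheme :=
  G.t.resLE W (G.s ⁻¹ᵁ W) hW.le

theorem tRes_ι : tRes G W hW ≫ W.ι = (G.s ⁻¹ᵁ W).ι ≫ G.t := Scheme.Hom.resLE_comp_ι _ _

theorem sRes_ι : (G.s ∣_ W) ≫ W.ι = (G.s ⁻¹ᵁ W).ι ≫ G.s := morphismRestrict_ι _ _

theorem pullback_cond {T : Scheme.{u}} {α β : T ⟶ (G.s ⁻¹ᵁ W).toScheme}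
    (h : α ≫ (G.s ∣_ W) = β ≫ tRes G W hW) :
    (α ≫ (G.s ⁻¹ᵁ W).ι) ≫ G.s = (β ≫ (G.s ⁻¹ᵁ W).ι) ≫ G.t := by
  rw [Category.assoc, Category.assoc, ← sRes_ι, ← tRes_ι G W hW, ← Category.assoc, h, Category.assoc]

/-- The composition on arrows over an invariant open set. -/
def cRes : pullback (G.s ∣_ W) (tRes G W hW) ⟶ (G.s ⁻¹ᵁ W).toScheme :=
  liftR G W (cmp G (pullback.fst _ _ ≫ (G.s ⁻¹ᵁ W).ι) (pullback.snd _ _ ≫ (G.s ⁻¹ᵁ W).ι)
      (pullback_cond G W hW pullback.condition))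
    (pullback.snd _ _ ≫ (G.s ∣_ W)) (by rw [cmp_s, Category.assoc, Category.assoc, sRes_ι])

theorem cRes_ι {T : Scheme.{u}} (α β : T ⟶ (G.s ⁻¹ᵁ W).toScheme)
    (h : α ≫ (G.s ∣_ W) = β ≫ tRes G W hW) :
    (pullback.lift α β h ≫ cRes G W hW) ≫ (G.s ⁻¹ᵁ W).ι =
      cmp G (α ≫ (G.s ⁻¹ᵁ W).ι) (β ≫ (G.s ⁻¹ᵁ W).ι) (pullback_cond G W hW h) := by
  rw [Category.assoc, cRes, liftR_ι, comp_cmp]
  exact cmp_congr G _ (pullback.lift_fst_assoc _ _ _ _) (pullback.lift_snd_assoc _ _ _ _)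

/-- The restriction of a groupoid scheme to an invariant open set of objects. -/
def restrict : Grpd.GroupoidScheme S where
  U := W.toScheme
  R := (G.s ⁻¹ᵁ W).toScheme
  pU := W.ι ≫ G.pU
  pR := (G.s ⁻¹ᵁ W).ι ≫ G.pR
  s := G.s ∣_ W
  t := tRes G W hW
  e := liftR G W (W.ι ≫ G.e) (𝟙 _) (by rw [Category.assoc, G.e_s, Category.comp_id, Category.id_comp])
  i := liftR G W ((G.s ⁻¹ᵁ W).ι ≫ G.i) (tRes G W hW) (by rw [Category.assoc, G.i_s, tRes_ι])
  c := cRes G W hW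
  s_over := by rw [← Category.assoc, sRes_ι, Category.assoc, G.s_over]
  t_over := by rw [← Category.assoc, tRes_ι, Category.assoc, G.t_over]
  comp_s α β h := by
    rw [← cancel_mono W.ι, Category.assoc, sRes_ι, ← Category.assoc, cRes_ι, cmp_s,
      Category.assoc, ← sRes_ι, Category.assoc]
  comp_t α β h := by
    rw [← cancel_mono W.ι, Category.assoc, tRes_ι, ← Category.assoc, cRes_ι, cmp_t,
      Category.assoc, ← tRes_ι G W hW, Category.assoc]
  assoc α β γ h₁ h₂ := by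
    rw [← cancel_mono (G.s ⁻¹ᵁ W).ι]
    refine (cRes_ι G W hW _ _ _).trans ?_
    refine (cmp_congr G _ (cRes_ι G W hW α β h₁) rfl).trans ?_
    refine (G.assoc _ _ _ (pullback_cond G W hW h₁) (pullback_cond G W hW h₂)).trans ?_
    refine (cmp_congr G _ rfl (cRes_ι G W hW β γ h₂).symm).trans ?_
    exact (cRes_ι G W hW _ _ _).symm
  e_s := by
    rw [← cancel_mono W.ι, Category.assoc, sRes_ι, ← Category.assoc, liftR_ι, Category.assoc, G.e_s,
      Category.comp_id, Category.id_comp]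
  e_t := by
    rw [← cancel_mono W.ι, Category.assoc, tRes_ι, ← Category.assoc, liftR_ι, Category.assoc, G.e_t,
      Category.comp_id, Category.id_comp]
  comp_e α := by
    rw [← cancel_mono (G.s ⁻¹ᵁ W).ι, cRes_ι]
    refine (cmp_congr G _ rfl ?_).trans (G.comp_e _)
    simp only [Category.assoc, liftR_ι]
    rw [← Category.assoc (G.s ∣_ W), sRes_ι, Category.assoc]
  e_comp α := by
    rw [← cancel_mono (G.s ⁻¹ᵁ W).ι, cRes_ι]
    refine (cmp_congr G _ ?_ rfl).trans (G.e_comp _)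
    simp only [Category.assoc, liftR_ι]
    rw [← Category.assoc (tRes G W hW), tRes_ι, Category.assoc]
  i_s := by
    rw [← cancel_mono W.ι]
    simp only [Category.assoc, sRes_ι, liftR_ι_assoc, G.i_s]
    exact (tRes_ι G W hW).symm
  i_t := by
    rw [← cancel_mono W.ι]
    simp only [Category.assoc, tRes_ι, liftR_ι_assoc, G.i_t]
    exact (sRes_ι G W).symm
  comp_i α := by
    rw [← cancel_mono (G.s ⁻¹ᵁ W).ι, cRes_ι]
    refine (cmp_congr G _ rfl (by rw [Category.assoc, liftR_ι, ← Category.assoc])).trans ((G.comp_i _).trans ?_)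
    simp only [Category.assoc, liftR_ι]
    rw [← Category.assoc (tRes G W hW), tRes_ι, Category.assoc]
  i_comp α := by
    rw [← cancel_mono (G.s ⁻¹ᵁ W).ι, cRes_ι]
    refine (cmp_congr G _ (by rw [Category.assoc, liftR_ι, ← Category.assoc]) rfl).trans ((G.i_comp _).trans ?_)
    simp only [Category.assoc, liftR_ι]
    rw [← Category.assoc (G.s ∣_ W), sRes_ι, Category.assoc]

theorem mono_restrict_j [Mono G.j] : Mono (restrict G W hW).j := by
  constructor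
  intro Z a b hab
  change Z ⟶ (G.s ⁻¹ᵁ W).toScheme at a b
  apply (cancel_mono (G.s ⁻¹ᵁ W).ι).mp
  apply (cancel_mono G.j).mp
  have key : ∀ (q : pullback (restrict G W hW).pU (restrict G W hW).pU ⟶ W.toScheme)
      (f : (G.s ⁻¹ᵁ W).toScheme ⟶ W.toScheme), (restrict G W hW).j ≫ q = f → a ≫ f ≫ W.ι = b ≫ f ≫ W.ι := by
    intro q f hq
    rw [← hq]
    have h := congrArg (fun z => (z ≫ q) ≫ W.ι) hab
    simp only [Category.assoc] at h ⊢
    exact h
  have ht := key (pullback.fst _ _) (tRes G W hW) (pullback.lift_fst _ _ _)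
  have hs := key (pullback.snd _ _) (G.s ∣_ W) (pullback.lift_snd _ _ _)
  replace ht : a ≫ (G.s ⁻¹ᵁ W).ι ≫ G.t = b ≫ (G.s ⁻¹ᵁ W).ι ≫ G.t :=
    ((congrArg (a ≫ ·) (tRes_ι G W hW)).symm.trans ht).trans (congrArg (b ≫ ·) (tRes_ι G W hW))
  replace hs : a ≫ (G.s ⁻¹ᵁ W).ι ≫ G.s = b ≫ (G.s ⁻¹ᵁ W).ι ≫ G.s :=
    ((congrArg (a ≫ ·) (sRes_ι G W)).symm.trans hs).trans (congrArg (b ≫ ·) (sRes_ι G W))
  apply pullback.hom_ext
  · simp only [Category.assoc, Grpd.GroupoidScheme.j, pullback.lift_fst]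
    exact ht
  · simp only [Category.assoc, Grpd.GroupoidScheme.j, pullback.lift_snd]
    exact hs

end

end GrothLib.GrpdQuot
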