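import Groth.Agent.Lib.GrpdQuot.Alg
import Mathlib.AlgebraicGeometry.Morphisms.Finite
import Mathlib.AlgebraicGeometry.Morphisms.Flat
import Mathlib.AlgebraicGeometry.Morphisms.FinitePresentation
import Mathlib.RingTheory.Flat.EquationalCriterion
import Mathlib.RingTheory.Finiteness.ModuleFinitePresentation

/-!
Norms along finite locally free morphisms of affine schemes.
-/

universe u

open CategoryTheory AlgebraicGeometry Matrix

namespace GrothLib.GrpdQuot

theorem Sys.det_notMem_iff {A B : Type u} [CommRing A] [CommRing B] {s : A →+* B} {io : Type}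
    [Fintype io] [DecidableEq io] (S : Sys s io) (P : Ideal A) [P.IsPrime] (g : B) :
    (1 + S.mat (g - 1)).det ∉ P ↔ ∀ Q : Ideal B, Q.IsPrime → Q.comap s = P → g ∉ Q := by
  refine ⟨fun h Q hQ hQP hgQ => h ?_, S.det_notMem P g⟩
  let r := Ideal.Quotient.mk Q
  have hv : (r ∘ S.b) ᵥ* ((1 + S.mat (g - 1)).map (r.comp s)) = 0 := by
    rw [Matrix.map_add _ (map_add _), Matrix.map_one _ (map_zero _) (map_one _), Matrix.vecMul_add,
      Matrix.vecMul_one, S.vecMul_mat_comp, map_sub, map_one,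
      show r g = 0 from Ideal.Quotient.eq_zero_iff_mem.mpr hgQ, zero_sub, neg_one_smul, add_neg_cancel]
  have hv0 : r ∘ S.b ≠ 0 := by
    intro h0
    have h1 := congrArg r (S.expand 1)
    rw [map_sum, map_one] at h1
    refine one_ne_zero (h1.symm.trans (Finset.sum_eq_zero fun k _ => ?_))
    rw [map_mul, show r (S.b k) = 0 from congrFun h0 k, mul_zero]
  have hdet : ((1 + S.mat (g - 1)).map (r.comp s)).det = 0 :=
    Matrix.exists_vecMul_eq_zero_iff.mp ⟨_, hv0, hv⟩
  rw [← hQP, Ideal.mem_comap, ← Ideal.Quotient.eq_zero_iff_mem, ← RingHom.comp_apply, RingHom.map_det]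
  exact hdet

theorem exists_basicOpen_iff {R U : Scheme.{u}} (τ : R ⟶ U) [IsAffine R] [IsAffine U] [IsFinite τ]
    [Flat τ] [LocallyOfFinitePresentation τ] (g : Γ(R, ⊤)) :
    ∃ d : Γ(U, ⊤), ∀ x : U, x ∈ U.basicOpen d ↔ ∀ r : R, τ r = x → r ∈ R.basicOpen g := by
  letI := τ.appTop.hom.toAlgebra
  haveI : Module.Finite Γ(U, ⊤) Γ(R, ⊤) := τ.finite_appTop
  haveI : Module.Flat Γ(U, ⊤) Γ(R, ⊤) := τ.flat_appTop
  haveI : Algebra.FinitePresentation Γ(U, ⊤) Γ(R, ⊤) := τ.finitePresentation_appTop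
  haveI : Module.FinitePresentation Γ(U, ⊤) Γ(R, ⊤) :=
    Module.FinitePresentation.of_finite_of_finitePresentation _ _
  haveI : Module.Projective Γ(U, ⊤) Γ(R, ⊤) := Module.Flat.projective_of_finitePresentation
  obtain ⟨n, ⟨S⟩⟩ := Sys.exists_of_projective (s := τ.appTop.hom)
  refine ⟨(1 + S.mat (g - 1)).det, fun x => ?_⟩
  have hmem : ∀ {X : Scheme.{u}} [IsAffine X] (a : Γ(X, ⊤)) (y : X),
      y ∈ X.basicOpen a ↔ a ∉ (X.isoSpec.hom y).asIdeal := by
    intro X _ a y
    rw [Scheme.isoSpec_hom, ← Scheme.toSpecΓ_preimage_basicOpen]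
    rfl
  have hτ : ∀ r : R, (U.isoSpec.hom (τ r)).asIdeal = Ideal.comap τ.appTop.hom (R.isoSpec.hom r).asIdeal := by
    intro r
    rw [← Scheme.Hom.comp_apply, ← Scheme.isoSpec_hom_naturality, Scheme.Hom.comp_apply]
    rfl
  rw [hmem, S.det_notMem_iff]
  constructor
  · intro h r hr
    rw [hmem]
    exact h _ (R.isoSpec.hom r).2 (by rw [← hτ, hr])
  · intro h Q hQ hQP
    have hr : τ (R.isoSpec.inv ⟨Q, hQ⟩) = x := by
      apply U.isoSpec.hom.isOpenEmbedding.injective
      apply PrimeSpectrum.ext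
      rw [hτ, ← Scheme.Hom.comp_apply, Iso.inv_hom_id]
      exact hQP
    have := h _ hr
    rw [hmem, ← Scheme.Hom.comp_apply, Iso.inv_hom_id] at this
    exact this

end GrothLib.GrpdQuot
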