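import Groth.Agent.Lib.GrpdQuot.Points
import Groth.Agent.Lib.GrpdQuot.Norm
import Mathlib.AlgebraicGeometry.Morphisms.QuasiFinite
import Mathlib.RingTheory.Ideal.Operations

/-!
Invariant affine neighbourhoods in groupoid schemes with finite locally free structure maps.
-/

universe u

open CategoryTheory CategoryTheory.Limits AlgebraicGeometry Opposite

namespace GrothLib.GrpdQuot

variable {S : Scheme.{u}} (G : Grpd.GroupoidScheme S)

theorem mem_compl_sat_iff (Z : Set G.U) (x : G.U) :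
    x ∈ (sat G Z)ᶜ ↔ ∀ r : G.R, G.t r = x → G.s r ∉ Z :=
  ⟨fun h r hr hz => h ⟨r, hz, hr⟩, fun h ⟨r, hz, hr⟩ => h r hr hz⟩

/-- The open set of points whose whole orbit lies in an open set. -/
def core [IsFinite G.t] (W : G.U.Opens) : G.U.Opens :=
  ⟨(sat G (W : Set G.U)ᶜ)ᶜ, (G.t.isClosedMap _ (W.isOpen.isClosed_compl.preimage G.s.continuous)).isOpen_compl⟩

theorem mem_core [IsFinite G.t] (W : G.U.Opens) (x : G.U) :
    x ∈ core G W ↔ ∀ r : G.R, G.t r = x → G.s r ∈ W :=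
  (mem_compl_sat_iff G _ x).trans ⟨fun h r hr => not_not.mp (h r hr), fun h r hr hz => hz (h r hr)⟩

theorem core_le [IsFinite G.t] (W : G.U.Opens) : core G W ≤ W := fun x hx => by
  by_contra h
  exact hx (subset_sat G _ h)

theorem preimage_core [IsFinite G.t] (W : G.U.Opens) : G.s ⁻¹ᵁ core G W = G.t ⁻¹ᵁ core G W := by
  ext1
  change ⇑G.s ⁻¹' (sat G _)ᶜ = ⇑G.t ⁻¹' (sat G _)ᶜ
  rw [Set.preimage_compl, Set.preimage_compl, preimage_sat]

theorem finite_orbit [IsFinite G.s] (u : G.U) : (⇑G.t '' (⇑G.s ⁻¹' {u})).Finite :=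
  (G.s.finite_preimage_singleton u).image _

theorem exists_basicOpen_le_of_finite {X : Scheme.{u}} [IsAffine X] [Nonempty X] (O : X.Opens)
    {F : Set X} (hF : F.Finite) (hFO : F ⊆ O) : ∃ f : Γ(X, ⊤), X.basicOpen f ≤ O ∧ F ⊆ X.basicOpen f := by
  classical
  let π : X → PrimeSpectrum Γ(X, ⊤) := X.isoSpec.hom
  haveI : Nonempty (PrimeSpectrum Γ(X, ⊤)) := Nonempty.map π ‹_›
  let Z : Set (PrimeSpectrum Γ(X, ⊤)) := π '' (O : Set X)ᶜ
  have hZ : IsClosed Z := (Scheme.homeoOfIso X.isoSpec).isClosedMap _ O.isOpen.isClosed_compl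
  obtain ⟨I, hI⟩ := (PrimeSpectrum.isClosed_iff_zeroLocus_ideal _).mp hZ
  have hinj : Function.Injective π := X.isoSpec.hom.isOpenEmbedding.injective
  have hsub : ¬ ((I : Set Γ(X, ⊤)) ⊆
      ⋃ P ∈ (↑(hF.toFinset.image π) : Set (PrimeSpectrum Γ(X, ⊤))), P.asIdeal) := by
    rw [Ideal.subset_union_prime (f := fun P : PrimeSpectrum Γ(X, ⊤) => P.asIdeal)
      (Classical.arbitrary _) (Classical.arbitrary _) fun P _ _ _ => P.2]
    rintro ⟨P, hP, hle⟩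
    obtain ⟨x, hx, rfl⟩ := Finset.mem_image.mp hP
    have hxZ : π x ∈ Z := by rw [hI]; exact hle
    obtain ⟨y, hy, hyx⟩ := hxZ
    exact hy (hinj hyx ▸ hFO (hF.mem_toFinset.mp hx))
  obtain ⟨f, hf, hfu⟩ := Set.not_subset.mp hsub
  have hmem : ∀ y : X, y ∈ X.basicOpen f ↔ f ∉ (π y).asIdeal := fun y => by
    rw [← Scheme.toSpecΓ_preimage_basicOpen]; rfl
  refine ⟨f, fun y hy => ?_, fun y hy => ?_⟩
  · by_contra hyO
    have : π y ∈ PrimeSpectrum.zeroLocus (I : Set Γ(X, ⊤)) := hI ▸ ⟨y, hyO, rfl⟩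
    exact (hmem y).mp hy (this hf)
  · refine (hmem y).mpr fun h => hfu ?_
    exact Set.mem_biUnion (Finset.mem_image.mpr ⟨y, hF.mem_toFinset.mpr hy, rfl⟩) h

theorem exists_affine_le_of_finite {X : Scheme.{u}} {V : X.Opens} (hV : IsAffineOpen V)
    (O : X.Opens) (hOV : O ≤ V) {F : Set X} (hF : F.Finite) (hne : F.Nonempty) (hFO : F ⊆ O) :
    ∃ f : Γ(V.toScheme, ⊤), V.ι ''ᵁ V.toScheme.basicOpen f ≤ O ∧ F ⊆ V.ι ''ᵁ V.toScheme.basicOpen f := by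
  haveI : IsAffine V.toScheme := hV
  obtain ⟨x, hx⟩ := hne
  haveI : Nonempty V.toScheme := ⟨⟨x, hOV (hFO hx)⟩⟩
  obtain ⟨f, hfO, hFf⟩ := exists_basicOpen_le_of_finite (V.ι ⁻¹ᵁ O) (F := ⇑V.ι ⁻¹' F)
    (hF.preimage V.ι.isOpenEmbedding.injective.injOn) (fun y hy => hFO hy)
  refine ⟨f, ?_, fun y hy => ?_⟩
  · rintro _ ⟨y, hy, rfl⟩
    exact hfO hy
  · exact ⟨⟨y, hOV (hFO hy)⟩, hFf (show V.ι ⟨y, _⟩ ∈ F from hy), rfl⟩

theorem exists_invariant_affine [IsFinite G.s] [IsFinite G.t] [Flat G.t]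
    [LocallyOfFinitePresentation G.t] (u : G.U) (V : G.U.Opens) (hV : IsAffineOpen V)
    (huV : ∀ r : G.R, G.s r = u → G.t r ∈ V) :
    ∃ W : G.U.Opens, IsAffineOpen W ∧ u ∈ W ∧ W ≤ V ∧ G.s ⁻¹ᵁ W = G.t ⁻¹ᵁ W := by
  let F : Set G.U := ⇑G.t '' (⇑G.s ⁻¹' {u})
  let V₀ := core G V
  have huV₀ : u ∈ V₀ := (mem_core G V u).mpr fun r hr => by
    obtain ⟨r', hr't, hr's⟩ := exists_inv_pt G r
    exact hr't ▸ huV r' (hr's.trans hr)
  have hFV₀ : F ⊆ V₀ := by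
    rintro _ ⟨r, hr, rfl⟩
    have h1 : r ∈ G.s ⁻¹ᵁ V₀ := show G.s r ∈ V₀ from (Set.mem_singleton_iff.mp hr).symm ▸ huV₀
    rw [preimage_core] at h1
    exact h1
  obtain ⟨f, hle, hFf⟩ := exists_affine_le_of_finite hV V₀ (core_le G V) (finite_orbit G u)
    ⟨_, subset_sat G {u} (Set.mem_singleton u)⟩ hFV₀
  haveI : IsAffine V.toScheme := hV
  let W₁ : G.U.Opens := V.ι ''ᵁ V.toScheme.basicOpen f
  have hW₁ : IsAffineOpen W₁ :=
    ((isAffineOpen_top V.toScheme).basicOpen f).image_of_isOpenImmersion V.ι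
  haveI : IsAffine W₁.toScheme := hW₁
  haveI : IsAffine (G.t ⁻¹ᵁ W₁).toScheme := hW₁.preimage G.t
  have hsV : Set.range ((G.t ⁻¹ᵁ W₁).ι ≫ G.s) ⊆ Set.range V.ι := by
    rintro _ ⟨r, rfl⟩
    rw [Scheme.Opens.range_ι]
    have hr : G.t r.1 ∈ V₀ := hle r.2
    have hr' : r.1 ∈ G.t ⁻¹ᵁ V₀ := hr
    rw [← preimage_core] at hr'
    exact core_le G V hr'
  let σ := IsOpenImmersion.lift V.ι ((G.t ⁻¹ᵁ W₁).ι ≫ G.s) hsV
  obtain ⟨d, hd⟩ := exists_basicOpen_iff (G.t ∣_ W₁) (σ.appTop f)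
  let W : G.U.Opens := W₁.ι ''ᵁ W₁.toScheme.basicOpen d
  have key : W = core G W₁ := by
    ext x
    constructor
    · rintro ⟨y, hy, rfl⟩
      refine (mem_core G W₁ _).mpr fun r hr => ?_
      have hrW : r ∈ G.t ⁻¹ᵁ W₁ := show G.t r ∈ W₁ from hr.symm ▸ y.2
      have h := (hd y).mp hy ⟨r, hrW⟩ (Subtype.ext ((morphismRestrict_base_coe _ _ _).trans hr))
      rw [← Scheme.preimage_basicOpen_top] at h
      refine ⟨σ ⟨r, hrW⟩, h, ?_⟩
      change (σ ≫ V.ι) ⟨r, hrW⟩ = G.s r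
      rw [IsOpenImmersion.lift_fac]
      rfl
    · intro hx
      have hxW₁ : x ∈ W₁ := core_le G W₁ hx
      refine ⟨⟨x, hxW₁⟩, (hd _).mpr fun r hr => ?_, rfl⟩
      have hr' : G.t r.1 = x := (morphismRestrict_base_coe _ _ _).symm.trans (congrArg Subtype.val hr)
      obtain ⟨y, hy, hy'⟩ := (mem_core G W₁ x).mp hx r.1 hr'
      rw [← Scheme.preimage_basicOpen_top]
      change σ r ∈ V.toScheme.basicOpen f
      have : V.ι (σ r) = V.ι y := by
        change (σ ≫ V.ι) r = _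
        rw [IsOpenImmersion.lift_fac]
        exact hy'.symm
      rw [V.ι.isOpenEmbedding.injective this]
      exact hy
  refine ⟨W, ((isAffineOpen_top W₁.toScheme).basicOpen d).image_of_isOpenImmersion W₁.ι, ?_, ?_, ?_⟩
  · rw [key]
    refine (mem_core G W₁ u).mpr fun r hr => hFf ?_
    obtain ⟨r', hr't, hr's⟩ := exists_inv_pt G r
    exact ⟨r', hr's.trans hr, hr't⟩
  · rw [key]
    exact (core_le G W₁).trans (hle.trans (core_le G V))
  · rw [key, preimage_core]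

end GrothLib.GrpdQuot
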