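import Groth.Agent.Lib.GrpdQuot.FiberMono
import Groth.Agent.Lib.GrpdQuot.ActionGrpd
import Groth.Agent.Lib.RedSmooth.Basic
import Groth.Agent.Lib.GrpSchField.Criteria
import Groth.Prelude.Def_W4bk4git07Quot
import Mathlib.CategoryTheory.Monoidal.Cartesian.Grp
import Mathlib.AlgebraicGeometry.Morphisms.Etale
import Mathlib.AlgebraicGeometry.ZariskisMainTheorem

/-!
Stabilizer schemes of group actions.
-/

universe u

open CategoryTheory CategoryTheory.Limits MonoidalCategory CartesianMonoidalCategory MonObj GrpObj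
open AlgebraicGeometry Opposite

namespace GrothLib.GrpdQuot

open GrothLib.GrpSchField (act_one act_mul)

noncomputable section

/-- A reduced one-point scheme over a field with a rational point is that field. -/
theorem isIso_of_subsingleton_of_isReduced {L : Type u} [Field L] {F : Scheme.{u}}
    (f : F ⟶ Spec (CommRingCat.of L)) [Subsingleton F] [IsReduced F]
    (e : Spec (CommRingCat.of L) ⟶ F) (he : e ≫ f = 𝟙 _) : IsIso f := by
  have : Nonempty F := ⟨e (IsLocalRing.closedPoint L)⟩
  have : IsAffine F := by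
    obtain ⟨U, hU, hx, -⟩ := exists_isAffineOpen_mem_and_subset
      (show (e (IsLocalRing.closedPoint L)) ∈ (⊤ : F.Opens) from trivial)
    have htop : U = ⊤ := top_le_iff.1 fun y _ => Subsingleton.elim _ y ▸ hx
    haveI : IsAffine (⊤ : F.Opens) := htop ▸ hU
    exact .of_isIso F.topIso.inv
  have : IsClosedImmersion (e ≫ f) := by rw [he]; infer_instance
  have : IsClosedImmersion e := IsClosedImmersion.of_comp e f
  have : Surjective e := ⟨fun y => ⟨IsLocalRing.closedPoint L, Subsingleton.elim _ _⟩⟩
  have := isIso_of_isClosedImmersion_of_surjective e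
  exact ⟨e, by rw [← cancel_epi e, reassoc_of% he, Category.comp_id], he⟩

variable {S : Scheme.{u}} {G X : Over S} [GrpObj G] (a : AlgGrp.Action G X)

/-- The diagonal. -/
abbrev diagX (X : Over S) : X ⟶ X ⊗ X := lift (𝟙 X) (𝟙 X)

/-- The stabilizer scheme. -/
abbrev stabObj : Scheme.{u} := Limits.pullback (GIT.psi a (𝟙 X)).left (diagX X).left

/-- The stabilizer scheme over `X`. -/
abbrev stab : stabObj a ⟶ X.left := pullback.snd (GIT.psi a (𝟙 X)).left (diagX X).left

theorem psi_fst : GIT.psi a (𝟙 X) ≫ fst X X = a.act := by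
  rw [GIT.psi, lift_fst, MonoidalCategory.whiskerLeft_id, Category.id_comp]

theorem psi_snd : GIT.psi a (𝟙 X) ≫ snd X X = snd G X := by
  rw [GIT.psi, lift_snd]

theorem lift_psi {T : Over S} (p : T ⟶ G ⊗ X) (x : T ⟶ X) (h₁ : p ≫ a.act = x)
    (h₂ : p ≫ snd G X = x) : p ≫ GIT.psi a (𝟙 X) = x ≫ diagX X := by
  apply CartesianMonoidalCategory.hom_ext
  · rw [Category.assoc, psi_fst, h₁, Category.assoc, lift_fst, Category.comp_id]
  · rw [Category.assoc, psi_snd, h₂, Category.assoc, lift_snd, Category.comp_id]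

theorem exists_stabLift {T : Over S} (g : T ⟶ G) (x : T ⟶ X) (h : lift g x ≫ a.act = x) :
    ∃ l : T.left ⟶ stabObj a,
      l ≫ pullback.fst (GIT.psi a (𝟙 X)).left (diagX X).left = (lift g x).left ∧ l ≫ stab a = x.left :=
  ⟨pullback.lift (lift g x).left x.left (by
      rw [← Over.comp_left, ← Over.comp_left, lift_psi a _ x h (lift_snd _ _)]),
    pullback.lift_fst _ _ _, pullback.lift_snd _ _ _⟩

theorem exists_stab_point {T : Over S} (l : T.left ⟶ stabObj a) (x : T ⟶ X)
    (hl : l ≫ stab a = x.left) :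
    ∃ g : T ⟶ G, lift g x ≫ a.act = x ∧
      l ≫ pullback.fst (GIT.psi a (𝟙 X)).left (diagX X).left = (lift g x).left := by
  have hw : (l ≫ pullback.fst (GIT.psi a (𝟙 X)).left (diagX X).left) ≫ (G ⊗ X).hom = T.hom := by
    rw [← Over.w (GIT.psi a (𝟙 X)), Category.assoc, pullback.condition_assoc, Over.w (diagX X),
      ← Category.assoc, hl, Over.w x]
  let p : T ⟶ G ⊗ X := Over.homMk _ hw
  have hp : p ≫ GIT.psi a (𝟙 X) = x ≫ diagX X := by
    apply Over.OverMorphism.ext
    rw [Over.comp_left, Over.comp_left, ← hl]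
    exact (Category.assoc _ _ _).trans ((congrArg (l ≫ ·) pullback.condition).trans
      (Category.assoc _ _ _).symm)
  have h₁ : p ≫ a.act = x := by
    rw [← psi_fst, reassoc_of% hp, lift_fst, Category.comp_id]
  have h₂ : p ≫ snd G X = x := by
    rw [← psi_snd, reassoc_of% hp, lift_snd, Category.comp_id]
  have he : lift (p ≫ fst G X) x = p := by
    apply CartesianMonoidalCategory.hom_ext
    · rw [lift_fst]
    · rw [lift_snd, h₂]
  exact ⟨p ≫ fst G X, by rw [he, h₁], by rw [he]; rfl⟩

theorem exists_stab_section : ∃ e : X.left ⟶ stabObj a, e ≫ stab a = 𝟙 X.left := by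
  obtain ⟨l, -, hl⟩ := exists_stabLift a (1 : X ⟶ G) (𝟙 X) (act_one a _)
  exact ⟨l, hl⟩

theorem actionFree_of_mono_stab [Mono (stab a)] : ActionFree a := by
  intro T g x h
  obtain ⟨l, hl₁, hl₂⟩ := exists_stabLift a g x h
  obtain ⟨l', hl₁', hl₂'⟩ := exists_stabLift a (1 : T ⟶ G) x (act_one a _)
  have hll : l = l' := (cancel_mono (stab a)).1 (hl₂.trans hl₂'.symm)
  have h' : lift g x = lift (1 : T ⟶ G) x := Over.OverMorphism.ext (by rw [← hl₁, hll, hl₁'])
  simpa using congrArg (· ≫ fst G X) h'

theorem mono_psi_of_mono_stab [Mono (stab a)] : Mono (GIT.psi a (𝟙 X)).left := by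
  refine ⟨fun p q h => action_mono a (actionFree_of_mono_stab a) p q ?_ ?_⟩
  · rw [← psi_fst a, Over.comp_left, reassoc_of% h]
  · rw [← psi_snd a, Over.comp_left, reassoc_of% h]

theorem locallyOfFiniteType_psi [LocallyOfFiniteType G.hom] :
    LocallyOfFiniteType (GIT.psi a (𝟙 X)).left := by
  have : LocallyOfFiniteType ((GIT.psi a (𝟙 X)).left ≫ (snd X X).left) := by
    rw [← Over.comp_left, psi_snd]
    exact property_snd (G := G) (X := X) @LocallyOfFiniteType inferInstance
  exact locallyOfFiniteType_of_comp _ (snd X X).left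

set_option backward.isDefEq.respectTransparency.types false in
theorem locallyOfFiniteType_stab [LocallyOfFiniteType G.hom] : LocallyOfFiniteType (stab a) := by
  haveI := locallyOfFiniteType_psi a
  exact MorphismProperty.pullback_snd _ _ inferInstance

theorem stab_eq : stab a = pullback.fst (GIT.psi a (𝟙 X)).left (diagX X).left ≫ (snd G X).left := by
  rw [← psi_snd a, Over.comp_left, pullback.condition_assoc, ← Over.comp_left, lift_snd]
  exact (Category.comp_id _).symm

/-- A closed immersion on `psi` follows from properness and trivial stabilizers. -/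
theorem isClosedImmersion_psi [LocallyOfFiniteType G.hom] [IsProper (GIT.psi a (𝟙 X)).left]
    (h : ∀ x : X.left, IsIso ((stab a).fiberToSpecResidueField x)) :
    IsClosedImmersion (GIT.psi a (𝟙 X)).left := by
  haveI := locallyOfFiniteType_stab a
  haveI : Mono (stab a) := mono_of_fiber_mono _ fun x => by haveI := h x; infer_instance
  haveI := mono_psi_of_mono_stab a
  exact (IsClosedImmersion.iff_isProper_and_mono _).2 ⟨inferInstance, inferInstance⟩

theorem formallyUnramified_stab [Etale G.hom] : FormallyUnramified (stab a) := by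
  haveI : Etale (snd G X).left := property_snd (G := G) (X := X) @Etale inferInstance
  haveI : Mono ((diagX X).left ≫ (fst X X).left) := by
    rw [← Over.comp_left, lift_fst]; exact inferInstanceAs (Mono (𝟙 X.left))
  haveI : Mono (diagX X).left := mono_of_mono _ (fst X X).left
  haveI : IsIso (pullback.diagonal (pullback.fst (GIT.psi a (𝟙 X)).left (diagX X).left)) :=
    (pullback.isIso_diagonal_iff _).2 inferInstance
  rw [stab_eq]
  exact MorphismProperty.comp_mem _ _ _ inferInstance inferInstance

section Fibre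

variable {L : Type u} [Field L] (x₀ : Spec (CommRingCat.of L) ⟶ X.left)

/-- The point `x₀` as a point with values in a scheme over it. -/
def ptOf (T : Over (Spec (CommRingCat.of L))) : (Over.map (x₀ ≫ X.hom)).obj T ⟶ X :=
  Over.homMk (T.hom ≫ x₀) (Category.assoc _ _ _)

theorem map_ptOf {T T' : Over (Spec (CommRingCat.of L))} (f : T' ⟶ T) :
    (Over.map (x₀ ≫ X.hom)).map f ≫ ptOf x₀ T = ptOf x₀ T' :=
  Over.OverMorphism.ext (by
    change f.left ≫ T.hom ≫ x₀ = T'.hom ≫ x₀
    rw [← Category.assoc, Over.w f])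

/-- The stabilizer of `x₀` on points. -/
def stabSub (T : Over (Spec (CommRingCat.of L))) :
    Subgroup ((Over.map (x₀ ≫ X.hom)).obj T ⟶ G) where
  carrier := {g | lift g (ptOf x₀ T) ≫ a.act = ptOf x₀ T}
  one_mem' := act_one a _
  mul_mem' {g g'} hg hg' := by
    change lift (g * g') (ptOf x₀ T) ≫ a.act = ptOf x₀ T
    rw [act_mul, hg', hg]
  inv_mem' {g} hg := by
    change lift g⁻¹ (ptOf x₀ T) ≫ a.act = ptOf x₀ T
    conv_lhs => rw [← hg]
    rw [← act_mul, inv_mul_cancel, act_one]

/-- Pullback of points of the stabilizer of `x₀`. -/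
def stabMap {T T' : Over (Spec (CommRingCat.of L))} (f : T' ⟶ T) :
    stabSub a x₀ T →* stabSub a x₀ T' where
  toFun g := ⟨(Over.map (x₀ ≫ X.hom)).map f ≫ g.1, by
    change lift _ (ptOf x₀ T') ≫ a.act = ptOf x₀ T'
    rw [← map_ptOf x₀ f, ← comp_lift, Category.assoc, g.2]⟩
  map_one' := Subtype.ext (MonObj.comp_one _)
  map_mul' g g' := Subtype.ext (MonObj.comp_mul _ _ _)

/-- The stabilizer of `x₀` as a presheaf of groups. -/
def stabFun : (Over (Spec (CommRingCat.of L)))ᵒᵖ ⥤ GrpCat.{u} where
  obj T := GrpCat.of (stabSub a x₀ T.unop)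
  map f := GrpCat.ofHom (stabMap a x₀ f.unop)
  map_id T := GrpCat.hom_ext (MonoidHom.ext fun g => Subtype.ext (by
    change (Over.map (x₀ ≫ X.hom)).map (𝟙 T.unop) ≫ g.1 = g.1
    rw [CategoryTheory.Functor.map_id, Category.id_comp]))
  map_comp f f' := GrpCat.hom_ext (MonoidHom.ext fun g => Subtype.ext (by
    change (Over.map (x₀ ≫ X.hom)).map (f'.unop ≫ f.unop) ≫ g.1 = _
    rw [CategoryTheory.Functor.map_comp, Category.assoc]
    rfl))

/-- The fibre of the stabilizer over `x₀`. -/
abbrev stabFibre : Over (Spec (CommRingCat.of L)) := Over.mk (pullback.snd (stab a) x₀)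

theorem stabFibre_cond {T : Over (Spec (CommRingCat.of L))} (t : T ⟶ stabFibre a x₀) :
    (t.left ≫ pullback.fst (stab a) x₀) ≫ stab a = (ptOf x₀ T).left := by
  rw [Category.assoc, pullback.condition, ← Category.assoc]
  exact congrArg (· ≫ x₀) (Over.w t)

/-- The group point of a point of the fibre. -/
def grpPt {T : Over (Spec (CommRingCat.of L))} (t : T ⟶ stabFibre a x₀) :
    (Over.map (x₀ ≫ X.hom)).obj T ⟶ G :=
  (exists_stab_point a (T := (Over.map (x₀ ≫ X.hom)).obj T) _ _ (stabFibre_cond a x₀ t)).choose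

theorem grpPt_spec {T : Over (Spec (CommRingCat.of L))} (t : T ⟶ stabFibre a x₀) :
    lift (grpPt a x₀ t) (ptOf x₀ T) ≫ a.act = ptOf x₀ T ∧
      (t.left ≫ pullback.fst (stab a) x₀) ≫ pullback.fst (GIT.psi a (𝟙 X)).left (diagX X).left =
        (lift (grpPt a x₀ t) (ptOf x₀ T)).left :=
  (exists_stab_point a (T := (Over.map (x₀ ≫ X.hom)).obj T) _ _ (stabFibre_cond a x₀ t)).choose_spec

theorem grpPt_unique {T : Over (Spec (CommRingCat.of L))} (t : T ⟶ stabFibre a x₀)
    (g : (Over.map (x₀ ≫ X.hom)).obj T ⟶ G)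
    (h : (t.left ≫ pullback.fst (stab a) x₀) ≫ pullback.fst (GIT.psi a (𝟙 X)).left (diagX X).left =
      (lift g (ptOf x₀ T)).left) : grpPt a x₀ t = g := by
  have h' : lift (grpPt a x₀ t) (ptOf x₀ T) = lift g (ptOf x₀ T) :=
    Over.OverMorphism.ext ((grpPt_spec a x₀ t).2.symm.trans h)
  simpa using congrArg (· ≫ fst G X) h'

theorem stabFibre_hom_ext {T : Over (Spec (CommRingCat.of L))} {t t' : T ⟶ stabFibre a x₀}
    (h : grpPt a x₀ t = grpPt a x₀ t') : t = t' := by
  apply Over.OverMorphism.ext
  refine pullback.hom_ext (pullback.hom_ext ?_ ?_) ?_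
  · rw [(grpPt_spec a x₀ t).2, (grpPt_spec a x₀ t').2, h]
  · exact (stabFibre_cond a x₀ t).trans (stabFibre_cond a x₀ t').symm
  · exact (Over.w t).trans (Over.w t').symm

/-- The fibre of the stabilizer represents the stabilizer of `x₀`. -/
def stabRep : (stabFun a x₀ ⋙ forget _).RepresentableBy (stabFibre a x₀) where
  homEquiv {T} := Equiv.ofBijective (fun t => ⟨grpPt a x₀ t, (grpPt_spec a x₀ t).1⟩)
    ⟨fun t t' h => stabFibre_hom_ext a x₀ (congrArg Subtype.val h), fun g => by
      obtain ⟨l, hl₁, hl₂⟩ := exists_stabLift a (T := (Over.map (x₀ ≫ X.hom)).obj T) g.1 _ g.2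
      refine ⟨Over.homMk (pullback.lift l T.hom hl₂) (pullback.lift_snd _ _ _), Subtype.ext ?_⟩
      refine grpPt_unique a x₀ _ _ ?_
      exact (congrArg (· ≫ pullback.fst (GIT.psi a (𝟙 X)).left (diagX X).left)
        (pullback.lift_fst l T.hom hl₂)).trans hl₁⟩
  homEquiv_comp {T T'} f t := Subtype.ext (by
    refine grpPt_unique a x₀ _ _ ?_
    change ((f.left ≫ t.left) ≫ pullback.fst (stab a) x₀) ≫ _ = _
    rw [Category.assoc f.left, Category.assoc f.left]
    refine ((congrArg (f.left ≫ ·) ((Category.assoc _ _ _).symm.trans (grpPt_spec a x₀ t).2))).trans ?_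
    change _ = (lift ((Over.map (x₀ ≫ X.hom)).map f ≫ grpPt a x₀ t) (ptOf x₀ T)).left
    rw [← map_ptOf x₀ f, ← comp_lift]
    rfl)

/-- The fibre of the stabilizer is a group scheme. -/
@[instance_reducible]
def stabFibreGrpObj : GrpObj (stabFibre a x₀) :=
  GrpObj.ofRepresentableBy _ (stabFun a x₀) (stabRep a x₀)

end Fibre

set_option backward.isDefEq.respectTransparency.types false in
/-- Universally injective stabilizers are trivial, in characteristic zero and for étale groups. -/
theorem isIso_stab_fibre {k : Type u} [Field k] {G X : Over (Spec (CommRingCat.of k))} [GrpObj G]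
    (a : AlgGrp.Action G X) [LocallyOfFiniteType G.hom] (hG : CharZero k ∨ Etale G.hom)
    [UniversallyInjective (stab a)] {L : Type u} [Field L]
    (x₀ : Spec (CommRingCat.of L) ⟶ X.left) : IsIso (pullback.snd (stab a) x₀) := by
  haveI := locallyOfFiniteType_stab a
  haveI : LocallyOfFiniteType (pullback.snd (stab a) x₀) := MorphismProperty.pullback_snd _ _ inferInstance
  haveI : UniversallyInjective (pullback.snd (stab a) x₀) := MorphismProperty.pullback_snd _ _ inferInstance
  have hsm : Smooth (pullback.snd (stab a) x₀) := by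
    rcases hG with hc | he
    · let φ := Spec.preimage (x₀ ≫ X.hom)
      haveI : CharZero L := charZero_of_injective_ringHom φ.hom.injective
      letI := stabFibreGrpObj a x₀
      haveI : LocallyOfFiniteType (stabFibre a x₀).hom :=
        (inferInstance : LocallyOfFiniteType (pullback.snd (stab a) x₀))
      exact GrothLib.GrpSchField.smooth_of_charZero (stabFibre a x₀)
    · haveI := formallyUnramified_stab a
      haveI : FormallyUnramified (pullback.snd (stab a) x₀) :=
        MorphismProperty.pullback_snd _ _ inferInstance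
      haveI : IsIntegral (Spec (CommRingCat.of L)) := inferInstance
      haveI : Subsingleton ↥(Spec (CommRingCat.of L)) := inferInstanceAs (Subsingleton (PrimeSpectrum L))
      haveI : Flat (pullback.snd (stab a) x₀) := inferInstance
      haveI : LocallyOfFinitePresentation (pullback.snd (stab a) x₀) := inferInstance
      haveI := Etale.of_formallyUnramified_of_flat (f := pullback.snd (stab a) x₀)
      infer_instance
  haveI : IsReduced (pullback (stab a) x₀) := GrothLib.RedSmooth.isReduced_of_smooth (pullback.snd (stab a) x₀)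
  haveI : Subsingleton ↥(pullback (stab a) x₀) := by
    refine ⟨fun p q => (pullback.snd (stab a) x₀).injective ?_⟩
    exact Subsingleton.elim (α := PrimeSpectrum L) _ _
  obtain ⟨e, he⟩ := exists_stab_section a
  exact isIso_of_subsingleton_of_isReduced _
    (pullback.lift (x₀ ≫ e) (𝟙 _) (by rw [Category.assoc, he, Category.comp_id, Category.id_comp]))
    (pullback.lift_snd _ _ _)

/-- Universal injectivity from trivial fibres. -/
theorem universallyInjective_stab_of_fibres [LocallyOfFiniteType G.hom]
    (h : ∀ x : X.left, IsIso ((stab a).fiberToSpecResidueField x)) :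
    UniversallyInjective (stab a) := by
  haveI := locallyOfFiniteType_stab a
  haveI : Mono (stab a) := mono_of_fiber_mono _ fun x => by haveI := h x; infer_instance
  infer_instance

end

end GrothLib.GrpdQuot
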