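import Groth.Agent.Lib.DiagGrp.UnramifiedPts
import Mathlib.AlgebraicGeometry.Morphisms.FormallyUnramified
import Mathlib.AlgebraicGeometry.Morphisms.UniversallyInjective
import Mathlib.AlgebraicGeometry.Fiber

/-!
A morphism locally of finite type with monomorphic fibres is a monomorphism.
-/

universe u

open CategoryTheory CategoryTheory.Limits AlgebraicGeometry

namespace GrothLib.GrpdQuot

variable {X Y : Scheme.{u}}

theorem eq_of_fiber_mono (f : X ⟶ Y) (hf : ∀ y, Mono (f.fiberToSpecResidueField y))
    {Z : Scheme.{u}} (a b : Z ⟶ X) (y : Y) (σ : Z ⟶ Spec (Y.residueField y))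
    (ha : a ≫ f = σ ≫ Y.fromSpecResidueField y) (hb : b ≫ f = σ ≫ Y.fromSpecResidueField y) :
    a = b := by
  have := hf y
  let a' : Z ⟶ f.fiber y := pullback.lift a σ ha
  let b' : Z ⟶ f.fiber y := pullback.lift b σ hb
  have h : a' = b' := (cancel_mono (f.fiberToSpecResidueField y)).1
    ((pullback.lift_snd a σ ha).trans (pullback.lift_snd b σ hb).symm)
  exact (pullback.lift_fst a σ ha).symm.trans
    ((congrArg (· ≫ pullback.fst f (Y.fromSpecResidueField y)) h).trans (pullback.lift_fst b σ hb))

theorem exists_residueField_factor' {L : Type u} [Field L] (m : Spec (CommRingCat.of L) ⟶ Y) :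
    ∃ (y : Y) (σ : Spec (CommRingCat.of L) ⟶ Spec (Y.residueField y)),
      σ ≫ Y.fromSpecResidueField y = m :=
  ⟨(Scheme.SpecToEquivOfField L Y m).1, Spec.map (Scheme.SpecToEquivOfField L Y m).2,
    (Scheme.SpecToEquivOfField L Y).symm_apply_apply m⟩

/-- A morphism locally of finite type all of whose fibres are monomorphisms is a monomorphism. -/
theorem mono_of_fiber_mono (f : X ⟶ Y) [LocallyOfFiniteType f]
    (hf : ∀ y, Mono (f.fiberToSpecResidueField y)) : Mono f := by
  haveI : FormallyUnramified f := by
    refine ⟨fun {U} hU {V} hV e => ?_⟩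
    letI := (f.appLE U V e).hom.toAlgebra
    haveI : Algebra.FiniteType Γ(Y, U) Γ(X, V) := f.finiteType_appLE hU hV e
    refine GrothLib.DiagGrp.formallyUnramified_of_points_unique fun L _ C _ j r x y hx hy => ?_
    obtain ⟨s, σ, hσ⟩ := exists_residueField_factor' (Spec.map (CommRingCat.ofHom r) ≫ hU.fromSpec)
    have key : ∀ z : Γ(X, V) →+* C, z.comp (algebraMap Γ(Y, U) Γ(X, V)) = j.comp r →
        (Spec.map (CommRingCat.ofHom z) ≫ hV.fromSpec) ≫ f =
          (Spec.map (CommRingCat.ofHom j) ≫ σ) ≫ Y.fromSpecResidueField s := fun z hz => by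
      rw [Category.assoc, Category.assoc, hσ, ← IsAffineOpen.SpecMap_appLE_fromSpec f hU hV e,
        ← Category.assoc, ← Category.assoc, ← Spec.map_comp, ← Spec.map_comp]
      congr 2
      exact CommRingCat.hom_ext hz
    have h := eq_of_fiber_mono f hf _ _ s _ (key x hx) (key y hy)
    rw [cancel_mono] at h
    exact congrArg CommRingCat.Hom.hom (Spec.map_injective h)
  haveI : Surjective (pullback.diagonal f) := ⟨fun z => by
    obtain ⟨s, σ, hσ⟩ := exists_residueField_factor'
      ((pullback f f).fromSpecResidueField z ≫ pullback.fst f f ≫ f)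
    have hxy := eq_of_fiber_mono f hf
      ((pullback f f).fromSpecResidueField z ≫ pullback.fst f f)
      ((pullback f f).fromSpecResidueField z ≫ pullback.snd f f) s σ
      ((Category.assoc _ _ _).trans hσ.symm)
      (((Category.assoc _ _ _).trans (congrArg (_ ≫ ·) pullback.condition.symm)).trans hσ.symm)
    have hd : ((pullback f f).fromSpecResidueField z ≫ pullback.fst f f) ≫ pullback.diagonal f =
        (pullback f f).fromSpecResidueField z := by
      apply pullback.hom_ext
      · rw [Category.assoc, pullback.diagonal_fst, Category.comp_id]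
      · rw [Category.assoc, pullback.diagonal_snd, Category.comp_id, hxy]
    let o : ↥(Spec ((pullback f f).residueField z)) := IsLocalRing.closedPoint _
    refine ⟨((pullback f f).fromSpecResidueField z ≫ pullback.fst f f).base o, ?_⟩
    rw [← Scheme.Hom.comp_apply, hd]
    exact Scheme.fromSpecResidueField_apply z o⟩
  haveI : IsIso (pullback.diagonal f) :=
    (isIso_iff_isOpenImmersion_and_surjective _).mpr ⟨inferInstance, inferInstance⟩
  exact pullback.isIso_diagonal_iff _ |>.mp inferInstance

/-- A morphism locally of finite type with trivial fibres and a section is an isomorphism. -/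
theorem isIso_of_fiber_isIso_of_section (f : X ⟶ Y) [LocallyOfFiniteType f]
    (hf : ∀ y, IsIso (f.fiberToSpecResidueField y)) (e : Y ⟶ X) (he : e ≫ f = 𝟙 Y) : IsIso f := by
  haveI := mono_of_fiber_mono f fun y => by haveI := hf y; infer_instance
  exact ⟨e, (cancel_mono f).1 (by rw [Category.assoc, he, Category.comp_id, Category.id_comp]), he⟩

end GrothLib.GrpdQuot
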