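import Groth.Prelude.Def_Grpd
import Groth.Agent.Lib.GrpSchField.GrpdField
import Groth.Agent.Lib.GrpdQuot.Free
import Mathlib.AlgebraicGeometry.Morphisms.Affine
import Mathlib.AlgebraicGeometry.Morphisms.Finite
import Mathlib.AlgebraicGeometry.Morphisms.Flat
import Mathlib.AlgebraicGeometry.Morphisms.FinitePresentation
import Mathlib.Algebra.Category.Ring.Constructions
import Mathlib.Algebra.Category.Ring.Epi
import Mathlib.RingTheory.Flat.EquationalCriterion
import Mathlib.RingTheory.Finiteness.ModuleFinitePresentation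

/-!
The groupoid data of an affine groupoid scheme.
-/

universe u

open CategoryTheory CategoryTheory.Limits AlgebraicGeometry TensorProduct

namespace GrothLib.GrpdQuot

noncomputable section

theorem isPO_of_isPullback {P X Y Z : Scheme.{u}} {fst : P ⟶ X} {snd : P ⟶ Y} {f : X ⟶ Z}
    {g : Y ⟶ Z} [IsAffine X] [IsAffine Y] [IsAffine Z] (h : IsPullback fst snd f g) :
    IsPO f.appTop.hom g.appTop.hom fst.appTop.hom snd.appTop.hom := by
  have h' : IsPushout f.appTop g.appTop fst.appTop snd.appTop := isPushout_appTop_of_isPullback h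
  refine IsPO.of_algHom (by simpa using congrArg CommRingCat.Hom.hom h'.w) fun Φ hΦ => ?_
  algebraize [f.appTop.hom, g.appTop.hom, fst.appTop.hom, snd.appTop.hom]
  letI : Algebra Γ(Z, ⊤) Γ(P, ⊤) := (fst.appTop.hom.comp f.appTop.hom).toAlgebra
  haveI : IsScalarTower Γ(Z, ⊤) Γ(X, ⊤) Γ(P, ⊤) := IsScalarTower.of_algebraMap_eq fun _ => rfl
  haveI : IsScalarTower Γ(Z, ⊤) Γ(Y, ⊤) Γ(P, ⊤) := IsScalarTower.of_algebraMap_eq fun x =>
    congrArg (fun χ => (ConcreteCategory.hom χ) x) h'.w
  have hp : Algebra.IsPushout Γ(Z, ⊤) Γ(X, ⊤) Γ(Y, ⊤) Γ(P, ⊤) :=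
    CommRingCat.isPushout_iff_isPushout.mp h'
  have e : ⇑Φ = ⇑(Algebra.IsPushout.equiv Γ(Z, ⊤) Γ(X, ⊤) Γ(Y, ⊤) Γ(P, ⊤)) := funext fun ξ => by
    induction ξ using TensorProduct.induction_on with
    | zero => simp
    | tmul r x => rw [hΦ, Algebra.IsPushout.equiv_tmul]; rfl
    | add a b ha hb => rw [map_add, map_add, ha, hb]
  rw [e]
  exact AlgEquiv.bijective _

open GrothLib.GrpSchField (cmp cmp_congr comp_cmp)

variable {S : Scheme.{u}} (G : Grpd.GroupoidScheme S)

theorem fst_i_comp_t : (pullback.fst G.s G.s ≫ G.i) ≫ G.t = pullback.snd G.s G.s ≫ G.s := by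
  rw [Category.assoc, G.i_t, pullback.condition]

/-- The morphism `(α, γ) ↦ γ ∘ α⁻¹`. -/
def divHom : pullback G.s G.s ⟶ G.R :=
  cmp G (pullback.snd G.s G.s) (pullback.fst G.s G.s ≫ G.i) (fst_i_comp_t G).symm

theorem divHom_s : divHom G ≫ G.s = pullback.fst G.s G.s ≫ G.t :=
  (G.comp_s _ _ _).trans (by rw [Category.assoc, G.i_s])

theorem divHom_t : divHom G ≫ G.t = pullback.snd G.s G.s ≫ G.t :=
  G.comp_t _ _ _

theorem isPullback_divHom : IsPullback (pullback.fst G.s G.s) (divHom G) G.t G.s := by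
  let inv : pullback G.t G.s ⟶ pullback G.s G.s :=
    pullback.lift (pullback.fst G.t G.s)
      (cmp G (pullback.snd G.t G.s) (pullback.fst G.t G.s) pullback.condition.symm)
      (G.comp_s _ _ _).symm
  refine ⟨⟨(divHom_s G).symm⟩, ⟨PullbackCone.IsLimit.mk _
    (fun c => pullback.lift c.fst c.snd c.condition ≫ inv) (fun c => ?_) (fun c => ?_)
    (fun c m hm₁ hm₂ => ?_)⟩⟩
  · rw [Category.assoc, pullback.lift_fst, pullback.lift_fst]
  · have h₁ : (pullback.lift c.fst c.snd c.condition ≫ inv) ≫ pullback.fst G.s G.s = c.fst := by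
      rw [Category.assoc, pullback.lift_fst, pullback.lift_fst]
    have h₂ : (pullback.lift c.fst c.snd c.condition ≫ inv) ≫ pullback.snd G.s G.s =
        cmp G c.snd c.fst c.condition.symm := by
      rw [Category.assoc, pullback.lift_snd, comp_cmp]
      exact cmp_congr G _ (pullback.lift_snd _ _ _) (pullback.lift_fst _ _ _)
    rw [divHom, comp_cmp]
    exact (cmp_congr G _ h₂ (by rw [← Category.assoc, h₁])).trans
      (GrothLib.GrpSchField.cmp_inv_right' G c.fst c.snd c.condition.symm
        ((G.comp_s _ _ _).trans (by rw [Category.assoc, G.i_t])))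
  · apply pullback.hom_ext
    · rw [hm₁, Category.assoc, pullback.lift_fst, pullback.lift_fst]
    · rw [Category.assoc, pullback.lift_snd, comp_cmp]
      rw [cmp_congr G _ (pullback.lift_snd _ _ _) (pullback.lift_fst _ _ _)]
      have h₀ : (m ≫ pullback.fst G.s G.s) ≫ G.s = (m ≫ pullback.snd G.s G.s) ≫ G.s := by
        rw [Category.assoc, pullback.condition, Category.assoc]
      refine ((GrothLib.GrpSchField.cmp_inv_right G (m ≫ pullback.fst G.s G.s)
        (m ≫ pullback.snd G.s G.s) h₀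
          (by rw [Category.assoc, Category.assoc, Category.assoc, G.i_t, pullback.condition])).symm).trans ?_
      exact cmp_congr G _ (by
        rw [← hm₂, divHom, comp_cmp]
        exact cmp_congr G _ rfl (Category.assoc _ _ _)) hm₁

/-- The rings and maps of an affine groupoid scheme. -/
def gdata [IsAffine G.U] [IsAffine G.R] :
    GData Γ(G.U, ⊤) Γ(G.R, ⊤) Γ(pullback G.s G.s, ⊤) where
  s := G.s.appTop.hom
  t := G.t.appTop.hom
  e := G.e.appTop.hom
  p := (pullback.fst G.s G.s).appTop.hom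
  q := (pullback.snd G.s G.s).appTop.hom
  w := (divHom G).appTop.hom
  e_s := by rw [← CommRingCat.hom_comp, ← Scheme.Hom.comp_appTop, G.e_s]; rfl
  e_t := by rw [← CommRingCat.hom_comp, ← Scheme.Hom.comp_appTop, G.e_t]; rfl
  pos := isPO_of_isPullback (IsPullback.of_hasPullback G.s G.s)
  pot := isPO_of_isPullback (isPullback_divHom G)
  qt := by
    rw [← CommRingCat.hom_comp, ← CommRingCat.hom_comp, ← Scheme.Hom.comp_appTop,
      ← Scheme.Hom.comp_appTop, divHom_t]

theorem finite_appTop_s [IsAffine G.U] [IsFinite G.s] :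
    letI := G.s.appTop.hom.toAlgebra; Module.Finite Γ(G.U, ⊤) Γ(G.R, ⊤) :=
  G.s.finite_appTop

theorem projective_appTop_s [IsAffine G.U] [IsAffine G.R] [IsFinite G.s] [Flat G.s]
    [LocallyOfFinitePresentation G.s] :
    letI := G.s.appTop.hom.toAlgebra; Module.Projective Γ(G.U, ⊤) Γ(G.R, ⊤) := by
  letI := G.s.appTop.hom.toAlgebra
  haveI : Module.Finite Γ(G.U, ⊤) Γ(G.R, ⊤) := G.s.finite_appTop
  haveI : Module.Flat Γ(G.U, ⊤) Γ(G.R, ⊤) := G.s.flat_appTop
  haveI : Algebra.FinitePresentation Γ(G.U, ⊤) Γ(G.R, ⊤) := G.s.finitePresentation_appTop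
  haveI : Module.FinitePresentation Γ(G.U, ⊤) Γ(G.R, ⊤) :=
    Module.FinitePresentation.of_finite_of_finitePresentation _ _
  exact Module.Flat.projective_of_finitePresentation

theorem invariants_eq [IsAffine G.U] [IsAffine G.R] : (gdata G).inv = G.invariants := rfl

theorem spanned_gdata [IsAffine G.U] [IsAffine G.R] [IsFinite G.s] [Mono G.j] :
    (gdata G).Spanned := by
  algebraize [G.s.appTop.hom]
  haveI : Module.Finite Γ(G.U, ⊤) Γ(G.R, ⊤) := G.s.finite_appTop
  let D := Γ(G.U, ⊤) ⊗[ℤ] Γ(G.U, ⊤)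
  let f : D →+* Γ(G.R, ⊤) := (Algebra.TensorProduct.productMap
    G.s.appTop.hom.toIntAlgHom G.t.appTop.hom.toIntAlgHom).toRingHom
  have hf : ∀ a a', f (a ⊗ₜ a') = G.s.appTop.hom a * G.t.appTop.hom a' := fun a a' =>
    Algebra.TensorProduct.productMap_apply_tmul _ _ _ _
  have hfin : (CommRingCat.ofHom f).hom.Finite := by
    refine RingHom.Finite.of_comp_finite
      (f := (Algebra.TensorProduct.includeLeftRingHom : Γ(G.U, ⊤) →+* D)) ?_
    have : f.comp Algebra.TensorProduct.includeLeftRingHom = G.s.appTop.hom := by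
      ext a
      rw [RingHom.comp_apply, Algebra.TensorProduct.includeLeftRingHom_apply, hf, map_one, mul_one]
    rw [CommRingCat.hom_ofHom, this]
    exact G.s.finite_appTop
  haveI : Epi (CommRingCat.ofHom f) := by
    refine ⟨fun {Q} g h hgh => ?_⟩
    have hs : G.s.appTop ≫ g = G.s.appTop ≫ h := by
      ext a
      have := congrArg (fun χ => (ConcreteCategory.hom χ) (a ⊗ₜ (1 : Γ(G.U, ⊤)))) hgh
      simpa [hf] using! this
    have ht : G.t.appTop ≫ g = G.t.appTop ≫ h := by
      ext a
      have := congrArg (fun χ => (ConcreteCategory.hom χ) ((1 : Γ(G.U, ⊤)) ⊗ₜ a)) hgh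
      simpa [hf] using! this
    let α := Spec.map g ≫ G.R.isoSpec.inv
    let β := Spec.map h ≫ G.R.isoSpec.inv
    have key : ∀ r : G.R ⟶ G.U, r.appTop ≫ g = r.appTop ≫ h → α ≫ r = β ≫ r := by
      intro r hr
      simp only [α, β, Category.assoc, ← Scheme.isoSpec_inv_naturality]
      rw [← Category.assoc, ← Category.assoc, ← Spec.map_comp, ← Spec.map_comp, hr]
    have : α = β := by
      apply (cancel_mono G.j).mp
      apply pullback.hom_ext
      · simp only [Category.assoc, Grpd.GroupoidScheme.j, pullback.lift_fst]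
        exact key _ ht
      · simp only [Category.assoc, Grpd.GroupoidScheme.j, pullback.lift_snd]
        exact key _ hs
    exact Spec.map_injective ((cancel_mono G.R.isoSpec.inv).mp this)
  intro y
  obtain ⟨ξ, rfl⟩ := RingHom.surjective_of_epi_of_finite (CommRingCat.ofHom f) hfin y
  induction ξ using TensorProduct.induction_on with
  | zero => rw [map_zero]; exact zero_mem _
  | tmul a a' => exact AddSubgroup.subset_closure ⟨a, a', (hf a a').symm⟩
  | add a b ha hb => rw [map_add]; exact add_mem ha hb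

end

end GrothLib.GrpdQuot
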