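import Groth.Agent.Lib.GrpdQuot.Quot
import Mathlib.AlgebraicGeometry.Gluing
import Mathlib.AlgebraicGeometry.Restrict

/-!
The universal property of the quotient of an affine groupoid scheme.
-/

universe u

open CategoryTheory CategoryTheory.Limits AlgebraicGeometry Opposite

namespace GrothLib.GrpdQuot

noncomputable section

/-- The scheme of the ring of invariants of a groupoid scheme. -/
abbrev quotSpec {S : Scheme.{u}} (G : Grpd.GroupoidScheme S) : Scheme.{u} :=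
  Spec (CommRingCat.of G.invariants)

variable {S : Scheme.{u}} (G : Grpd.GroupoidScheme S) [IsAffine G.U] [IsAffine G.R]

theorem toQuot_appTop_apply (f : Γ(quotSpec G, ⊤)) :
    G.toQuot.appTop f = ((Scheme.ΓSpecIso (CommRingCat.of G.invariants)).hom f : G.invariants).1 := by
  rw [Grpd.GroupoidScheme.toQuot, Scheme.Hom.comp_appTop, Scheme.toSpecΓ_appTop]
  exact congrArg (fun χ => (ConcreteCategory.hom χ) f)
    (Scheme.ΓSpecIso_naturality (CommRingCat.ofHom G.invariants.subtype))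

theorem isLocalization_basicOpen_top {X : Scheme.{u}} [IsAffine X] (f : Γ(X, ⊤)) {V : X.Opens}
    (e : V = X.basicOpen f) :
    @IsLocalization.Away _ _ f Γ(X, V) _ (X.presheaf.map (homOfLE (le_top : V ≤ ⊤)).op).hom.toAlgebra :=
  (isAffineOpen_top X).isLocalization_of_eq_basicOpen f (homOfLE le_top) e

theorem app_map_apply {X Y : Scheme.{u}} (φ : X ⟶ Y) {D E : Y.Opens} (i : D ≤ E) (y : Γ(Y, E)) :
    φ.app D (Y.presheaf.map (homOfLE i).op y) =
      X.presheaf.map (homOfLE (φ.preimage_mono i)).op (φ.app E y) :=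
  congrArg (fun χ => (ConcreteCategory.hom χ) y) (φ.naturality (homOfLE i).op)

theorem appLE_map_top {X Y : Scheme.{u}} (φ : X ⟶ Y) {Q : Y.Opens} {V : X.Opens} (e : V ≤ φ ⁻¹ᵁ Q)
    (y : Γ(Y, ⊤)) :
    φ.appLE Q V e (Y.presheaf.map (homOfLE (le_top : Q ≤ ⊤)).op y) =
      X.presheaf.map (homOfLE (le_top : V ≤ ⊤)).op (φ.appTop y) := by
  have h := congrArg (fun χ => (ConcreteCategory.hom χ) y)
    ((φ.map_appLE e (homOfLE (le_top : Q ≤ ⊤)).op).trans (φ.appLE_map le_top (homOfLE (le_top : V ≤ ⊤)).op).symm)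
  rw [show φ.appLE ⊤ ⊤ le_top = φ.appTop from φ.appLE_eq_app] at h
  exact h

theorem resLE_appTop_eq {X Y : Scheme.{u}} (φ : X ⟶ Y) (U : Y.Opens) (V : X.Opens) (e : V ≤ φ ⁻¹ᵁ U) :
    (φ.resLE U V e).appTop = U.topIso.hom ≫ φ.appLE U V e ≫ V.topIso.inv :=
  Scheme.Hom.resLE_app_top φ e

theorem morphismRestrict_appTop_eq {X Y : Scheme.{u}} (φ : X ⟶ Y) (D : Y.Opens) :
    (φ ∣_ D).appTop = D.topIso.hom ≫ φ.app D ≫ (φ ⁻¹ᵁ D).topIso.inv := by
  rw [← Scheme.Hom.resLE_eq_morphismRestrict, resLE_appTop_eq, Scheme.Hom.appLE_eq_app]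

/-- The equations defining compatibility with the arrows of a morphism on an open set of objects. -/
def Equalizes {S : Scheme.{u}} (G : Grpd.GroupoidScheme S) (Q : G.U.Opens) {X : Scheme.{u}}
    (f : Q.toScheme ⟶ X) : Prop :=
  ∀ ⦃T : Scheme.{u}⦄ (a b : T ⟶ Q.toScheme) (r : T ⟶ G.R),
    r ≫ G.t = a ≫ Q.ι → r ≫ G.s = b ≫ Q.ι → a ≫ f = b ≫ f

theorem preimage_s_eq_preimage_t (D : (quotSpec G).Opens) :
    G.s ⁻¹ᵁ (G.toQuot ⁻¹ᵁ D) = G.t ⁻¹ᵁ (G.toQuot ⁻¹ᵁ D) := by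
  rw [← Scheme.Hom.comp_preimage, ← Scheme.Hom.comp_preimage, t_toQuot]

variable [IsFinite G.s] [Flat G.s] [LocallyOfFinitePresentation G.s]

theorem preimage_basicOpen_eq (f : Γ(quotSpec G, ⊤)) :
    G.toQuot ⁻¹ᵁ (quotSpec G).basicOpen f = G.U.basicOpen (G.toQuot.appTop f) :=
  Scheme.preimage_basicOpen_top _ _

omit [IsFinite G.s] [Flat G.s] [LocallyOfFinitePresentation G.s] in
theorem app_injective (f : Γ(quotSpec G, ⊤)) :
    Function.Injective (G.toQuot.app ((quotSpec G).basicOpen f)) := by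
  let D := (quotSpec G).basicOpen f
  let Q := G.toQuot ⁻¹ᵁ D
  letI : Algebra Γ(quotSpec G, ⊤) Γ(quotSpec G, D) :=
    ((quotSpec G).presheaf.map (homOfLE le_top).op).hom.toAlgebra
  letI : Algebra Γ(G.U, ⊤) Γ(G.U, Q) := (G.U.presheaf.map (homOfLE le_top).op).hom.toAlgebra
  haveI : IsLocalization.Away f Γ(quotSpec G, D) := isLocalization_basicOpen_top f rfl
  haveI : IsLocalization.Away (G.toQuot.appTop f) Γ(G.U, Q) :=
    isLocalization_basicOpen_top _ (Scheme.preimage_basicOpen_top _ _)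
  rw [injective_iff_map_eq_zero]
  intro z hz
  obtain ⟨⟨y, d⟩, hy⟩ := IsLocalization.surj (Submonoid.powers f) z
  obtain ⟨_, n, rfl⟩ := d
  have hy0 : algebraMap Γ(G.U, ⊤) Γ(G.U, Q) (G.toQuot.appTop y) = 0 := by
    have h := congrArg (G.toQuot.app D) hy
    rw [map_mul, hz, zero_mul] at h
    exact ((app_map_apply G.toQuot (le_top : D ≤ ⊤) y).symm.trans h.symm)
  obtain ⟨⟨_, m, rfl⟩, hm⟩ := (IsLocalization.map_eq_zero_iff (Submonoid.powers (G.toQuot.appTop f)) _ _).mp hy0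
  have hym : f ^ m * y = 0 := by
    apply (Scheme.ΓSpecIso (CommRingCat.of G.invariants)).commRingCatIsoToRingEquiv.injective
    apply Subtype.val_injective
    have h1 := toQuot_appTop_apply G (f ^ m * y)
    rw [map_mul, map_pow] at h1
    rw [map_zero]
    exact h1.symm.trans hm
  have : algebraMap Γ(quotSpec G, ⊤) Γ(quotSpec G, D) y = 0 :=
    (IsLocalization.map_eq_zero_iff (Submonoid.powers f) _ _).mpr ⟨⟨_, m, rfl⟩, hym⟩
  rw [this] at hy
  exact (IsLocalization.map_units (M := Submonoid.powers f) Γ(quotSpec G, D) ⟨_, n, rfl⟩).mul_left_eq_zero.mp hy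

omit [IsFinite G.s] [Flat G.s] [LocallyOfFinitePresentation G.s] in
theorem exists_app_eq (f : Γ(quotSpec G, ⊤)) (a : Γ(G.U, G.toQuot ⁻¹ᵁ (quotSpec G).basicOpen f))
    (ha : G.s.appLE (G.toQuot ⁻¹ᵁ (quotSpec G).basicOpen f)
        (G.s ⁻¹ᵁ (G.toQuot ⁻¹ᵁ (quotSpec G).basicOpen f)) le_rfl a =
      G.t.appLE (G.toQuot ⁻¹ᵁ (quotSpec G).basicOpen f)
        (G.s ⁻¹ᵁ (G.toQuot ⁻¹ᵁ (quotSpec G).basicOpen f)) (preimage_s_eq_preimage_t G _).le a) :
    ∃ z, G.toQuot.app ((quotSpec G).basicOpen f) z = a := by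
  let D := (quotSpec G).basicOpen f
  let Q := G.toQuot ⁻¹ᵁ D
  let V := G.s ⁻¹ᵁ Q
  letI : Algebra Γ(quotSpec G, ⊤) Γ(quotSpec G, D) :=
    ((quotSpec G).presheaf.map (homOfLE le_top).op).hom.toAlgebra
  letI : Algebra Γ(G.U, ⊤) Γ(G.U, Q) := (G.U.presheaf.map (homOfLE le_top).op).hom.toAlgebra
  letI : Algebra Γ(G.R, ⊤) Γ(G.R, V) := (G.R.presheaf.map (homOfLE le_top).op).hom.toAlgebra
  haveI : IsLocalization.Away f Γ(quotSpec G, D) := isLocalization_basicOpen_top f rfl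
  haveI : IsLocalization.Away (G.toQuot.appTop f) Γ(G.U, Q) :=
    isLocalization_basicOpen_top _ (Scheme.preimage_basicOpen_top _ _)
  haveI : IsLocalization.Away (G.s.appTop (G.toQuot.appTop f)) Γ(G.R, V) :=
    isLocalization_basicOpen_top _ (by
      rw [← Scheme.preimage_basicOpen_top, ← Scheme.preimage_basicOpen_top])
  obtain ⟨⟨x, d⟩, hx⟩ := IsLocalization.surj (Submonoid.powers (G.toQuot.appTop f)) a
  obtain ⟨_, n, rfl⟩ := d
  set h := G.toQuot.appTop f with hh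
  have hhinv : h ∈ G.invariants := by
    rw [hh, toQuot_appTop_apply]; exact Subtype.coe_prop _
  have hst : G.s.appTop h = G.t.appTop h := hhinv
  have hx' : algebraMap Γ(G.R, ⊤) Γ(G.R, V) (G.s.appTop x) =
      algebraMap Γ(G.R, ⊤) Γ(G.R, V) (G.t.appTop x) := by
    have h1 := congrArg (G.s.appLE Q V le_rfl) hx
    have h2 := congrArg (G.t.appLE Q V (preimage_s_eq_preimage_t G D).le) hx
    rw [map_mul, show algebraMap Γ(G.U, ⊤) Γ(G.U, Q) = (G.U.presheaf.map (homOfLE le_top).op).hom from rfl] at h1 h2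
    have e1 := fun y => appLE_map_top G.s (le_refl V) y
    have e2 := fun y => appLE_map_top G.t (preimage_s_eq_preimage_t G D).le y
    have h3 : G.s.appLE Q V le_rfl (G.U.presheaf.map (homOfLE le_top).op x) =
        G.t.appLE Q V (preimage_s_eq_preimage_t G D).le (G.U.presheaf.map (homOfLE le_top).op x) := by
      refine h1.symm.trans (Eq.trans ?_ h2)
      refine congrArg₂ (· * ·) ha ?_
      refine (e1 (h ^ n)).trans (Eq.trans ?_ (e2 (h ^ n)).symm)
      rw [map_pow G.s.appTop.hom, map_pow G.t.appTop.hom]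
      exact congrArg (fun z => G.R.presheaf.map (homOfLE le_top).op (z ^ n)) hst
    exact (e1 x).symm.trans (h3.trans (e2 x))
  obtain ⟨⟨_, m, rfl⟩, hm⟩ :=
    (IsLocalization.eq_iff_exists (Submonoid.powers (G.s.appTop h)) _).mp hx'
  have hc : h ^ m * x ∈ G.invariants := by
    change G.s.appTop (h ^ m * x) = G.t.appTop (h ^ m * x)
    rw [map_mul, map_mul, map_pow, map_pow, ← hst]
    exact hm
  let c : Γ(quotSpec G, ⊤) := (Scheme.ΓSpecIso (CommRingCat.of G.invariants)).inv ⟨_, hc⟩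
  have hcc : G.toQuot.appTop c = h ^ m * x := by
    rw [toQuot_appTop_apply]
    exact congrArg Subtype.val (congrArg (fun χ => (ConcreteCategory.hom χ) (⟨_, hc⟩ : G.invariants))
      (Scheme.ΓSpecIso (CommRingCat.of G.invariants)).inv_hom_id)
  let z : Γ(quotSpec G, D) :=
    IsLocalization.mk' (M := Submonoid.powers f) _ c ⟨f ^ (m + n), ⟨m + n, rfl⟩⟩
  refine ⟨z, ?_⟩
  have hz : z * algebraMap Γ(quotSpec G, ⊤) _ (f ^ (m + n)) = algebraMap _ _ c := IsLocalization.mk'_spec _ _ _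
  have hz' := congrArg (G.toQuot.app D) hz
  rw [map_mul] at hz'
  have ez : ∀ y, G.toQuot.app D (algebraMap Γ(quotSpec G, ⊤) Γ(quotSpec G, D) y) =
      algebraMap Γ(G.U, ⊤) Γ(G.U, Q) (G.toQuot.appTop y) := fun y =>
    app_map_apply G.toQuot (le_top : D ≤ ⊤) y
  rw [ez, ez, map_pow G.toQuot.appTop.hom, ← hh, hcc, map_mul, ← hx] at hz'
  have hu : IsUnit (algebraMap Γ(G.U, ⊤) Γ(G.U, Q) (h ^ (m + n))) :=
    IsLocalization.map_units (M := Submonoid.powers h) _ ⟨_, m + n, rfl⟩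
  apply hu.mul_left_inj.mp
  rw [hz', pow_add, map_mul]
  ring

omit [IsFinite G.s] [Flat G.s] [LocallyOfFinitePresentation G.s] in
theorem restrict_appTop_injective (f : Γ(quotSpec G, ⊤)) :
    Function.Injective (G.toQuot ∣_ (quotSpec G).basicOpen f).appTop := by
  rw [← Scheme.Hom.resLE_eq_morphismRestrict]
  show Function.Injective (Scheme.Hom.app _ ⊤)
  rw [Scheme.Hom.resLE_app_top, Scheme.Hom.appLE_eq_app]
  intro a b h
  apply (ConcreteCategory.bijective_of_isIso ((quotSpec G).basicOpen f).topIso.hom).1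
  apply app_injective G f
  exact (ConcreteCategory.bijective_of_isIso (G.toQuot ⁻¹ᵁ (quotSpec G).basicOpen f).topIso.inv).1 h

omit [IsFinite G.s] [Flat G.s] [LocallyOfFinitePresentation G.s] in
theorem exists_factor_affine (f : Γ(quotSpec G, ⊤)) {X : Scheme.{u}} [IsAffine X]
    (F : (G.toQuot ⁻¹ᵁ (quotSpec G).basicOpen f).toScheme ⟶ X) (hF : Equalizes G _ F) :
    ∃ g, (G.toQuot ∣_ (quotSpec G).basicOpen f) ≫ g = F := by
  have hrange : ∀ y : Γ(X, ⊤), ∃ z, (G.toQuot ∣_ (quotSpec G).basicOpen f).appTop z = F.appTop y := by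
    intro y
    have hst := hF (G.t.resLE (G.toQuot ⁻¹ᵁ (quotSpec G).basicOpen f)
        (G.s ⁻¹ᵁ (G.toQuot ⁻¹ᵁ (quotSpec G).basicOpen f)) (preimage_s_eq_preimage_t G _).le)
      (G.s.resLE (G.toQuot ⁻¹ᵁ (quotSpec G).basicOpen f)
        (G.s ⁻¹ᵁ (G.toQuot ⁻¹ᵁ (quotSpec G).basicOpen f)) le_rfl)
      (G.s ⁻¹ᵁ (G.toQuot ⁻¹ᵁ (quotSpec G).basicOpen f)).ι
      (Scheme.Hom.resLE_comp_ι _ _).symm (Scheme.Hom.resLE_comp_ι _ _).symm
    have h := congrArg Scheme.Hom.appTop hst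
    rw [Scheme.Hom.comp_appTop, Scheme.Hom.comp_appTop, resLE_appTop_eq, resLE_appTop_eq] at h
    have h' := congrArg (fun χ => (ConcreteCategory.hom χ) y) h
    simp only [CommRingCat.comp_apply] at h'
    have ha := ((ConcreteCategory.bijective_of_isIso
      (G.s ⁻¹ᵁ (G.toQuot ⁻¹ᵁ (quotSpec G).basicOpen f)).topIso.inv).1 h').symm
    obtain ⟨z, hz⟩ := exists_app_eq G f _ ha
    refine ⟨((quotSpec G).basicOpen f).topIso.inv z, ?_⟩
    rw [morphismRestrict_appTop_eq]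
    simp only [CommRingCat.comp_apply]
    rw [show ((quotSpec G).basicOpen f).topIso.hom (((quotSpec G).basicOpen f).topIso.inv z) = z from
      congrArg (fun χ => (ConcreteCategory.hom χ) z) ((quotSpec G).basicOpen f).topIso.inv_hom_id, hz]
    exact congrArg (fun χ => (ConcreteCategory.hom χ) (F.appTop y))
      (G.toQuot ⁻¹ᵁ (quotSpec G).basicOpen f).topIso.hom_inv_id
  let D := (quotSpec G).basicOpen f
  haveI : IsAffine D.toScheme := (isAffineOpen_top _).basicOpen f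
  have hinj := restrict_appTop_injective G f
  choose z hz using hrange
  let ψ : Γ(X, ⊤) →+* Γ(D.toScheme, ⊤) :=
    { toFun := z
      map_one' := hinj (by rw [hz, map_one, map_one])
      map_zero' := hinj (by rw [hz, map_zero, map_zero])
      map_mul' := fun a b => hinj (by rw [hz, map_mul, map_mul, hz, hz])
      map_add' := fun a b => hinj (by rw [hz, map_add, map_add, hz, hz]) }
  refine ⟨D.toScheme.isoSpec.hom ≫ Spec.map (CommRingCat.ofHom ψ) ≫ X.isoSpec.inv, ext_of_isAffine ?_⟩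
  ext y
  rw [← hz y, Scheme.Hom.comp_appTop]
  change (G.toQuot ∣_ D).appTop _ = (G.toQuot ∣_ D).appTop _
  congr 1
  have hcomp : (D.toScheme.isoSpec.hom ≫ Spec.map (CommRingCat.ofHom ψ) ≫ X.isoSpec.inv) =
      D.toScheme.toSpecΓ ≫ Spec.map (CommRingCat.ofHom ψ) ≫ X.isoSpec.inv := rfl
  have hnat : (D.toScheme.toSpecΓ ≫ Spec.map (CommRingCat.ofHom ψ) ≫ X.isoSpec.inv).appTop =
      X.isoSpec.inv.appTop ≫ (Scheme.ΓSpecIso Γ(X, ⊤)).hom ≫ CommRingCat.ofHom ψ := by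
    rw [Scheme.Hom.comp_appTop, Scheme.Hom.comp_appTop, Category.assoc, Scheme.toSpecΓ_appTop,
      Scheme.ΓSpecIso_naturality]
    rfl
  have hinv : X.isoSpec.inv.appTop ≫ (Scheme.ΓSpecIso Γ(X, ⊤)).hom = 𝟙 _ := by
    rw [← Scheme.toSpecΓ_appTop, ← Scheme.Hom.comp_appTop, ← Scheme.isoSpec_hom, Iso.hom_inv_id]
    rfl
  rw [hcomp, hnat, ← Category.assoc, hinv, Category.id_comp]
  rfl

omit [IsFinite G.s] [Flat G.s] [LocallyOfFinitePresentation G.s] in
theorem restrict_homOfLE {D E : (quotSpec G).Opens} (i : D ≤ E) :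
    (G.toQuot ∣_ D) ≫ (quotSpec G).homOfLE i =
      G.U.homOfLE (G.toQuot.preimage_mono i) ≫ (G.toQuot ∣_ E) := by
  rw [← cancel_mono E.ι]
  simp only [Category.assoc, Scheme.homOfLE_ι, morphismRestrict_ι, Scheme.homOfLE_ι_assoc]

theorem surjective_restrict (O : (quotSpec G).Opens) : Function.Surjective (G.toQuot ∣_ O) := by
  intro c
  obtain ⟨x, hx⟩ := surjective_toQuot G c.1
  exact ⟨⟨x, show G.toQuot x ∈ O from hx.symm ▸ c.2⟩, Subtype.ext ((morphismRestrict_base_coe _ _ _).trans hx)⟩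

theorem eq_of_restrict_comp_eq {O : (quotSpec G).Opens} {X : Scheme.{u}} (g g' : O.toScheme ⟶ X)
    (h : (G.toQuot ∣_ O) ≫ g = (G.toQuot ∣_ O) ≫ g') : g = g' := by
  have hbase : ∀ c, g c = g' c := fun c => by
    obtain ⟨x, rfl⟩ := surjective_restrict G O c
    rw [← Scheme.Hom.comp_apply, h, Scheme.Hom.comp_apply]
  have hloc : ∀ c : O.toScheme, ∃ (f : Γ(quotSpec G, ⊤)) (hle : (quotSpec G).basicOpen f ≤ O),
      c.1 ∈ (quotSpec G).basicOpen f ∧
        (quotSpec G).homOfLE hle ≫ g = (quotSpec G).homOfLE hle ≫ g' := by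
    intro c
    obtain ⟨A, hA, hcA, -⟩ := exists_isAffineOpen_mem_and_subset (x := g c) (U := (⊤ : X.Opens)) trivial
    obtain ⟨f, hf, hcf⟩ := (isAffineOpen_top (quotSpec G)).exists_basicOpen_le
      (V := O.ι ''ᵁ (g ⁻¹ᵁ A)) ⟨c.1, c, hcA, rfl⟩ trivial
    have hle : (quotSpec G).basicOpen f ≤ O := hf.trans (O.ι_image_le _)
    refine ⟨f, hle, hcf, ?_⟩
    haveI : IsAffine A.toScheme := hA
    have hr : ∀ k : O.toScheme ⟶ X, (∀ c, g c = k c) →
        Set.range ((quotSpec G).homOfLE hle ≫ k) ⊆ Set.range A.ι := by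
      rintro k hk _ ⟨y, rfl⟩
      rw [Scheme.Opens.range_ι, Scheme.Hom.comp_apply, ← hk]
      obtain ⟨w, hw, hwy⟩ := hf y.2
      have : (quotSpec G).homOfLE hle y = w := by
        apply O.ι.isOpenEmbedding.injective
        rw [← Scheme.Hom.comp_apply, Scheme.homOfLE_ι]
        exact hwy.symm
      rw [this]
      exact hw
    rw [← IsOpenImmersion.lift_fac A.ι _ (hr g fun _ => rfl), ← IsOpenImmersion.lift_fac A.ι _ (hr g' hbase)]
    congr 1
    apply ext_of_isAffine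
    ext y
    apply restrict_appTop_injective G f
    refine congrArg (fun φ : (G.toQuot ⁻¹ᵁ _).toScheme ⟶ A.toScheme => φ.appTop y)
      (?_ : (G.toQuot ∣_ (quotSpec G).basicOpen f) ≫ IsOpenImmersion.lift A.ι _ (hr g fun _ => rfl) =
        (G.toQuot ∣_ (quotSpec G).basicOpen f) ≫ IsOpenImmersion.lift A.ι _ (hr g' hbase))
    rw [← cancel_mono A.ι, Category.assoc, Category.assoc, IsOpenImmersion.lift_fac,
      IsOpenImmersion.lift_fac, ← Category.assoc, ← Category.assoc, restrict_homOfLE, Category.assoc,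
      Category.assoc, h]
  choose f hle hmem heq using hloc
  refine Scheme.Cover.hom_ext (Scheme.Cover.mkOfCovers (P := @IsOpenImmersion) O.toScheme
    (fun c => ((quotSpec G).basicOpen (f c)).toScheme) (fun c => (quotSpec G).homOfLE (hle c))
    (fun c => ⟨c, ⟨c.1, hmem c⟩, ?_⟩) (fun _ => inferInstance)) _ _ heq
  apply O.ι.isOpenEmbedding.injective
  rw [← Scheme.Hom.comp_apply, Scheme.homOfLE_ι]
  rfl

theorem exists_factor (O : (quotSpec G).Opens) {X : Scheme.{u}}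
    (F : (G.toQuot ⁻¹ᵁ O).toScheme ⟶ X) (hF : Equalizes G _ F) :
    ∃ g, (G.toQuot ∣_ O) ≫ g = F := by
  let Q := G.toQuot ⁻¹ᵁ O
  haveI : IsIntegralHom G.toQuot := isIntegralHom_toQuot G
  have hfib : ∀ x y : Q.toScheme, G.toQuot x.1 = G.toQuot y.1 → F x = F y := by
    intro x y hxy
    obtain ⟨r, hrt, hrs⟩ := (toQuot_eq_iff G x.1 y.1).mp hxy
    have hr : r ∈ G.s ⁻¹ᵁ Q := show G.s r ∈ Q from hrs.symm ▸ y.2
    have hst : G.t.resLE Q (G.s ⁻¹ᵁ Q) (preimage_s_eq_preimage_t G O).le ≫ F =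
        G.s.resLE Q (G.s ⁻¹ᵁ Q) le_rfl ≫ F :=
      hF _ _ (G.s ⁻¹ᵁ Q).ι (Scheme.Hom.resLE_comp_ι _ _).symm (Scheme.Hom.resLE_comp_ι _ _).symm
    have hx : G.t.resLE Q (G.s ⁻¹ᵁ Q) (preimage_s_eq_preimage_t G O).le ⟨r, hr⟩ = x := by
      apply Q.ι.isOpenEmbedding.injective
      rw [← Scheme.Hom.comp_apply, Scheme.Hom.resLE_comp_ι]
      exact hrt
    have hy : G.s.resLE Q (G.s ⁻¹ᵁ Q) le_rfl ⟨r, hr⟩ = y := by
      apply Q.ι.isOpenEmbedding.injective
      rw [← Scheme.Hom.comp_apply, Scheme.Hom.resLE_comp_ι]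
      exact hrs
    rw [← hx, ← hy, ← Scheme.Hom.comp_apply, hst, Scheme.Hom.comp_apply]
  have hloc : ∀ c : O.toScheme, ∃ (f : Γ(quotSpec G, ⊤)) (hle : (quotSpec G).basicOpen f ≤ O)
      (g : ((quotSpec G).basicOpen f).toScheme ⟶ X), c.1 ∈ (quotSpec G).basicOpen f ∧
      (G.toQuot ∣_ (quotSpec G).basicOpen f) ≫ g =
        G.U.homOfLE (G.toQuot.preimage_mono hle) ≫ F := by
    intro c
    obtain ⟨x₀, hx₀⟩ := surjective_toQuot G c.1
    have hx₀Q : x₀ ∈ Q := show G.toQuot x₀ ∈ O from hx₀.symm ▸ c.2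
    obtain ⟨A, hA, hcA, -⟩ :=
      exists_isAffineOpen_mem_and_subset (x := F ⟨x₀, hx₀Q⟩) (U := (⊤ : X.Opens)) trivial
    let Ω : G.U.Opens := Q.ι ''ᵁ (F ⁻¹ᵁ A)
    let O' : (quotSpec G).Opens :=
      O ⊓ ⟨(G.toQuot '' (Ω : Set G.U)ᶜ)ᶜ, (G.toQuot.isClosedMap _ Ω.isOpen.isClosed_compl).isOpen_compl⟩
    have hc : c.1 ∈ O' := by
      refine ⟨c.2, ?_⟩
      rintro ⟨y, hy, hyc⟩
      have hyQ : y ∈ Q := show G.toQuot y ∈ O from hyc.symm ▸ c.2
      refine hy ⟨⟨y, hyQ⟩, ?_, rfl⟩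
      change F ⟨y, hyQ⟩ ∈ A
      rw [hfib ⟨y, hyQ⟩ ⟨x₀, hx₀Q⟩ (hyc.trans hx₀.symm)]
      exact hcA
    obtain ⟨f, hf, hcf⟩ := (isAffineOpen_top (quotSpec G)).exists_basicOpen_le (V := O') ⟨c.1, hc⟩ trivial
    have hle : (quotSpec G).basicOpen f ≤ O := hf.trans inf_le_left
    let j := G.U.homOfLE (G.toQuot.preimage_mono hle)
    have hr : Set.range (j ≫ F) ⊆ Set.range A.ι := by
      rintro _ ⟨y, rfl⟩
      rw [Scheme.Opens.range_ι, Scheme.Hom.comp_apply]
      by_contra hyA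
      refine (hf y.2).2 ⟨y.1, ?_, rfl⟩
      rintro ⟨w, hw, hwy⟩
      have : j y = w := by
        apply Q.ι.isOpenEmbedding.injective
        rw [← Scheme.Hom.comp_apply, Scheme.homOfLE_ι]
        exact hwy.symm
      exact hyA (this ▸ hw)
    haveI : IsAffine A.toScheme := hA
    obtain ⟨g, hg⟩ := exists_factor_affine G f (IsOpenImmersion.lift A.ι (j ≫ F) hr) (by
      intro T a b r ha hb
      rw [← cancel_mono A.ι, Category.assoc, Category.assoc, IsOpenImmersion.lift_fac,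
        ← Category.assoc, ← Category.assoc]
      exact hF _ _ r (by rw [Category.assoc, Scheme.homOfLE_ι]; exact ha)
        (by rw [Category.assoc, Scheme.homOfLE_ι]; exact hb))
    refine ⟨f, hle, g ≫ A.ι, hcf, ?_⟩
    rw [← Category.assoc, hg, IsOpenImmersion.lift_fac]
  choose f hle g hmem hg using hloc
  let 𝒰 : O.toScheme.OpenCover := Scheme.Cover.mkOfCovers (P := @IsOpenImmersion) O.toScheme
    (fun c => ((quotSpec G).basicOpen (f c)).toScheme) (fun c => (quotSpec G).homOfLE (hle c))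
    (fun c => ⟨c, ⟨c.1, hmem c⟩, by
      apply O.ι.isOpenEmbedding.injective
      rw [← Scheme.Hom.comp_apply, Scheme.homOfLE_ι]
      rfl⟩) (fun _ => inferInstance)
  have hcompat : ∀ c d, pullback.fst (𝒰.f c) (𝒰.f d) ≫ g c = pullback.snd (𝒰.f c) (𝒰.f d) ≫ g d := by
    intro c d
    let Dc := (quotSpec G).basicOpen (f c)
    let Dd := (quotSpec G).basicOpen (f d)
    have hr : Set.range (pullback.fst (𝒰.f c) (𝒰.f d) ≫ Dc.ι) ⊆ Set.range (Dc ⊓ Dd).ι := by
      rintro _ ⟨z, rfl⟩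
      rw [Scheme.Opens.range_ι]
      refine ⟨(pullback.fst (𝒰.f c) (𝒰.f d) z).2, ?_⟩
      have e : pullback.fst (𝒰.f c) (𝒰.f d) ≫ Dc.ι = pullback.snd (𝒰.f c) (𝒰.f d) ≫ Dd.ι := by
        have h0 := congrArg (· ≫ O.ι) (pullback.condition (f := 𝒰.f c) (g := 𝒰.f d))
        exact (congrArg (pullback.fst (𝒰.f c) (𝒰.f d) ≫ ·) (Scheme.homOfLE_ι _ (hle c))).symm.trans
          ((Category.assoc _ _ _).symm.trans (h0.trans ((Category.assoc _ _ _).trans
            (congrArg (pullback.snd (𝒰.f c) (𝒰.f d) ≫ ·) (Scheme.homOfLE_ι _ (hle d))))))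
      change (pullback.fst (𝒰.f c) (𝒰.f d) ≫ Dc.ι) z ∈ Dd
      rw [e]
      exact (pullback.snd (𝒰.f c) (𝒰.f d) z).2
    let l := IsOpenImmersion.lift (Dc ⊓ Dd).ι _ hr
    have h₁ : l ≫ (quotSpec G).homOfLE (inf_le_left : Dc ⊓ Dd ≤ Dc) = pullback.fst (𝒰.f c) (𝒰.f d) := by
      rw [← cancel_mono Dc.ι, Category.assoc, Scheme.homOfLE_ι, IsOpenImmersion.lift_fac]
      rfl
    have h₂ : l ≫ (quotSpec G).homOfLE (inf_le_right : Dc ⊓ Dd ≤ Dd) = pullback.snd (𝒰.f c) (𝒰.f d) := by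
      have h0 := congrArg (· ≫ O.ι) (pullback.condition (f := 𝒰.f c) (g := 𝒰.f d))
      rw [← cancel_mono Dd.ι, Category.assoc, Scheme.homOfLE_ι, IsOpenImmersion.lift_fac]
      exact (congrArg (pullback.fst (𝒰.f c) (𝒰.f d) ≫ ·) (Scheme.homOfLE_ι _ (hle c))).symm.trans
        ((Category.assoc _ _ _).symm.trans (h0.trans ((Category.assoc _ _ _).trans
          (congrArg (pullback.snd (𝒰.f c) (𝒰.f d) ≫ ·) (Scheme.homOfLE_ι _ (hle d))))))
    refine (congrArg (· ≫ g c) h₁.symm).trans (Eq.trans ?_ (congrArg (· ≫ g d) h₂))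
    refine (Category.assoc _ _ _).trans (Eq.trans ?_ (Category.assoc _ _ _).symm)
    refine congrArg (l ≫ ·) ?_
    apply eq_of_restrict_comp_eq G
    rw [← Category.assoc, ← Category.assoc, restrict_homOfLE, restrict_homOfLE, Category.assoc,
      Category.assoc, hg c, hg d, Scheme.homOfLE_homOfLE_assoc, Scheme.homOfLE_homOfLE_assoc]
  refine ⟨𝒰.glueMorphisms g hcompat, ?_⟩
  refine Scheme.Cover.hom_ext (Scheme.Cover.mkOfCovers (P := @IsOpenImmersion) O.toScheme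
    (fun c => (G.toQuot ⁻¹ᵁ (quotSpec G).basicOpen (f c)).toScheme)
    (fun c => G.U.homOfLE (G.toQuot.preimage_mono (hle c)))
    (fun x => ?_) (fun _ => inferInstance) : Q.toScheme.OpenCover) _ _ fun c => ?_
  · refine ⟨(G.toQuot ∣_ O) x, ⟨x.1, ?_⟩, ?_⟩
    · have := hmem ((G.toQuot ∣_ O) x)
      rwa [morphismRestrict_base_coe] at this
    · apply Q.ι.isOpenEmbedding.injective
      rw [← Scheme.Hom.comp_apply, Scheme.homOfLE_ι]
      rfl
  · change G.U.homOfLE (G.toQuot.preimage_mono (hle c)) ≫ (G.toQuot ∣_ O) ≫ 𝒰.glueMorphisms g hcompat =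
      G.U.homOfLE (G.toQuot.preimage_mono (hle c)) ≫ F
    rw [← Category.assoc, ← restrict_homOfLE G (hle c), Category.assoc, ← hg c]
    congr 1
    exact 𝒰.ι_glueMorphisms g hcompat c

end

end GrothLib.GrpdQuot
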