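import Groth.Agent.Lib.GrpdQuot.System
import Mathlib.LinearAlgebra.Matrix.Charpoly.Coeff
import Mathlib.RingTheory.Ideal.GoingUp
import Mathlib.RingTheory.QuasiFinite.Basic
import Mathlib.FieldTheory.IsAlgClosed.Basic
import Mathlib.RingTheory.Polynomial.Basic
import Mathlib.FieldTheory.Fixed

/-!
Affine groupoids with finite projective source map: characteristic polynomials are invariant, the
ring of invariants is a geometric quotient.
-/

universe u

namespace GrothLib.GrpdQuot

open Matrix Polynomial TensorProduct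

/-- The rings and maps of an affine groupoid which are used to form its quotient. -/
structure GData (A B C : Type u) [CommRing A] [CommRing B] [CommRing C] where
  s : A →+* B
  t : A →+* B
  e : B →+* A
  p : B →+* C
  q : B →+* C
  w : B →+* C
  e_s : e.comp s = RingHom.id A
  e_t : e.comp t = RingHom.id A
  pos : IsPO s s p q
  pot : IsPO t s p w
  qt : q.comp t = w.comp t

namespace GData

variable {A B C : Type u} [CommRing A] [CommRing B] [CommRing C] (G : GData A B C)

/-- The invariant elements. -/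
abbrev inv : Subring A := RingHom.eqLocus G.s G.t

theorem e_s_apply (a : A) : G.e (G.s a) = a := RingHom.congr_fun G.e_s a

theorem e_t_apply (a : A) : G.e (G.t a) = a := RingHom.congr_fun G.e_t a

variable {io : Type} [Fintype io] [DecidableEq io] (S : Sys G.s io)

theorem det_map_eq {D : Type*} [CommRing D] (g : B →+* D) {J : Type*} [Fintype J]
    (c : J → D) (a : J → A) :
    (1 + ∑ j, c j • (S.mat (G.t (a j))).map (g.comp G.s)).det =
      (1 + ∑ j, c j • (S.mat (G.t (a j))).map (g.comp G.t)).det := by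
  have h := (S.baseChange G.pos).det_one_add_cross_eq (S.baseChange G.pot) g c
    (fun j => G.q (G.t (a j)))
  simp only [S.baseChange_mat G.pos] at h
  have e : ∀ j, (S.baseChange G.pot).mat (G.q (G.t (a j))) = (S.mat (G.t (a j))).map G.t := fun j => by
    rw [show G.q (G.t (a j)) = G.w (G.t (a j)) from RingHom.congr_fun G.qt (a j),
      S.baseChange_mat G.pot]
  simpa [e, Matrix.map_map] using h

/-- The determinant which computes all characteristic polynomials. -/
noncomputable def genDet {J : Type} [Fintype J] (a : J → A) : MvPolynomial J A :=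
  (1 + ∑ j, (MvPolynomial.X j : MvPolynomial J A) •
    (S.mat (G.t (a j))).map (MvPolynomial.C : A →+* MvPolynomial J A)).det

theorem map_genDet {J : Type} [Fintype J] (a : J → A) {D : Type*} [CommRing D] (g : A →+* D)
    (c : J → D) :
    MvPolynomial.eval₂Hom g c (G.genDet S a) = (1 + ∑ j, c j • (S.mat (G.t (a j))).map g).det := by
  rw [genDet, RingHom.map_det]
  congr 1
  ext k l
  simp [Matrix.one_apply, Matrix.sum_apply, apply_ite (MvPolynomial.eval₂ g c)]

theorem coeff_genDet_mem {J : Type} [Fintype J] (a : J → A) (m : J →₀ ℕ) :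
    (G.genDet S a).coeff m ∈ G.inv := by
  have h : MvPolynomial.map G.s (G.genDet S a) = MvPolynomial.map G.t (G.genDet S a) := by
    have h1 := G.det_map_eq S (MvPolynomial.C : B →+* MvPolynomial J B) MvPolynomial.X a
    have hm : ∀ (g : A →+* B) (P : MvPolynomial J A), MvPolynomial.map g P =
        MvPolynomial.eval₂Hom ((MvPolynomial.C : B →+* MvPolynomial J B).comp g) MvPolynomial.X P := by
      intro g P
      induction P using MvPolynomial.induction_on with
      | C c => simp
      | add P Q hP hQ => rw [map_add, map_add, hP, hQ]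
      | mul_X P i hP => rw [map_mul, map_mul, hP]; simp
    rw [← G.map_genDet S a, ← G.map_genDet S a] at h1
    rw [hm, hm]
    exact h1
  have := congrArg (MvPolynomial.coeff m) h
  rwa [MvPolynomial.coeff_map, MvPolynomial.coeff_map] at this

theorem det_eq_of_agree {J : Type} [Fintype J] (a : J → A) {D : Type*} [CommRing D]
    (u₀ u₁ : A →+* D) (hu : ∀ x ∈ G.inv, u₀ x = u₁ x) (c : J → D) :
    (1 + ∑ j, c j • (S.mat (G.t (a j))).map u₀).det =
      (1 + ∑ j, c j • (S.mat (G.t (a j))).map u₁).det := by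
  rw [← G.map_genDet S a u₀, ← G.map_genDet S a u₁, MvPolynomial.coe_eval₂Hom,
    MvPolynomial.coe_eval₂Hom, MvPolynomial.eval₂_eq', MvPolynomial.eval₂_eq']
  refine Finset.sum_congr rfl fun m _ => ?_
  rw [hu _ (G.coeff_genDet_mem S a m)]

omit [DecidableEq io] in
theorem sum_φ_one_mul : ∑ k, S.φ k 1 * G.e (S.b k) = 1 := by
  have h := congrArg G.e (S.expand 1)
  rw [map_sum, map_one] at h
  simpa [e_s_apply] using h

theorem vecMul_mat_t (a : A) : (G.e ∘ S.b) ᵥ* S.mat (G.t a) = a • (G.e ∘ S.b) := by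
  have h := S.vecMul_mat_comp G.e (G.t a)
  rw [G.e_s, G.e_t_apply] at h
  simpa using h

theorem charpoly_coeff_mem (a : A) (n : ℕ) : (S.mat (G.t a)).charpoly.coeff n ∈ G.inv := by
  cases subsingleton_or_nontrivial B with
  | inl h => exact Subsingleton.elim _ _
  | inr h =>
  have hA : Nontrivial A := G.s.domain_nontrivial
  have h1 := G.det_map_eq S (Polynomial.C : B →+* B[X]) (fun _ : Unit => -X) (fun _ => a)
  simp only [Finset.univ_unique, Finset.sum_singleton] at h1
  have key : ∀ g : A →+* B, (1 + (-X : B[X]) • (S.mat (G.t a)).map ((Polynomial.C : B →+* B[X]).comp g)).det =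
      ((S.mat (G.t a)).map g).charpolyRev := by
    intro g
    rw [Matrix.charpolyRev, neg_smul, ← sub_eq_add_neg, Matrix.map_map]
    rfl
  rw [key, key, ← Matrix.reverse_charpoly, ← Matrix.reverse_charpoly, Polynomial.reverse,
    Polynomial.reverse, Matrix.charpoly_natDegree_eq_dim, Matrix.charpoly_natDegree_eq_dim] at h1
  have h2 := congrArg (Polynomial.reflect (Fintype.card io)) h1
  rw [reflect_reflect, reflect_reflect, Matrix.charpoly_map, Matrix.charpoly_map] at h2
  have h3 := congrArg (fun P => Polynomial.coeff P n) h2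
  simp only [Polynomial.coeff_map] at h3
  exact h3

theorem vecMul_aeval (a : A) (P : A[X]) :
    (G.e ∘ S.b) ᵥ* (aeval (S.mat (G.t a)) P) = P.eval a • (G.e ∘ S.b) := by
  induction P using Polynomial.induction_on with
  | C c => rw [aeval_C, Algebra.algebraMap_eq_smul_one, Matrix.vecMul_smul, Matrix.vecMul_one, eval_C]
  | add P Q hP hQ => rw [map_add, Matrix.vecMul_add, hP, hQ, eval_add, add_smul]
  | monomial n c h =>
    rw [pow_succ, ← mul_assoc, map_mul, aeval_X, ← Matrix.vecMul_vecMul, h, Matrix.smul_vecMul,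
      G.vecMul_mat_t S, smul_smul]
    simp only [eval_mul, eval_X]

theorem eval_charpoly (a : A) : (S.mat (G.t a)).charpoly.eval a = 0 := by
  have h := G.vecMul_aeval S a (S.mat (G.t a)).charpoly
  rw [Matrix.aeval_self_charpoly, Matrix.vecMul_zero] at h
  have h2 : (S.mat (G.t a)).charpoly.eval a * (∑ k, S.φ k 1 * G.e (S.b k)) = 0 := by
    rw [Finset.mul_sum]
    refine Finset.sum_eq_zero fun k _ => ?_
    have hk := congrFun h k
    rw [Pi.zero_apply, Pi.smul_apply, smul_eq_mul, Function.comp_apply] at hk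
    rw [mul_left_comm, ← hk, mul_zero]
  rwa [G.sum_φ_one_mul S, mul_one] at h2

omit [Fintype io] [DecidableEq io] in
theorem isIntegral_inv [letI := G.s.toAlgebra; Module.Finite A B]
    [letI := G.s.toAlgebra; Module.Projective A B] : Algebra.IsIntegral G.inv A := by
  refine ⟨fun a => ?_⟩
  obtain ⟨n, ⟨S⟩⟩ := Sys.exists_of_projective (s := G.s)
  have hl : (S.mat (G.t a)).charpoly ∈ Polynomial.lifts G.inv.subtype := by
    rw [Polynomial.lifts_iff_coeff_lifts]
    exact fun i => ⟨⟨_, G.charpoly_coeff_mem S a i⟩, rfl⟩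
  obtain ⟨P, hP, -, hmon⟩ :=
    Polynomial.lifts_and_natDegree_eq_and_monic hl (Matrix.charpoly_monic _)
  refine ⟨P, hmon, ?_⟩
  rw [← Polynomial.eval_map]
  change Polynomial.eval a (P.map G.inv.subtype) = 0
  rw [hP, G.eval_charpoly S a]

/-- The norm along the source of the pullback by the target. -/
noncomputable def N (a : A) : A := (1 + S.mat (G.t a - 1)).det

theorem N_mem_inv (a : A) : G.N S a ∈ G.inv := by
  have h := G.det_map_eq S (RingHom.id B) (fun _ : Unit => 1) (fun _ => a - 1)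
  simp only [Finset.univ_unique, Finset.sum_singleton, one_smul, RingHom.id_comp, map_sub, map_one] at h
  change G.s (G.N S a) = G.t (G.N S a)
  rw [N, RingHom.map_det, RingHom.map_det]
  simp only [map_add, map_one, RingHom.mapMatrix_apply]
  exact h

theorem N_mem_span (a : A) : G.N S a ∈ Ideal.span {a} := by
  have h : (G.e ∘ S.b) ᵥ* (1 + S.mat (G.t a - 1)) = a • (G.e ∘ S.b) := by
    rw [Matrix.vecMul_add, Matrix.vecMul_one, ← map_one G.t, ← map_sub, G.vecMul_mat_t S]
    ext k
    simp only [Pi.add_apply, Pi.smul_apply, smul_eq_mul]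
    ring
  have h2 := congrArg (fun v => v ᵥ* (1 + S.mat (G.t a - 1)).adjugate) h
  simp only [Matrix.vecMul_vecMul, Matrix.mul_adjugate, Matrix.vecMul_smul, Matrix.vecMul_one,
    Matrix.smul_vecMul] at h2
  have h3 : G.N S a * (∑ k, S.φ k 1 * G.e (S.b k)) ∈ Ideal.span {a} := by
    rw [Finset.mul_sum]
    refine Ideal.sum_mem _ fun k _ => ?_
    have hk := congrFun h2 k
    simp only [Pi.smul_apply, smul_eq_mul, Function.comp_apply] at hk
    rw [mul_left_comm]
    refine Ideal.mul_mem_left _ _ ?_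
    rw [N, hk]
    exact Ideal.mul_mem_right _ _ (Ideal.subset_span rfl)
  rwa [G.sum_φ_one_mul S, mul_one] at h3

omit C in
theorem _root_.GrothLib.GrpdQuot.Sys.det_notMem {A B : Type u} [CommRing A] [CommRing B]
    {s : A →+* B} {io : Type} [Fintype io] [DecidableEq io] (S : Sys s io) (P : Ideal A)
    [P.IsPrime] (g : B) (hg : ∀ Q : Ideal B, Q.IsPrime → Q.comap s = P → g ∉ Q) :
    (1 + S.mat (g - 1)).det ∉ P := by
  let J : Ideal B := Ideal.span {g} ⊔ P.map s
  have hJ : ¬ Disjoint (J : Set B) (P.primeCompl.map s) := by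
    intro hd
    obtain ⟨Q, hQ, hJQ, hQd⟩ := Ideal.exists_le_prime_disjoint _ _ hd
    have hle : P ≤ Q.comap s := Ideal.map_le_iff_le_comap.mp (le_sup_right.trans hJQ)
    refine hg Q hQ (le_antisymm (fun x hx => ?_) hle) (hJQ (le_sup_left (a := Ideal.span {g})
      (Ideal.subset_span rfl)))
    by_contra hxP
    exact Set.disjoint_left.mp hQd hx ⟨x, hxP, rfl⟩
  obtain ⟨z, hzJ, a, ha, rfl⟩ := Set.not_disjoint_iff.mp hJ
  obtain ⟨y, hy, π, hπ, hsum⟩ := Submodule.mem_sup.mp hzJ
  obtain ⟨h, rfl⟩ := Ideal.mem_span_singleton'.mp hy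
  have hπ' : ∀ k x, S.φ k (π * x) ∈ P := by
    refine Submodule.span_induction (p := fun π _ => ∀ k x, S.φ k (π * x) ∈ P) ?_ ?_ ?_ ?_ hπ
    · rintro _ ⟨c, hc, rfl⟩ k x
      rw [S.φ_smul]
      exact P.mul_mem_right _ hc
    · intro k x; simp
    · intro x y _ _ hx hy k z
      rw [add_mul, map_add]
      exact add_mem (hx k z) (hy k z)
    · intro r x _ hx k z
      rw [smul_eq_mul, mul_comm r, mul_assoc]
      exact hx k _
  intro hdet
  let f := Ideal.Quotient.mk P
  have hmul : (1 + S.mat (g - 1)) * (1 + S.mat (h - 1)) = 1 + S.mat (g * h - 1) := by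
    simp only [add_mul, mul_add, one_mul, mul_one, S.mat_mul]
    rw [show g * h - 1 = (g - 1) + (h - 1) + (g - 1) * (h - 1) by ring, S.mat_add, S.mat_add]
    abel
  have hmat1 : S.mat (s a - 1) = (a - 1) • S.mat 1 := by
    rw [← S.mat_smul, map_sub, map_one, mul_one]
  have hcong : (1 + S.mat (g * h - 1)).map f = (1 + (a - 1) • S.mat 1).map f := by
    rw [← hmat1]
    ext k l
    simp only [Matrix.map_apply, Matrix.add_apply]
    rw [Ideal.Quotient.eq]
    have hh : S.mat (g * h - 1) k l - S.mat (s a - 1) k l = -S.φ k (π * S.b l) := by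
      simp only [Sys.mat, Sys.cross_apply, ← map_sub, ← map_neg]
      congr 1
      rw [← hsum]
      ring
    rw [add_sub_add_left_eq_sub, hh]
    exact neg_mem (hπ' k (S.b l))
  have hprod : (1 + (a - 1) • S.mat 1) * (a • 1 + (1 - a) • S.mat 1) =
      (a • 1 : Matrix io io A) := by
    simp only [add_mul, mul_add, one_mul, mul_one, Matrix.smul_mul, Matrix.mul_smul, smul_smul,
      S.mat_mul]
    module
  have h0 : (f a) ^ Fintype.card io = 0 := by
    have h1 := congrArg Matrix.det hprod
    rw [Matrix.det_mul, Matrix.det_smul, Matrix.det_one, mul_one] at h1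
    have h2 : f (1 + (a - 1) • S.mat 1).det = f (1 + S.mat (g * h - 1)).det := by
      rw [RingHom.map_det, RingHom.map_det]
      exact congrArg Matrix.det hcong.symm
    rw [← map_pow, ← h1, map_mul, h2, ← hmul, Matrix.det_mul, map_mul,
      Ideal.Quotient.eq_zero_iff_mem.mpr hdet, zero_mul, zero_mul]
  exact ha (Ideal.Quotient.eq_zero_iff_mem.mp (pow_eq_zero_iff'.mp h0).1)

omit [Fintype io] [DecidableEq io] in
theorem exists_prime_of_comap_eq [letI := G.s.toAlgebra; Module.Finite A B]
    [letI := G.s.toAlgebra; Module.Projective A B] (P₀ P₁ : Ideal A) [P₀.IsPrime] [P₁.IsPrime]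
    (h : P₀.comap G.inv.subtype = P₁.comap G.inv.subtype) :
    ∃ Q : Ideal B, Q.IsPrime ∧ Q.comap G.s = P₀ ∧ Q.comap G.t = P₁ := by
  classical
  by_contra hne
  obtain ⟨n, ⟨S⟩⟩ := Sys.exists_of_projective (s := G.s)
  haveI := G.isIntegral_inv
  have hfin : {Q : Ideal B | Q.IsPrime ∧ Q.comap G.s = P₀}.Finite := by
    letI := G.s.toAlgebra
    refine (Algebra.QuasiFinite.finite_primesOver (R := A) (S := B) P₀).subset ?_
    rintro Q ⟨hQ, hQP⟩
    exact ⟨hQ, ⟨hQP.symm⟩⟩
  have hsub : ¬ ((P₁ : Set A) ⊆ ⋃ Q ∈ (↑hfin.toFinset : Set (Ideal B)), (Q.comap G.t : Ideal A)) := by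
    rw [Ideal.subset_union_prime (⊤ : Ideal B) ⊤ fun Q hQ _ _ => by
      haveI := ((Set.Finite.mem_toFinset hfin).mp hQ).1
      exact Ideal.IsPrime.comap G.t]
    rintro ⟨Q, hQ, hle⟩
    obtain ⟨hQp, hQ0⟩ := (Set.Finite.mem_toFinset hfin).mp hQ
    haveI := hQp
    rcases hle.eq_or_lt with heq | hlt
    · exact hne ⟨Q, hQp, hQ0, heq.symm⟩
    · obtain ⟨x, hxQ, hxP⟩ := Set.exists_of_ssubset hlt
      have := Ideal.comap_lt_comap_of_integral_mem_sdiff (R := G.inv) hle ⟨hxQ, hxP⟩
        (Algebra.IsIntegral.isIntegral x)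
      apply this.ne
      change P₁.comap G.inv.subtype = (Q.comap G.t).comap G.inv.subtype
      rw [← h, ← hQ0]
      ext c
      simp only [Ideal.mem_comap]
      rw [show G.s (G.inv.subtype c) = G.t (G.inv.subtype c) from c.2]
  obtain ⟨f, hf1, hf⟩ := Set.not_subset.mp hsub
  have hN1 : G.N S f ∈ P₁ := ((Ideal.span_singleton_le_iff_mem _).mpr hf1) (G.N_mem_span S f)
  have hN0 : G.N S f ∈ P₀ := by
    have : (⟨G.N S f, G.N_mem_inv S f⟩ : G.inv) ∈ P₁.comap G.inv.subtype := hN1
    rwa [← h] at this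
  refine S.det_notMem P₀ (G.t f) (fun Q hQ hQP hfQ => hf ?_) hN0
  exact Set.mem_biUnion ((Set.Finite.mem_toFinset hfin).mpr ⟨hQ, hQP⟩) hfQ

omit [Fintype io] [DecidableEq io] in
theorem exists_hom_of_agree [letI := G.s.toAlgebra; Module.Finite A B]
    [letI := G.s.toAlgebra; Module.Projective A B] {k : Type u} [Field k] [IsAlgClosed k]
    (u₀ u₁ : A →+* k) (hu : ∀ x ∈ G.inv, u₀ x = u₁ x) :
    ∃ r : B →+* k, r.comp G.s = u₀ ∧ r.comp G.t = u₁ := by
  classical
  obtain ⟨n, ⟨S⟩⟩ := Sys.exists_of_projective (s := G.s)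
  letI := G.s.toAlgebra
  letI := u₀.toAlgebra
  let D := k ⊗[A] B
  let pD : k →+* D := Algebra.TensorProduct.includeLeftRingHom
  let qD : B →+* D := (Algebra.TensorProduct.includeRight : B →ₐ[A] D).toRingHom
  have hpo : IsPO u₀ G.s pD qD := by
    refine IsPO.of_algHom ?_ fun Φ hΦ => ?_
    · ext x
      exact ((Algebra.TensorProduct.includeLeft : k →ₐ[A] D).commutes x).trans
        ((Algebra.TensorProduct.includeRight : B →ₐ[A] D).commutes x).symm
    · have : Φ = AddMonoidHom.id D := by
        refine AddMonoidHom.ext fun ξ => ?_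
        induction ξ using TensorProduct.induction_on with
        | zero => simp
        | tmul r x =>
          rw [hΦ]
          change (r ⊗ₜ[A] (1 : B)) * ((1 : k) ⊗ₜ[A] x) = r ⊗ₜ[A] x
          rw [Algebra.TensorProduct.tmul_mul_tmul, mul_one, one_mul]
        | add a b ha hb => rw [map_add, ha, hb]; simp
      rw [this]
      exact Function.bijective_id
  let SD := S.baseChange hpo
  -- a singular matrix gives a point over `u₀`
  have hpt : ∀ g : D, (1 + SD.mat g).det = 0 → ∃ ρ : D →ₐ[k] k, 1 + ρ g = 0 := by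
    intro g hg
    have hnu : ¬ IsUnit (1 + g) := by
      intro hunit
      obtain ⟨v, hv⟩ := hunit.exists_right_inv
      have hmul : (1 + SD.mat g) * (1 + SD.mat (v - 1)) = 1 := by
        simp only [add_mul, mul_add, one_mul, mul_one, SD.mat_mul]
        have : g + (v - 1) + g * (v - 1) = 0 := by linear_combination hv
        rw [add_assoc, ← SD.mat_add, ← SD.mat_add,
          show g + (v - 1 + g * (v - 1)) = 0 by linear_combination this, SD.mat_zero, add_zero]
      have := congrArg Matrix.det hmul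
      rw [Matrix.det_mul, hg, zero_mul, Matrix.det_one] at this
      exact zero_ne_one this
    obtain ⟨m, hm, hgm⟩ := exists_max_ideal_of_mem_nonunits hnu
    haveI := hm
    letI := Ideal.Quotient.field m
    haveI : Algebra.IsIntegral k (D ⧸ m) := Algebra.IsIntegral.of_finite k _
    let eq : k ≃ₐ[k] D ⧸ m :=
      AlgEquiv.ofBijective (Algebra.ofId k _) IsAlgClosed.algebraMap_bijective_of_isIntegral
    refine ⟨eq.symm.toAlgHom.comp (Ideal.Quotient.mkₐ k m), ?_⟩
    have h0 : Ideal.Quotient.mkₐ k m (1 + g) = 0 := Ideal.Quotient.eq_zero_iff_mem.mpr hgm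
    have h1 := congrArg eq.symm.toAlgHom h0
    rw [map_zero, ← AlgHom.comp_apply, map_add, map_one] at h1
    exact h1
  by_contra hne
  have hsep : ∀ ρ : D →ₐ[k] k, ∃ a : A, ρ (qD (G.t a)) ≠ u₁ a := by
    intro ρ
    by_contra! h
    refine hne ⟨ρ.toRingHom.comp qD, ?_, RingHom.ext h⟩
    ext x
    change ρ (qD (G.s x)) = u₀ x
    rw [← RingHom.comp_apply, ← hpo.comm, RingHom.comp_apply]
    exact ρ.commutes _
  choose a ha using hsep
  let m := Fintype.card (D →ₐ[k] k)
  let en := Fintype.equivFin (D →ₐ[k] k)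
  let af : Fin m → A := fun i => a (en.symm i)
  let P : (D →ₐ[k] k) → k[X] := fun ρ =>
    ∑ i : Fin m, Polynomial.C (ρ (qD (G.t (af i))) - u₁ (af i)) * X ^ (i : ℕ)
  have hP : ∀ ρ, P ρ ≠ 0 := by
    intro ρ h0
    have := congrArg (fun Q => Polynomial.coeff Q (en ρ : ℕ)) h0
    simp only [P, Polynomial.finsetSum_coeff, Polynomial.coeff_C_mul, Polynomial.coeff_X_pow,
      Fin.val_inj, coeff_zero, mul_ite, mul_one, mul_zero, Finset.sum_ite_eq, Finset.mem_univ,
      if_true] at this
    exact ha ρ (by simpa [af, sub_eq_zero] using this)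
  have hprod : ∏ ρ, P ρ ≠ 0 := Finset.prod_ne_zero_iff.mpr fun ρ _ => hP ρ
  obtain ⟨τ, hτ⟩ : ∃ τ : k, ¬ (∏ ρ, P ρ).eval τ = 0 := by
    by_contra! h
    exact hprod (Polynomial.funext (fun x => by rw [h x, eval_zero]))
  let c : Option (Fin m) → k := fun o => o.elim (-1 - ∑ i : Fin m, τ ^ (i : ℕ) * u₁ (af i))
    (fun i => τ ^ (i : ℕ))
  let aa : Option (Fin m) → A := fun o => o.elim 1 af
  let v : Fin n → k := u₁ ∘ G.e ∘ S.b
  have hv : v ≠ 0 := by
    intro h0
    have h1 := congrArg u₁ (G.sum_φ_one_mul S)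
    rw [map_sum, map_one] at h1
    refine one_ne_zero (h1.symm.trans (Finset.sum_eq_zero fun i _ => ?_))
    rw [map_mul, show u₁ (G.e (S.b i)) = 0 from congrFun h0 i, mul_zero]
  have hd1 : (1 + ∑ o, c o • (S.mat (G.t (aa o))).map u₁).det = 0 := by
    rw [← Matrix.exists_vecMul_eq_zero_iff]
    refine ⟨v, hv, ?_⟩
    have hm : ∀ o, v ᵥ* (S.mat (G.t (aa o))).map u₁ = u₁ (aa o) • v := fun o => by
      ext l
      have := congrArg u₁ (congrFun (G.vecMul_mat_t S (aa o)) l)
      rw [RingHom.map_vecMul] at this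
      simpa [v] using this
    rw [Matrix.vecMul_add, Matrix.vecMul_one, Matrix.vecMul_sum]
    simp only [Matrix.vecMul_smul, hm, smul_smul, ← Finset.sum_smul]
    rw [Fintype.sum_option]
    simp only [c, aa, Option.elim, map_one, mul_one]
    rw [show (-1 - ∑ i : Fin m, τ ^ (i : ℕ) * u₁ (af i)) + ∑ i : Fin m, τ ^ (i : ℕ) * u₁ (af i) = -1 by ring,
      neg_one_smul, add_neg_cancel]
  rw [← G.det_eq_of_agree S aa u₀ u₁ hu c] at hd1
  let g : D := ∑ o, pD (c o) * qD (G.t (aa o))
  have hg : SD.mat g = ∑ o, c o • (S.mat (G.t (aa o))).map u₀ := by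
    have hadd : ∀ (f : Option (Fin m) → D) (T : Finset (Option (Fin m))),
        SD.mat (∑ o ∈ T, f o) = ∑ o ∈ T, SD.mat (f o) := by
      intro f T
      induction T using Finset.induction with
      | empty => simp [SD.mat_zero]
      | insert o T ho ih => rw [Finset.sum_insert ho, Finset.sum_insert ho, SD.mat_add, ih]
    rw [hadd]
    exact Finset.sum_congr rfl fun o _ => by rw [SD.mat_smul, S.baseChange_mat]
  obtain ⟨ρ, hρ⟩ := hpt g (by rw [hg]; exact hd1)
  apply hτ
  rw [Polynomial.eval_prod]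
  refine Finset.prod_eq_zero (Finset.mem_univ ρ) ?_
  have hρp : ∀ x, ρ (pD x) = x := fun x => ρ.commutes x
  simp only [g, map_sum, map_add, map_mul, hρp, Fintype.sum_option, c, aa, Option.elim, map_one, mul_one] at hρ
  simp only [P, Polynomial.eval_finsetSum, eval_mul, eval_C, eval_pow, eval_X, sub_mul,
    Finset.sum_sub_distrib]
  simp only [mul_comm (ρ (qD _)), mul_comm (u₁ (af _))]
  linear_combination hρ

omit [Fintype io] [DecidableEq io] in
theorem exists_lift_hom [letI := G.s.toAlgebra; Module.Finite A B]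
    [letI := G.s.toAlgebra; Module.Projective A B] {k : Type u} [Field k] [IsAlgClosed k]
    (m : G.inv →+* k) : ∃ v : A →+* k, v.comp G.inv.subtype = m := by
  haveI := G.isIntegral_inv
  haveI : (RingHom.ker m).IsPrime := RingHom.ker_isPrime m
  obtain ⟨Q, -, hQp, hQ⟩ := Ideal.exists_ideal_over_prime_of_isIntegral (RingHom.ker m) (⊥ : Ideal A) (by
    intro x hx
    rw [Ideal.mem_comap, Ideal.mem_bot] at hx
    rw [show x = 0 from Subtype.ext hx]
    exact zero_mem _)
  haveI := hQp
  haveI : Q.LiesOver (RingHom.ker m) := ⟨hQ.symm⟩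
  let R := G.inv ⧸ RingHom.ker m
  letI : Algebra R k := (RingHom.kerLift m).toAlgebra
  haveI : FaithfulSMul R k := (faithfulSMul_iff_algebraMap_injective _ _).mpr
    (RingHom.kerLift_injective m)
  haveI : FaithfulSMul R (A ⧸ Q) := (faithfulSMul_iff_algebraMap_injective _ _).mpr
    (Ideal.quotientMap_injective' hQ.le)
  haveI : Algebra.IsIntegral R (A ⧸ Q) := Algebra.IsIntegral.tower_top (R := G.inv)
  let f : A ⧸ Q →ₐ[R] k := IsAlgClosed.lift
  refine ⟨f.toRingHom.comp (Ideal.Quotient.mk Q), RingHom.ext fun x => ?_⟩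
  exact (f.commutes (Ideal.Quotient.mk _ x)).trans (RingHom.kerLift_mk m x)

end GData

end GrothLib.GrpdQuot
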