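import Groth.Agent.Lib.GrpdQuot.Alg
import Mathlib.RingTheory.Flat.Basic
import Mathlib.FieldTheory.IsAlgClosed.AlgebraicClosure
import Mathlib.RingTheory.LocalRing.ResidueField.Ideal

/-!
Change of the base ring of an affine groupoid with finite projective source map.
-/

universe u

namespace GrothLib.GrpdQuot

open Matrix Polynomial TensorProduct

namespace GData

variable {A B C : Type u} [CommRing A] [CommRing B] [CommRing C] (G : GData A B C)
variable {io : Type} [Fintype io] [DecidableEq io] (S : Sys G.s io)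

/-- The polynomial whose coefficients are the idempotents of the rank decomposition. -/
noncomputable def rankPoly : A[X] :=
  (1 + (X - 1 : A[X]) • (S.mat 1).map (Polynomial.C : A →+* A[X])).det

theorem eval₂_rankPoly {D : Type*} [CommRing D] (g : A →+* D) (v : D) :
    (G.rankPoly S).eval₂ g v = (1 + (v - 1) • (S.mat 1).map g).det := by
  rw [rankPoly, ← coe_eval₂RingHom, RingHom.map_det]
  congr 1
  ext k l
  simp [Matrix.one_apply, apply_ite (Polynomial.eval₂ g v)]

theorem rankPoly_coeff_mem (n : ℕ) : (G.rankPoly S).coeff n ∈ G.inv := by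
  have h := G.det_map_eq S (Polynomial.C : B →+* B[X]) (fun _ : Unit => X - 1) (fun _ => 1)
  simp only [Finset.univ_unique, Finset.sum_singleton, map_one] at h
  rw [← G.eval₂_rankPoly S, ← G.eval₂_rankPoly S] at h
  have e : ∀ g : A →+* B, (G.rankPoly S).eval₂ ((Polynomial.C : B →+* B[X]).comp g) X =
      (G.rankPoly S).map g := fun g => rfl
  rw [e, e] at h
  have h' := congrArg (fun P => Polynomial.coeff P n) h
  simp only [coeff_map] at h'
  exact h'

theorem sum_coeff_rankPoly {N : ℕ} (hN : (G.rankPoly S).natDegree < N) :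
    ∑ r ∈ Finset.range N, (G.rankPoly S).coeff r = 1 := by
  have h := G.eval₂_rankPoly S (RingHom.id A) 1
  rw [sub_self, zero_smul, add_zero, Matrix.det_one, eval₂_eq_sum_range' _ hN] at h
  simpa using h

theorem coeff_rankPoly_mul (i j : ℕ) :
    (G.rankPoly S).coeff i * (G.rankPoly S).coeff j = if i = j then (G.rankPoly S).coeff i else 0 := by
  let g : A →+* A[X][X] := (Polynomial.C : A[X] →+* A[X][X]).comp Polynomial.C
  have h : (G.rankPoly S).eval₂ g (X * Polynomial.C X) =
      (G.rankPoly S).eval₂ g X * (G.rankPoly S).eval₂ g (Polynomial.C X) := by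
    rw [G.eval₂_rankPoly S, G.eval₂_rankPoly S, G.eval₂_rankPoly S, ← Matrix.det_mul]
    congr 1
    have hM : (S.mat 1).map g * (S.mat 1).map g = (S.mat 1).map g := by
      rw [← Matrix.map_mul, S.mat_mul, mul_one]
    simp only [add_mul, mul_add, one_mul, mul_one, Matrix.smul_mul, Matrix.mul_smul, smul_smul, hM]
    module
  have hX : (G.rankPoly S).eval₂ g X = (G.rankPoly S).map Polynomial.C := rfl
  have hCX : (G.rankPoly S).eval₂ g (Polynomial.C X) = Polynomial.C (G.rankPoly S) := by
    rw [show g = (Polynomial.C : A[X] →+* A[X][X]).comp Polynomial.C from rfl,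
      ← Polynomial.hom_eval₂, Polynomial.eval₂_C_X]
  rw [hX, hCX, eval₂_eq_sum_range] at h
  have h' := congrArg (fun P => (Polynomial.coeff P i).coeff j) h
  simp only [mul_pow, ← map_pow, g, RingHom.comp_apply, finsetSum_coeff, Polynomial.coeff_mul_C,
    coeff_map, ← mul_assoc, coeff_C_mul] at h'
  rw [← h']
  simp only [coeff_X_pow, ite_mul, mul_ite, zero_mul, mul_zero, mul_one, apply_ite (fun p : A[X] => p.coeff j),
    Polynomial.coeff_zero, coeff_C_mul, Finset.sum_ite_eq]
  split_ifs with h₁ h₂ h₂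
  all_goals first
    | rfl
    | exact absurd h₁.symm h₂
    | (rw [Finset.mem_range, not_lt] at h₁; exact (coeff_eq_zero_of_natDegree_lt (by omega)).symm)
    | simp_all

theorem coeff_rankPoly_zero : (G.rankPoly S).coeff 0 = 0 := by
  rw [coeff_zero_eq_eval_zero, show (G.rankPoly S).eval 0 = (G.rankPoly S).eval₂ (RingHom.id A) 0 from rfl,
    G.eval₂_rankPoly S]
  have h : (G.e ∘ S.b) ᵥ* (1 + ((0 : A) - 1) • (S.mat 1).map (RingHom.id A)) = 0 := by
    rw [zero_sub, neg_one_smul, RingHom.coe_id, Matrix.map_id, Matrix.vecMul_add, Matrix.vecMul_neg,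
      Matrix.vecMul_one, ← map_one G.t, G.vecMul_mat_t S, one_smul, add_neg_cancel]
  have h2 := congrArg (fun v => v ᵥ* (1 + ((0 : A) - 1) • (S.mat 1).map (RingHom.id A)).adjugate) h
  simp only [Matrix.vecMul_vecMul, Matrix.mul_adjugate, Matrix.vecMul_smul, Matrix.vecMul_one,
    Matrix.zero_vecMul] at h2
  have h3 : (1 + ((0 : A) - 1) • (S.mat 1).map (RingHom.id A)).det * (∑ k, S.φ k 1 * G.e (S.b k)) = 0 := by
    rw [Finset.mul_sum]
    refine Finset.sum_eq_zero fun k _ => ?_
    have hk := congrFun h2 k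
    simp only [Pi.zero_apply, Pi.smul_apply, smul_eq_mul, Function.comp_apply] at hk
    rw [mul_left_comm, hk, mul_zero]
  rwa [G.sum_φ_one_mul S, mul_one] at h3

theorem reflect_one_sub_mul_X_pow {R : Type*} [CommRing R] (f : R) (r : ℕ) :
    Polynomial.reflect r ((1 - Polynomial.C f * X) ^ r) = (X - Polynomial.C f) ^ r := by
  induction r with
  | zero => simp
  | succ r ih =>
    have hd : (1 - Polynomial.C f * X : R[X]).natDegree ≤ 1 :=
      (natDegree_sub_le _ _).trans (max_le (by simp) (natDegree_C_mul_X_pow_le f 1 |> fun h => by simpa using h))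
    rw [pow_succ, Polynomial.reflect_mul _ _ ((natDegree_pow_le_of_le r hd).trans (by simp)) hd, ih,
      pow_succ]
    congr 1
    rw [reflect_sub, reflect_C_mul, show (X : R[X]) = X ^ 1 from (pow_one X).symm, reflect_monomial,
      show (1 : R[X]) = X ^ 0 from (pow_zero X).symm, reflect_monomial]
    simp [revAt_le]

variable {C' : Type u} [CommRing C'] [Algebra G.inv C']

omit [DecidableEq io] in
theorem tmul_mat_eq [Algebra G.inv B] (hB : ∀ c : G.inv, algebraMap G.inv B c = G.s c)
    (sT tT : A ⊗[G.inv] C' →+ B ⊗[G.inv] C') (hs : ∀ a c, sT (a ⊗ₜ c) = G.s a ⊗ₜ c)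
    (ht : ∀ a c, tT (a ⊗ₜ c) = G.t a ⊗ₜ c) {J : Type} [Fintype J] (a : J → A) (c : J → C')
    (hf : sT (∑ j, a j ⊗ₜ c j) = tT (∑ j, a j ⊗ₜ c j)) (k l : io) :
    ∑ j, (S.mat (G.t (a j)) k l) ⊗ₜ[G.inv] c j = (∑ j, a j ⊗ₜ[G.inv] c j) * (S.mat 1 k l ⊗ₜ 1) := by
  let Ψ : B →ₗ[G.inv] A :=
    { toFun := fun y => S.φ k (y * S.b l)
      map_add' := fun y z => by rw [add_mul, map_add]
      map_smul' := fun r y => by
        change S.φ k (r • y * S.b l) = (r : A) * S.φ k (y * S.b l)
        rw [Algebra.smul_def, hB, mul_assoc, S.φ_smul] }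
  have h := congrArg (Ψ.rTensor C') hf
  simp only [map_sum, hs, ht, LinearMap.rTensor_tmul] at h
  refine Eq.trans ?_ (h.symm.trans ?_)
  · rfl
  · rw [Finset.sum_mul]
    refine Finset.sum_congr rfl fun j _ => ?_
    rw [Algebra.TensorProduct.tmul_mul_tmul, mul_one]
    congr 1
    change S.φ k (G.s (a j) * S.b l) = _
    rw [S.φ_smul, Sys.mat, Sys.cross_apply, one_mul]

theorem exists_poly_pow [Algebra G.inv B] (hB : ∀ c : G.inv, algebraMap G.inv B c = G.s c)
    (sT tT : A ⊗[G.inv] C' →+ B ⊗[G.inv] C') (hs : ∀ a c, sT (a ⊗ₜ c) = G.s a ⊗ₜ c)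
    (ht : ∀ a c, tT (a ⊗ₜ c) = G.t a ⊗ₜ c) (f : A ⊗[G.inv] C') (hf : sT f = tT f) (S : Sys G.s io) :
    ∃ (n : ℕ) (P : C'[X]), 0 < n ∧
      P.map (Algebra.TensorProduct.includeRight : C' →ₐ[G.inv] A ⊗[G.inv] C').toRingHom =
        (X - Polynomial.C f) ^ n := by
  classical
  let iR : C' →+* A ⊗[G.inv] C' :=
    (Algebra.TensorProduct.includeRight : C' →ₐ[G.inv] A ⊗[G.inv] C').toRingHom
  let iL : A →+* A ⊗[G.inv] C' := Algebra.TensorProduct.includeLeftRingHom
  have hiota : ∀ c : G.inv, iR (algebraMap G.inv C' c) = iL (c : A) := fun c =>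
    ((Algebra.TensorProduct.includeRight : C' →ₐ[G.inv] A ⊗[G.inv] C').commutes c).trans
      ((Algebra.TensorProduct.includeLeft : A →ₐ[G.inv] A ⊗[G.inv] C').commutes c).symm
  obtain ⟨m, a, c, rfl⟩ : ∃ (m : ℕ) (a : Fin m → A) (c : Fin m → C'), f = ∑ j, a j ⊗ₜ c j := by
    obtain ⟨T, hT⟩ := TensorProduct.exists_finset f
    refine ⟨T.card, fun j => (T.equivFin.symm j).1.1, fun j => (T.equivFin.symm j).1.2, ?_⟩
    rw [hT, ← Finset.sum_coe_sort]
    exact (Equiv.sum_comp T.equivFin.symm (fun z : T => z.1.1 ⊗ₜ[G.inv] z.1.2)).symm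
  set f := ∑ j, a j ⊗ₜ[G.inv] c j with hfdef
  let Q : MvPolynomial (Fin m) G.inv :=
    ∑ μ ∈ (G.genDet S a).support, MvPolynomial.monomial μ ⟨_, G.coeff_genDet_mem S a μ⟩
  have hQ : MvPolynomial.map G.inv.subtype Q = G.genDet S a := by
    conv_rhs => rw [← MvPolynomial.support_sum_monomial_coeff (G.genDet S a)]
    simp [Q, map_sum]
  let q : C'[X] := MvPolynomial.eval₂Hom ((Polynomial.C : C' →+* C'[X]).comp (algebraMap G.inv C'))
    (fun j => -X * Polynomial.C (c j)) Q
  let iA : A →+* (A ⊗[G.inv] C')[X] := (Polynomial.C : _ →+* (A ⊗[G.inv] C')[X]).comp iL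
  have hq : q.map iR = (G.rankPoly S).eval₂ iA (1 - Polynomial.C f * X) := by
    have h1 : q.map iR = MvPolynomial.eval₂Hom iA (fun j => -X * Polynomial.C (iR (c j))) (G.genDet S a) := by
      rw [← hQ, MvPolynomial.eval₂Hom_map_hom]
      change Polynomial.mapRingHom iR q = _
      simp only [q, MvPolynomial.coe_eval₂Hom, MvPolynomial.eval₂_comp_left]
      congr 1
      · ext z
        simp [iA, hiota]
      · ext1 j
        simp only [Function.comp_apply, coe_mapRingHom, Polynomial.map_mul, Polynomial.map_neg,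
          Polynomial.map_X, Polynomial.map_C]
    rw [h1, G.map_genDet S a, G.eval₂_rankPoly S]
    congr 2
    ext1 k l
    simp only [Matrix.sum_apply, Matrix.smul_apply, Matrix.map_apply, smul_eq_mul, iA, RingHom.comp_apply]
    have hm := G.tmul_mat_eq S hB sT tT hs ht a c hf k l
    calc ∑ j, (-X * Polynomial.C (iR (c j))) * Polynomial.C (iL (S.mat (G.t (a j)) k l))
        = -X * Polynomial.C (∑ j, S.mat (G.t (a j)) k l ⊗ₜ[G.inv] c j) := by
          rw [map_sum, Finset.mul_sum]
          refine Finset.sum_congr rfl fun j _ => ?_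
          rw [mul_assoc, ← map_mul]
          congr 2
          change (1 : A) ⊗ₜ[G.inv] c j * (S.mat (G.t (a j)) k l ⊗ₜ[G.inv] (1 : C')) = _
          rw [Algebra.TensorProduct.tmul_mul_tmul, one_mul, mul_one]
      _ = _ := by
          rw [hm, map_mul, ← hfdef]
          change _ = (1 - Polynomial.C f * X - 1) * Polynomial.C (S.mat 1 k l ⊗ₜ[G.inv] (1 : C'))
          ring
  let N := Fintype.card io
  let Nd := (G.rankPoly S).natDegree + 1
  let ε : ℕ → G.inv := fun r => ⟨_, G.rankPoly_coeff_mem S r⟩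
  let ε' : ℕ → A ⊗[G.inv] C' := fun r => iL (ε r : A)
  have horth : ∀ r r', ε' r * ε' r' = if r = r' then ε' r else 0 := fun r r' => by
    simp only [ε', ε, ← map_mul, G.coeff_rankPoly_mul S]
    split_ifs <;> simp
  have hpiece : ∀ r, r < Nd → Polynomial.C (ε' r) * q.map iR =
      Polynomial.C (ε' r) * (1 - Polynomial.C f * X) ^ r := by
    intro r hr
    rw [hq, eval₂_eq_sum_range, Finset.mul_sum, Finset.sum_eq_single r]
    · rw [← mul_assoc]
      congr 1
      change Polynomial.C (ε' r) * Polynomial.C (ε' r) = _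
      rw [← map_mul, horth, if_pos rfl]
    · intro j _ hj
      rw [← mul_assoc]
      change Polynomial.C (ε' r) * Polynomial.C (ε' j) * _ = 0
      rw [← map_mul, horth, if_neg hj.symm, map_zero, zero_mul]
    · intro h
      exact absurd (Finset.mem_range.mpr hr) h
  let P : ℕ → C'[X] := fun r => Polynomial.reflect r (Polynomial.C (algebraMap G.inv C' (ε r)) * q)
  have hP : ∀ r, r < Nd → (P r).map iR = Polynomial.C (ε' r) * (X - Polynomial.C f) ^ r := by
    intro r hr
    simp only [P, ← Polynomial.reflect_map, Polynomial.map_mul, Polynomial.map_C, hiota]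
    rw [hpiece r hr, reflect_C_mul, reflect_one_sub_mul_X_pow]
  let n := Nd.factorial
  refine ⟨n, ∑ r ∈ Finset.range Nd, Polynomial.C (algebraMap G.inv C' (ε r)) * P r ^ (n / r),
    Nat.factorial_pos _, ?_⟩
  have hterm : ∀ r ∈ Finset.range Nd,
      (Polynomial.C (algebraMap G.inv C' (ε r)) * P r ^ (n / r)).map iR =
        Polynomial.C (ε' r) * (X - Polynomial.C f) ^ n := by
    intro r hr
    have hr' := Finset.mem_range.mp hr
    rw [Polynomial.map_mul, Polynomial.map_C, Polynomial.map_pow, hiota, hP r hr']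
    change Polynomial.C (ε' r) * _ = _
    rcases Nat.eq_zero_or_pos r with rfl | hr0
    · have : ε' 0 = 0 := by
        change iL ((G.rankPoly S).coeff 0) = 0
        rw [G.coeff_rankPoly_zero S, map_zero]
      simp [this]
    · rw [mul_pow, ← pow_mul, Nat.mul_div_cancel' (Nat.dvd_factorial hr0 hr'.le), ← mul_assoc,
        ← pow_succ']
      congr 1
      have hidem : IsIdempotentElem (Polynomial.C (ε' r)) := by
        rw [IsIdempotentElem, ← map_mul, horth, if_pos rfl]
      exact hidem.pow_succ_eq _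
  rw [Polynomial.map_sum, Finset.sum_congr rfl hterm, ← Finset.sum_mul, ← map_sum]
  have : ∑ r ∈ Finset.range Nd, ε' r = 1 := by
    change ∑ r ∈ Finset.range Nd, iL ((G.rankPoly S).coeff r) = 1
    rw [← map_sum, G.sum_coeff_rankPoly S (Nat.lt_succ_self _), map_one]
  rw [this, map_one, one_mul]

theorem isNilpotent_of_includeRight_eq_zero [letI := G.s.toAlgebra; Module.Finite A B]
    [letI := G.s.toAlgebra; Module.Projective A B] (c : C')
    (hc : (Algebra.TensorProduct.includeRight : C' →ₐ[G.inv] A ⊗[G.inv] C') c = 0) :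
    IsNilpotent c := by
  rw [nilpotent_iff_mem_prime]
  intro P hP
  let k := AlgebraicClosure P.ResidueField
  let g : C' →+* k := (algebraMap P.ResidueField k).comp (algebraMap C' P.ResidueField)
  obtain ⟨v, hv⟩ := G.exists_lift_hom (g.comp (algebraMap G.inv C'))
  letI : Algebra G.inv k := (g.comp (algebraMap G.inv C')).toAlgebra
  let fA : A →ₐ[G.inv] k := { v with commutes' := fun x => RingHom.congr_fun hv x }
  let fC : C' →ₐ[G.inv] k := { g with commutes' := fun _ => rfl }
  have h := congrArg (Algebra.TensorProduct.productMap fA fC) hc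
  rw [map_zero, Algebra.TensorProduct.includeRight_apply, Algebra.TensorProduct.productMap_apply_tmul,
    map_one, one_mul] at h
  exact Ideal.algebraMap_residueField_eq_zero.mp
    ((algebraMap P.ResidueField k).injective (h.trans (map_zero _).symm))

omit [Fintype io] [DecidableEq io] in
theorem injective_and_range_of_flat [Algebra G.inv B] (hB : ∀ c : G.inv, algebraMap G.inv B c = G.s c)
    [Module.Flat G.inv C'] (sT tT : A ⊗[G.inv] C' →+ B ⊗[G.inv] C')
    (hs : ∀ a c, sT (a ⊗ₜ c) = G.s a ⊗ₜ c) (ht : ∀ a c, tT (a ⊗ₜ c) = G.t a ⊗ₜ c) :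
    Function.Injective (Algebra.TensorProduct.includeRight : C' →ₐ[G.inv] A ⊗[G.inv] C') ∧
      ∀ f, sT f = tT f →
        f ∈ Set.range (Algebra.TensorProduct.includeRight : C' →ₐ[G.inv] A ⊗[G.inv] C') := by
  let i : G.inv →ₗ[G.inv] A := Algebra.linearMap G.inv A
  let d : A →ₗ[G.inv] B :=
    { toFun := fun a => G.s a - G.t a
      map_add' := fun a b => by rw [map_add, map_add, add_sub_add_comm]
      map_smul' := fun r a => by
        rw [show r • a = (r : A) * a from rfl, map_mul, map_mul, ← show G.s (r : A) = G.t r from r.2,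
          ← mul_sub, RingHom.id_apply, Algebra.smul_def, hB] }
  have hexact : Function.Exact i d := fun a => by
    constructor
    · intro h
      exact ⟨⟨a, sub_eq_zero.mp h⟩, rfl⟩
    · rintro ⟨r, rfl⟩
      exact sub_eq_zero.mpr r.2
  have hinj : Function.Injective (i.rTensor C') :=
    Module.Flat.rTensor_preserves_injective_linearMap i Subtype.val_injective
  have hincl : ∀ c : C', (Algebra.TensorProduct.includeRight : C' →ₐ[G.inv] A ⊗[G.inv] C') c =
      i.rTensor C' ((TensorProduct.lid G.inv C').symm c) := fun c => by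
    rw [TensorProduct.lid_symm_apply, LinearMap.rTensor_tmul, Algebra.TensorProduct.includeRight_apply]
    simp [i]
  refine ⟨fun a b h => ?_, fun f hf => ?_⟩
  · rw [hincl, hincl] at h
    exact (TensorProduct.lid G.inv C').symm.injective (hinj h)
  · have hd : ∀ ξ, d.rTensor C' ξ = sT ξ - tT ξ := by
      intro ξ
      induction ξ using TensorProduct.induction_on with
      | zero => simp
      | tmul a c => rw [LinearMap.rTensor_tmul, hs, ht]; exact TensorProduct.sub_tmul _ _ _
      | add x y hx hy => rw [map_add, hx, hy, map_add, map_add]; abel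
    obtain ⟨z, hz⟩ := (Module.Flat.rTensor_exact C' hexact f).mp (by rw [hd, hf, sub_self])
    exact ⟨TensorProduct.lid G.inv C' z, by rw [hincl, LinearEquiv.symm_apply_apply, hz]⟩

end GData

end GrothLib.GrpdQuot
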