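import Groth.Agent.Lib.GrpdQuot.Restrict
import Groth.Agent.Lib.GrpdQuot.Affine
import Groth.Agent.Lib.GrpdQuot.Invariant

/-!
Quotients of the invariant affine opens of a groupoid scheme with finite locally free source map.
-/

universe u

open CategoryTheory CategoryTheory.Limits AlgebraicGeometry Opposite

namespace GrothLib.GrpdQuot

noncomputable section

variable {S : Scheme.{u}} (G : Grpd.GroupoidScheme S)

/-- Invariant affine open sets of objects. -/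
abbrev Idx := {W : G.U.Opens // IsAffineOpen W ∧ G.s ⁻¹ᵁ W = G.t ⁻¹ᵁ W}

variable {G}

/-- The groupoid over an invariant affine open. -/
abbrev Idx.grpd (i : Idx G) : Grpd.GroupoidScheme S := restrict G i.1 i.2.2

variable [IsFinite G.s] [Flat G.s] [LocallyOfFinitePresentation G.s]

instance (i : Idx G) : IsAffine i.grpd.U := i.2.1

instance (i : Idx G) : IsAffine i.grpd.R := i.2.1.preimage G.s

instance (i : Idx G) : IsFinite i.grpd.s := inferInstanceAs (IsFinite (G.s ∣_ i.1))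

instance (i : Idx G) : Flat i.grpd.s := inferInstanceAs (Flat (G.s ∣_ i.1))

instance (i : Idx G) : LocallyOfFinitePresentation i.grpd.s :=
  inferInstanceAs (LocallyOfFinitePresentation (G.s ∣_ i.1))

/-- The quotient of an invariant affine open. -/
def Idx.obj (i : Idx G) : Scheme.{u} := quotSpec i.grpd

/-- The quotient map of an invariant affine open. -/
def Idx.π (i : Idx G) : i.1.toScheme ⟶ i.obj := i.grpd.toQuot

instance (i : Idx G) : IsAffine i.obj := inferInstanceAs (IsAffine (quotSpec i.grpd))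

theorem Idx.π_surjective (i : Idx G) : Function.Surjective i.π := surjective_toQuot i.grpd

theorem Idx.isIntegralHom_π (i : Idx G) : IsIntegralHom i.π := isIntegralHom_toQuot i.grpd

theorem Idx.π_equalize (i : Idx G) {T : Scheme.{u}} (a b : T ⟶ i.1.toScheme) (r : T ⟶ G.R)
    (ha : r ≫ G.t = a ≫ i.1.ι) (hb : r ≫ G.s = b ≫ i.1.ι) : a ≫ i.π = b ≫ i.π := by
  let r' := liftR G i.1 r b hb
  have ht : r' ≫ tRes G i.1 i.2.2 = a := by
    rw [← cancel_mono i.1.ι, Category.assoc, tRes_ι, liftR_ι_assoc, ha]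
  have hs : r' ≫ (G.s ∣_ i.1) = b := by
    rw [← cancel_mono i.1.ι, Category.assoc, sRes_ι, liftR_ι_assoc, hb]
  rw [← ht, ← hs]
  exact (Category.assoc _ _ _).trans ((congrArg (r' ≫ ·) (t_toQuot i.grpd)).trans (Category.assoc _ _ _).symm)

theorem Idx.π_eq_iff (i : Idx G) (x y : i.1.toScheme) :
    i.π x = i.π y ↔ ∃ r : G.R, G.t r = x.1 ∧ G.s r = y.1 := by
  refine ⟨fun h => ?_, fun ⟨r, hrt, hrs⟩ => ?_⟩
  · obtain ⟨r, hrt, hrs⟩ := (toQuot_eq_iff i.grpd x y).mp h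
    refine ⟨r.1, ?_, ?_⟩
    · refine Eq.trans ?_ (congrArg Subtype.val hrt)
      change ((G.s ⁻¹ᵁ i.1).ι ≫ G.t) r = (tRes G i.1 i.2.2 ≫ i.1.ι) r
      rw [tRes_ι]
    · refine Eq.trans ?_ (congrArg Subtype.val hrs)
      change ((G.s ⁻¹ᵁ i.1).ι ≫ G.s) r = ((G.s ∣_ i.1) ≫ i.1.ι) r
      rw [sRes_ι]
  · have hr : r ∈ G.s ⁻¹ᵁ i.1 := show G.s r ∈ i.1 from hrs.symm ▸ y.2
    refine (toQuot_eq_iff i.grpd x y).mpr ⟨⟨r, hr⟩, ?_, ?_⟩
    · apply Subtype.ext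
      refine Eq.trans ?_ hrt
      change (tRes G i.1 i.2.2 ≫ i.1.ι) ⟨r, hr⟩ = ((G.s ⁻¹ᵁ i.1).ι ≫ G.t) ⟨r, hr⟩
      rw [tRes_ι]
    · apply Subtype.ext
      refine Eq.trans ?_ hrs
      change ((G.s ∣_ i.1) ≫ i.1.ι) ⟨r, hr⟩ = ((G.s ⁻¹ᵁ i.1).ι ≫ G.s) ⟨r, hr⟩
      rw [sRes_ι]

theorem Idx.exists_factor (i : Idx G) (O : i.obj.Opens) {X : Scheme.{u}}
    (F : (i.π ⁻¹ᵁ O).toScheme ⟶ X)
    (hF : ∀ ⦃T : Scheme.{u}⦄ (a b : T ⟶ (i.π ⁻¹ᵁ O).toScheme) (r : T ⟶ G.R),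
      r ≫ G.t = a ≫ (i.π ⁻¹ᵁ O).ι ≫ i.1.ι → r ≫ G.s = b ≫ (i.π ⁻¹ᵁ O).ι ≫ i.1.ι → a ≫ F = b ≫ F) :
    ∃ g, (i.π ∣_ O) ≫ g = F := by
  refine GrothLib.GrpdQuot.exists_factor i.grpd O F fun T a b r ha hb => ?_
  refine hF a b (r ≫ (G.s ⁻¹ᵁ i.1).ι) ?_ ?_
  · have h := congrArg (· ≫ i.1.ι) ha
    refine Eq.trans ?_ (h.trans (Category.assoc _ _ _))
    exact (Category.assoc _ _ _).trans ((congrArg (r ≫ ·) (tRes_ι G i.1 i.2.2).symm).trans
      (Category.assoc _ _ _).symm)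
  · have h := congrArg (· ≫ i.1.ι) hb
    refine Eq.trans ?_ (h.trans (Category.assoc _ _ _))
    exact (Category.assoc _ _ _).trans ((congrArg (r ≫ ·) (sRes_ι G i.1).symm).trans
      (Category.assoc _ _ _).symm)

theorem Idx.restrict_epi (i : Idx G) {O : i.obj.Opens} {X : Scheme.{u}} (g g' : O.toScheme ⟶ X)
    (h : (i.π ∣_ O) ≫ g = (i.π ∣_ O) ≫ g') : g = g' :=
  eq_of_restrict_comp_eq i.grpd g g' h

theorem range_id_le_top (X : Scheme.{u}) : Set.range (𝟙 X : X ⟶ X) ⊆ Set.range (⊤ : X.Opens).ι := by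
  rw [Scheme.Opens.range_ι]
  exact Set.subset_univ _

/-- The inverse of the inclusion of the whole space. -/
def topInv (X : Scheme.{u}) : X ⟶ (⊤ : X.Opens).toScheme :=
  IsOpenImmersion.lift (⊤ : X.Opens).ι (𝟙 X) (range_id_le_top X)

@[reassoc]
theorem topInv_ι (X : Scheme.{u}) : topInv X ≫ (⊤ : X.Opens).ι = 𝟙 X :=
  IsOpenImmersion.lift_fac _ _ _

theorem Idx.exists_topLift (i : Idx G) :
    ∃ L : i.1.toScheme ⟶ (i.π ⁻¹ᵁ ⊤).toScheme, L ≫ (i.π ⁻¹ᵁ ⊤).ι = 𝟙 _ ∧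
      L ≫ (i.π ∣_ ⊤) = i.π ≫ topInv i.obj := by
  have hr : Set.range (𝟙 i.1.toScheme : i.1.toScheme ⟶ i.1.toScheme) ⊆
      Set.range (i.π ⁻¹ᵁ ⊤).ι := by
    rw [Scheme.Opens.range_ι]
    exact Set.subset_univ _
  refine ⟨IsOpenImmersion.lift _ _ hr, IsOpenImmersion.lift_fac _ _ _, ?_⟩
  rw [← cancel_mono (⊤ : i.obj.Opens).ι, Category.assoc, morphismRestrict_ι, ← Category.assoc,
    IsOpenImmersion.lift_fac, Category.id_comp, Category.assoc, topInv_ι, Category.comp_id]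

theorem Idx.hom_ext (i : Idx G) {X : Scheme.{u}} (g g' : i.obj ⟶ X) (h : i.π ≫ g = i.π ≫ g') :
    g = g' := by
  have e : (⊤ : i.obj.Opens).ι ≫ g = (⊤ : i.obj.Opens).ι ≫ g' := by
    apply i.restrict_epi
    rw [← Category.assoc, ← Category.assoc, morphismRestrict_ι, Category.assoc, Category.assoc, h]
  have e' := congrArg (topInv i.obj ≫ ·) e
  simpa only [topInv_ι_assoc] using e'

theorem Idx.exists_desc (i : Idx G) {X : Scheme.{u}} (F : i.1.toScheme ⟶ X)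
    (hF : ∀ ⦃T : Scheme.{u}⦄ (a b : T ⟶ i.1.toScheme) (r : T ⟶ G.R),
      r ≫ G.t = a ≫ i.1.ι → r ≫ G.s = b ≫ i.1.ι → a ≫ F = b ≫ F) :
    ∃ g, i.π ≫ g = F := by
  obtain ⟨g, hg⟩ := i.exists_factor ⊤ ((i.π ⁻¹ᵁ ⊤).ι ≫ F) fun T a b r ha hb => by
    rw [← Category.assoc, ← Category.assoc]
    exact hF _ _ r (by rw [Category.assoc]; exact ha) (by rw [Category.assoc]; exact hb)
  obtain ⟨L, hL, hLπ⟩ := i.exists_topLift
  refine ⟨topInv i.obj ≫ g, ?_⟩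
  rw [← Category.assoc, ← hLπ, Category.assoc, hg, ← Category.assoc, hL, Category.id_comp]

/-- The map induced on quotients by an inclusion of invariant affine opens. -/
def Idx.mapHom {i j : Idx G} (h : i.1 ≤ j.1) : i.obj ⟶ j.obj :=
  (i.exists_desc (G.U.homOfLE h ≫ j.π) fun T a b r ha hb => by
    rw [← Category.assoc, ← Category.assoc]
    exact j.π_equalize _ _ r (by rw [Category.assoc, Scheme.homOfLE_ι]; exact ha)
      (by rw [Category.assoc, Scheme.homOfLE_ι]; exact hb)).choose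

theorem Idx.π_mapHom {i j : Idx G} (h : i.1 ≤ j.1) : i.π ≫ Idx.mapHom h = G.U.homOfLE h ≫ j.π :=
  (i.exists_desc (G.U.homOfLE h ≫ j.π) fun T a b r ha hb => by
    rw [← Category.assoc, ← Category.assoc]
    exact j.π_equalize _ _ r (by rw [Category.assoc, Scheme.homOfLE_ι]; exact ha)
      (by rw [Category.assoc, Scheme.homOfLE_ι]; exact hb)).choose_spec

theorem isOpen_π_image {i : Idx G} {Ω : Set i.1.toScheme} (hΩ : IsOpen Ω) : IsOpen (i.π '' Ω) := by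
  haveI := flat_t G
  haveI := locallyOfFinitePresentation_t G
  let Ω' : Set G.U := Subtype.val '' Ω
  have hΩ' : IsOpen Ω' := i.1.ι.isOpenEmbedding.isOpenMap _ hΩ
  have hsat : IsOpen (sat G Ω') := G.t.isOpenMap _ (hΩ'.preimage G.s.continuous)
  let C : Set i.1.toScheme := (Subtype.val ⁻¹' sat G Ω')ᶜ
  have hC : IsClosed C := (hsat.preimage i.1.ι.continuous).isClosed_compl
  have himg : i.π '' Ω = (i.π '' C)ᶜ := by
    ext c
    constructor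
    · rintro ⟨x, hx, rfl⟩ ⟨y, hy, hyx⟩
      obtain ⟨r, hrt, hrs⟩ := (i.π_eq_iff y x).mp hyx
      exact hy ⟨r, ⟨x, hx, hrs.symm⟩, hrt⟩
    · intro hc
      obtain ⟨x, rfl⟩ := i.π_surjective c
      have hx : x.1 ∈ sat G Ω' := by
        by_contra hx
        exact hc ⟨x, hx, rfl⟩
      obtain ⟨r, ⟨y, hy, hys⟩, hrt⟩ := hx
      exact ⟨y, hy, ((i.π_eq_iff x y).mpr ⟨r, hrt, hys.symm⟩).symm⟩
  rw [himg]
  haveI := i.isIntegralHom_π
  exact (i.π.isClosedMap _ hC).isOpen_compl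

theorem isOpenImmersion_mapHom {i j : Idx G} (h : i.1 ≤ j.1) : IsOpenImmersion (Idx.mapHom h) := by
  let Ω : Set j.1.toScheme := Subtype.val ⁻¹' (i.1 : Set G.U)
  let O : j.obj.Opens := ⟨j.π '' Ω, isOpen_π_image (i.1.isOpen.preimage j.1.ι.continuous)⟩
  have hpre : ∀ x : j.1.toScheme, j.π x ∈ O ↔ x.1 ∈ i.1 := fun x => by
    refine ⟨fun ⟨y, hy, hyx⟩ => ?_, fun hx => ⟨x, hx, rfl⟩⟩
    obtain ⟨r, hrt, hrs⟩ := (j.π_eq_iff y x).mp hyx
    have h1 : r ∈ G.t ⁻¹ᵁ i.1 := show G.t r ∈ i.1 from hrt.symm ▸ hy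
    rw [← i.2.2] at h1
    exact hrs ▸ h1
  have hr : Set.range ((j.π ⁻¹ᵁ O).ι ≫ j.1.ι) ⊆ Set.range i.1.ι := by
    rintro _ ⟨x, rfl⟩
    rw [Scheme.Opens.range_ι]
    exact (hpre x.1).mp x.2
  let L := IsOpenImmersion.lift i.1.ι ((j.π ⁻¹ᵁ O).ι ≫ j.1.ι) hr
  obtain ⟨k, hk⟩ := j.exists_factor O (L ≫ i.π) fun T a b r ha hb => by
    rw [← Category.assoc, ← Category.assoc]
    exact i.π_equalize _ _ r (by rw [Category.assoc, IsOpenImmersion.lift_fac]; exact ha)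
      (by rw [Category.assoc, IsOpenImmersion.lift_fac]; exact hb)
  have hφr : Set.range (Idx.mapHom h) ⊆ Set.range O.ι := by
    rintro _ ⟨c, rfl⟩
    obtain ⟨x, rfl⟩ := i.π_surjective c
    rw [Scheme.Opens.range_ι, ← Scheme.Hom.comp_apply, Idx.π_mapHom, Scheme.Hom.comp_apply]
    refine (hpre _).mpr ?_
    change ((G.U.homOfLE h) ≫ j.1.ι) x ∈ i.1
    rw [Scheme.homOfLE_ι]
    exact x.2
  let φ₀ := IsOpenImmersion.lift O.ι (Idx.mapHom h) hφr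
  have hLφ : L ≫ G.U.homOfLE h = (j.π ⁻¹ᵁ O).ι := by
    rw [← cancel_mono j.1.ι, Category.assoc, Scheme.homOfLE_ι, IsOpenImmersion.lift_fac]
  have h₂ : k ≫ φ₀ = 𝟙 _ := by
    apply j.restrict_epi
    rw [← Category.assoc, hk, Category.comp_id, ← cancel_mono O.ι, Category.assoc, Category.assoc,
      IsOpenImmersion.lift_fac, Idx.π_mapHom, ← Category.assoc, hLφ, morphismRestrict_ι]
  have hL' : Set.range (G.U.homOfLE h) ⊆ Set.range (j.π ⁻¹ᵁ O).ι := by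
    rintro _ ⟨x, rfl⟩
    rw [Scheme.Opens.range_ι]
    refine (hpre _).mpr ?_
    change ((G.U.homOfLE h) ≫ j.1.ι) x ∈ i.1
    rw [Scheme.homOfLE_ι]
    exact x.2
  let L' := IsOpenImmersion.lift (j.π ⁻¹ᵁ O).ι (G.U.homOfLE h) hL'
  have hL'L : L' ≫ L = 𝟙 _ := by
    rw [← cancel_mono i.1.ι, Category.assoc, IsOpenImmersion.lift_fac, ← Category.assoc,
      IsOpenImmersion.lift_fac, Scheme.homOfLE_ι, Category.id_comp]
  have hπφ : i.π ≫ φ₀ = L' ≫ (j.π ∣_ O) := by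
    rw [← cancel_mono O.ι, Category.assoc, Category.assoc, IsOpenImmersion.lift_fac, morphismRestrict_ι,
      ← Category.assoc, IsOpenImmersion.lift_fac, Idx.π_mapHom]
  have h₁ : φ₀ ≫ k = 𝟙 _ := by
    apply i.hom_ext
    rw [← Category.assoc, hπφ, Category.assoc, hk, ← Category.assoc, hL'L, Category.id_comp,
      Category.comp_id]
  haveI : IsIso φ₀ := ⟨k, h₁, h₂⟩
  rw [← IsOpenImmersion.lift_fac O.ι (Idx.mapHom h) hφr]
  infer_instance

theorem exists_idx_le {i j : Idx G} (x : G.U) (hxi : x ∈ i.1) (hxj : x ∈ j.1) :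
    ∃ l : Idx G, l.1 ≤ i.1 ∧ l.1 ≤ j.1 ∧ x ∈ l.1 := by
  haveI := isFinite_t G
  haveI := flat_t G
  haveI := locallyOfFinitePresentation_t G
  have horb : ⇑G.t '' (⇑G.s ⁻¹' {x}) ⊆ ((i.1 ⊓ j.1 : G.U.Opens) : Set G.U) := by
    rintro _ ⟨r, hr, rfl⟩
    have h1 : r ∈ G.s ⁻¹ᵁ i.1 := show G.s r ∈ i.1 from (Set.mem_singleton_iff.mp hr).symm ▸ hxi
    have h2 : r ∈ G.s ⁻¹ᵁ j.1 := show G.s r ∈ j.1 from (Set.mem_singleton_iff.mp hr).symm ▸ hxj
    rw [i.2.2] at h1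
    rw [j.2.2] at h2
    exact ⟨h1, h2⟩
  obtain ⟨f, hle, hF⟩ := exists_affine_le_of_finite i.2.1 (i.1 ⊓ j.1) inf_le_left (finite_orbit G x)
    ⟨x, subset_sat G {x} (Set.mem_singleton x)⟩ horb
  haveI : IsAffine i.1.toScheme := i.2.1
  obtain ⟨W, hW, hxW, hWle, hinv⟩ := exists_invariant_affine G x
    (i.1.ι ''ᵁ i.1.toScheme.basicOpen f)
    (((isAffineOpen_top i.1.toScheme).basicOpen f).image_of_isOpenImmersion i.1.ι)
    (fun r hr => hF ⟨r, hr, rfl⟩)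
  exact ⟨⟨W, hW, hinv⟩, hWle.trans (hle.trans inf_le_left), hWle.trans (hle.trans inf_le_right), hxW⟩

theorem exists_idx_mem (u : G.U)
    (hu : ∃ V : G.U.Opens, IsAffineOpen V ∧ ∀ r : G.R, G.s r = u → G.t r ∈ V) :
    ∃ i : Idx G, u ∈ i.1 := by
  haveI := isFinite_t G
  haveI := flat_t G
  haveI := locallyOfFinitePresentation_t G
  obtain ⟨V, hV, huV⟩ := hu
  obtain ⟨W, hW, huW, -, hinv⟩ := exists_invariant_affine G u V hV huV
  exact ⟨⟨W, hW, hinv⟩, huW⟩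

end

end GrothLib.GrpdQuot
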