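import Mathlib.AlgebraicGeometry.Morphisms.UniversallyOpen
import Mathlib.AlgebraicGeometry.IdealSheaf.Subscheme
import Mathlib.AlgebraicGeometry.Pullbacks
import Groth.Agent.Lib.GrpSchField.Open
import Groth.Agent.Lib.RedSub.Basic

/-!
Over a field, products of morphisms with dense image have dense image.
-/

open CategoryTheory CategoryTheory.Limits AlgebraicGeometry

namespace GrothLib.GrpdQuot

universe u

/-- Everything over the spectrum of a field is universally open. -/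
theorem universallyOpen_of_iso_field {K : Type u} [Field K] {U T : Scheme.{u}}
    (e : U ≅ Spec (CommRingCat.of K)) (h : T ⟶ U) : UniversallyOpen h := by
  have : UniversallyOpen (h ≫ e.hom) := inferInstance
  have h1 : h = (h ≫ e.hom) ≫ e.inv := by simp
  rw [h1]; infer_instance

/-- If everything over `U` is universally open, a product of two morphisms over `U` has dense image
in the product of the closures of the images. -/
theorem mem_closure_range_map {U X Y X' Y' : Scheme.{u}}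
    (hU : ∀ {T : Scheme.{u}} (h : T ⟶ U), UniversallyOpen h) (f : X ⟶ U) (g : Y ⟶ U)
    (a : X' ⟶ X) (b : Y' ⟶ Y) (p : ↑(pullback f g))
    (h₁ : pullback.fst f g p ∈ closure (Set.range a)) (h₂ : pullback.snd f g p ∈ closure (Set.range b)) :
    p ∈ closure (Set.range (pullback.map (a ≫ f) (b ≫ g) f g a b (𝟙 U) (by simp) (by simp))) := by
  let I := Scheme.IdealSheafData.vanishingIdeal (⟨closure (Set.range b), isClosed_closure⟩ : TopologicalSpace.Closeds Y)
  have hI : Set.range I.subschemeι = closure (Set.range b) := RedSub.range_subschemeι_vanishingIdeal _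
  let J₀ : pullback f (I.subschemeι ≫ g) ⟶ pullback f g :=
    pullback.map _ _ _ _ (𝟙 X) I.subschemeι (𝟙 U) (by simp) (by simp)
  let J₁ : pullback (a ≫ f) g ⟶ pullback f g :=
    pullback.map _ _ _ _ a (𝟙 Y) (𝟙 U) (by simp) (by simp)
  rw [mem_closure_iff]
  intro O hO hpO
  have := hU (I.subschemeι ≫ g)
  have := hU (a ≫ f)
  have hO₀ := (pullback.fst f (I.subschemeι ≫ g)).isOpenMap _ (hO.preimage J₀.continuous)
  obtain ⟨q₀, hq₀⟩ : p ∈ Set.range J₀ := by
    rw [Scheme.Pullback.range_map]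
    exact ⟨⟨_, rfl⟩, by rw [Set.mem_preimage, hI]; exact h₂⟩
  have e₀ : pullback.fst f (I.subschemeι ≫ g) q₀ = pullback.fst f g p := by
    rw [← hq₀, ← Scheme.Hom.comp_apply, pullback.lift_fst, Category.comp_id]
  obtain ⟨_, ⟨q₁, hq₁, e₁⟩, x', rfl⟩ :=
    mem_closure_iff.mp h₁ _ hO₀ ⟨q₀, by rw [Set.mem_preimage, hq₀]; exact hpO, e₀⟩
  obtain ⟨q₂, hq₂⟩ : J₀ q₁ ∈ Set.range J₁ := by
    rw [Scheme.Pullback.range_map]
    refine ⟨⟨x', ?_⟩, ⟨_, rfl⟩⟩
    rw [← Scheme.Hom.comp_apply, pullback.lift_fst, Category.comp_id, e₁]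
  have hO₁ := (pullback.snd (a ≫ f) g).isOpenMap _ (hO.preimage J₁.continuous)
  have e₂ : pullback.snd (a ≫ f) g q₂ ∈ closure (Set.range b) := by
    have h3 : pullback.snd (a ≫ f) g q₂ = pullback.snd f g (J₁ q₂) := by
      rw [← Scheme.Hom.comp_apply, pullback.lift_snd, Category.comp_id]
    rw [h3, hq₂, ← Scheme.Hom.comp_apply, pullback.lift_snd, Scheme.Hom.comp_apply, ← hI]
    exact ⟨_, rfl⟩
  obtain ⟨_, ⟨q₃, hq₃, e₃⟩, y', rfl⟩ :=
    mem_closure_iff.mp e₂ _ hO₁ ⟨q₂, by rw [Set.mem_preimage, hq₂]; exact hq₁, rfl⟩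
  refine ⟨J₁ q₃, hq₃, ?_⟩
  rw [Scheme.Pullback.range_map]
  refine ⟨⟨pullback.fst (a ≫ f) g q₃, ?_⟩, ⟨y', ?_⟩⟩
  · rw [← Scheme.Hom.comp_apply, ← Scheme.Hom.comp_apply, pullback.lift_fst]
  · rw [← Scheme.Hom.comp_apply, pullback.lift_snd, Category.comp_id, e₃]

end GrothLib.GrpdQuot
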