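import Groth.Agent.Lib.GrpdQuot.TwoSided
import Mathlib.AlgebraicGeometry.Sites.Fpqc

/-!
The quotient of a groupoid scheme by a finite locally free subgroupoid.
-/

universe u

open CategoryTheory CategoryTheory.Limits AlgebraicGeometry

namespace GrothLib.GrpdQuot

open GrothLib.GrpSchField (cmp cmp_congr comp_cmp)

noncomputable section

/-- The data descended from a groupoid along quotient maps of objects and arrows. -/
structure DescData {S : Scheme.{u}} (G : Grpd.GroupoidScheme S) where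
  (P V X : Scheme.{u})
  io : P ⟶ G.R
  rel : SubRel G P io
  π : G.U ⟶ V
  ρ : G.R ⟶ X
  π_flat : Flat π
  π_fp : LocallyOfFinitePresentation π
  π_surj : Surjective π
  ρ_flat : Flat ρ
  ρ_fp : LocallyOfFinitePresentation ρ
  ρ_surj : Surjective ρ
  π_kernel : IsPullback (io ≫ G.t) (io ≫ G.s) π π
  ρ_kernel : IsPullback (qT G io) (qS G io) ρ ρ

namespace DescData

variable {S : Scheme.{u}} {G : Grpd.GroupoidScheme S} (D : DescData G)

instance : Flat D.π := D.π_flat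
instance : LocallyOfFinitePresentation D.π := D.π_fp
instance : Surjective D.π := D.π_surj
instance : Flat D.ρ := D.ρ_flat
instance : LocallyOfFinitePresentation D.ρ := D.ρ_fp
instance : Surjective D.ρ := D.ρ_surj

theorem exists_pt {T : Scheme.{u}} (u v : T ⟶ G.U) (h : u ≫ D.π = v ≫ D.π) :
    ∃ α : T ⟶ D.P, (α ≫ D.io) ≫ G.t = u ∧ (α ≫ D.io) ≫ G.s = v :=
  ⟨D.π_kernel.lift u v h, (Category.assoc _ _ _).trans (D.π_kernel.lift_fst _ _ _),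
    (Category.assoc _ _ _).trans (D.π_kernel.lift_snd _ _ _)⟩

theorem pt_π {T : Scheme.{u}} (α : T ⟶ D.P) :
    ((α ≫ D.io) ≫ G.t) ≫ D.π = ((α ≫ D.io) ≫ G.s) ≫ D.π := by
  have := congrArg (α ≫ ·) D.π_kernel.w
  simpa only [Category.assoc] using this

theorem pt_pU {T : Scheme.{u}} (u v : T ⟶ G.U) (h : u ≫ D.π = v ≫ D.π) :
    u ≫ G.pU = v ≫ G.pU := by
  obtain ⟨α, rfl, rfl⟩ := D.exists_pt u v h
  simp only [Category.assoc, G.t_over, G.s_over]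

theorem ρ_eq_exists {T : Scheme.{u}} (a b : T ⟶ G.R) (h : a ≫ D.ρ = b ≫ D.ρ) :
    ∃ q : T ⟶ qSc G D.io, q ≫ qT G D.io = a ∧ q ≫ qS G D.io = b :=
  ⟨D.ρ_kernel.lift a b h, D.ρ_kernel.lift_fst _ _ _, D.ρ_kernel.lift_snd _ _ _⟩

theorem ρ_tri {T : Scheme.{u}} (α : T ⟶ D.P) (r : T ⟶ G.R) (β : T ⟶ D.P)
    (h₁ : (α ≫ D.io) ≫ G.s = r ≫ G.t) (h₂ : r ≫ G.s = (β ≫ D.io) ≫ G.t) :
    tri G (α ≫ D.io) r (β ≫ D.io) h₁ h₂ ≫ D.ρ = r ≫ D.ρ := by
  have := congrArg (qMk α r β h₁ h₂ ≫ ·) D.ρ_kernel.w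
  simp only [← Category.assoc, qMk_qT, qMk_qS] at this
  exact this

theorem qLRST_cond {T : Scheme.{u}} (q : T ⟶ qSc G D.io) :
    ((q ≫ qT G D.io) ≫ G.t) ≫ D.π = ((q ≫ qS G D.io) ≫ G.t) ≫ D.π ∧
    ((q ≫ qT G D.io) ≫ G.s) ≫ D.π = ((q ≫ qS G D.io) ≫ G.s) ≫ D.π := by
  obtain ⟨ht, hs⟩ := qT_ends q
  have hL : ((q ≫ qL G D.io) ≫ D.io) ≫ G.s = (q ≫ qS G D.io) ≫ G.t := by
    simpa only [Category.assoc] using congrArg (q ≫ ·) (qL_s (G := G) (io := D.io))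
  have hR : (q ≫ qS G D.io) ≫ G.s = ((q ≫ qR G D.io) ≫ D.io) ≫ G.t := by
    simpa only [Category.assoc] using congrArg (q ≫ ·) (qS_s (G := G) (io := D.io))
  constructor
  · rw [ht, D.pt_π, hL]
  · rw [hs, ← D.pt_π, ← hR]

theorem ρ_ends {T : Scheme.{u}} (a b : T ⟶ G.R) (h : a ≫ D.ρ = b ≫ D.ρ) :
    (a ≫ G.t) ≫ D.π = (b ≫ G.t) ≫ D.π ∧ (a ≫ G.s) ≫ D.π = (b ≫ G.s) ≫ D.π := by
  obtain ⟨q, rfl, rfl⟩ := D.ρ_eq_exists a b h
  exact D.qLRST_cond q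

/-- The target map of the descended groupoid. -/
def tX : D.X ⟶ D.V :=
  EffectiveEpi.desc D.ρ (G.t ≫ D.π) fun a b h => by
    simpa only [Category.assoc] using (D.ρ_ends a b h).1

/-- The source map of the descended groupoid. -/
def sX : D.X ⟶ D.V :=
  EffectiveEpi.desc D.ρ (G.s ≫ D.π) fun a b h => by
    simpa only [Category.assoc] using (D.ρ_ends a b h).2

@[reassoc]
theorem ρ_tX : D.ρ ≫ D.tX = G.t ≫ D.π :=
  EffectiveEpi.fac D.ρ (G.t ≫ D.π) fun a b h => by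
    simpa only [Category.assoc] using (D.ρ_ends a b h).1

@[reassoc]
theorem ρ_sX : D.ρ ≫ D.sX = G.s ≫ D.π :=
  EffectiveEpi.fac D.ρ (G.s ≫ D.π) fun a b h => by
    simpa only [Category.assoc] using (D.ρ_ends a b h).2

/-- The structure map of the descended objects. -/
def pV : D.V ⟶ S := EffectiveEpi.desc D.π G.pU fun a b h => D.pt_pU a b h

@[reassoc]
theorem π_pV : D.π ≫ D.pV = G.pU := by simp only [pV, EffectiveEpi.fac]

theorem lift_unique {T : Scheme.{u}} (a b : T ⟶ G.R) (hρ : a ≫ D.ρ = b ≫ D.ρ)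
    (ht : a ≫ G.t = b ≫ G.t) (hs : a ≫ G.s = b ≫ G.s) : a = b := by
  obtain ⟨q, rfl, rfl⟩ := D.ρ_eq_exists a b hρ
  obtain ⟨hqt, hqs⟩ := qT_ends q
  have hL : ((q ≫ qL G D.io) ≫ D.io) ≫ G.s = (q ≫ qS G D.io) ≫ G.t := by
    simpa only [Category.assoc] using congrArg (q ≫ ·) (qL_s (G := G) (io := D.io))
  have hR : (q ≫ qS G D.io) ≫ G.s = ((q ≫ qR G D.io) ≫ D.io) ≫ G.t := by
    simpa only [Category.assoc] using congrArg (q ≫ ·) (qS_s (G := G) (io := D.io))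
  obtain ⟨α, hα⟩ := D.rel.exists_id ((q ≫ qS G D.io) ≫ G.t)
  obtain ⟨β, hβ⟩ := D.rel.exists_id ((q ≫ qS G D.io) ≫ G.s)
  have hαt : (α ≫ D.io) ≫ G.t = (q ≫ qS G D.io) ≫ G.t := by
    rw [hα, Category.assoc, G.e_t, Category.comp_id]
  have hαs : (α ≫ D.io) ≫ G.s = (q ≫ qS G D.io) ≫ G.t := by
    rw [hα, Category.assoc, G.e_s, Category.comp_id]
  have hβt : (β ≫ D.io) ≫ G.t = (q ≫ qS G D.io) ≫ G.s := by
    rw [hβ, Category.assoc, G.e_t, Category.comp_id]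
  have hβs : (β ≫ D.io) ≫ G.s = (q ≫ qS G D.io) ≫ G.s := by
    rw [hβ, Category.assoc, G.e_s, Category.comp_id]
  have eL : q ≫ qL G D.io = α := D.rel.ext _ _
    (by simpa only [Category.assoc] using (hqt.symm.trans ht).trans hαt.symm)
    (by simpa only [Category.assoc] using hL.trans hαs.symm)
  have eR : q ≫ qR G D.io = β := D.rel.ext _ _
    (by simpa only [Category.assoc] using hR.symm.trans hβt.symm)
    (by simpa only [Category.assoc] using (hqs.symm.trans hs).trans hβs.symm)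
  rw [qT_pt]
  exact tri_e G _ _ _ _ _
    (by rw [eL, hα]; exact Category.assoc _ _ _) (by rw [eR, hβ]; exact Category.assoc _ _ _)

theorem exists_lift {T : Scheme.{u}} (x : T ⟶ D.X) (u v : T ⟶ G.U)
    (hu : u ≫ D.π = x ≫ D.tX) (hv : v ≫ D.π = x ≫ D.sX) :
    ∃ r : T ⟶ G.R, r ≫ D.ρ = x ∧ r ≫ G.t = u ∧ r ≫ G.s = v := by
  let p : pullback x D.ρ ⟶ T := pullback.fst x D.ρ
  let r₀ : pullback x D.ρ ⟶ G.R := pullback.snd x D.ρ
  have hr₀ : r₀ ≫ D.ρ = p ≫ x := pullback.condition.symm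
  obtain ⟨α, hαt, hαs⟩ := D.exists_pt (p ≫ u) (r₀ ≫ G.t) (by
    rw [Category.assoc, hu, ← Category.assoc, ← hr₀, Category.assoc, ρ_tX, Category.assoc])
  obtain ⟨β, hβt, hβs⟩ := D.exists_pt (r₀ ≫ G.s) (p ≫ v) (by
    rw [Category.assoc p, hv, ← Category.assoc p, ← hr₀, Category.assoc, Category.assoc, ρ_sX])
  let r' : pullback x D.ρ ⟶ G.R := tri G (α ≫ D.io) r₀ (β ≫ D.io) hαs hβt.symm
  have h1 : r' ≫ D.ρ = p ≫ x := (D.ρ_tri _ _ _ _ _).trans hr₀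
  have h2 : r' ≫ G.t = p ≫ u := (tri_t G _ _ _ _ _).trans hαt
  have h3 : r' ≫ G.s = p ≫ v := (tri_s G _ _ _ _ _).trans hβs
  have hc : ∀ {Z : Scheme.{u}} (g₁ g₂ : Z ⟶ pullback x D.ρ), g₁ ≫ p = g₂ ≫ p →
      g₁ ≫ r' = g₂ ≫ r' := fun g₁ g₂ hg => D.lift_unique _ _
    (by simp only [Category.assoc, h1, reassoc_of% hg])
    (by simp only [Category.assoc, h2, reassoc_of% hg])
    (by simp only [Category.assoc, h3, reassoc_of% hg])
  refine ⟨EffectiveEpi.desc p r' hc, ?_, ?_, ?_⟩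
  · rw [← cancel_epi p, EffectiveEpi.fac_assoc, h1]
  · rw [← cancel_epi p, EffectiveEpi.fac_assoc, h2]
  · rw [← cancel_epi p, EffectiveEpi.fac_assoc, h3]

theorem comp_well_defined {T : Scheme.{u}} (a b a' b' : T ⟶ G.R) (h : a ≫ G.s = b ≫ G.t)
    (h' : a' ≫ G.s = b' ≫ G.t) (ha : a' ≫ D.ρ = a ≫ D.ρ) (hb : b' ≫ D.ρ = b ≫ D.ρ) :
    cmp G a' b' h' ≫ D.ρ = cmp G a b h ≫ D.ρ := by
  obtain ⟨q₁, rfl, rfl⟩ := D.ρ_eq_exists a' a ha
  obtain ⟨q₂, rfl, rfl⟩ := D.ρ_eq_exists b' b hb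
  have hL : ∀ q : T ⟶ qSc G D.io,
      ((q ≫ qL G D.io) ≫ D.io) ≫ G.s = (q ≫ qS G D.io) ≫ G.t := fun q => by
    simpa only [Category.assoc] using congrArg (q ≫ ·) (qL_s (G := G) (io := D.io))
  have hR : ∀ q : T ⟶ qSc G D.io,
      (q ≫ qS G D.io) ≫ G.s = ((q ≫ qR G D.io) ≫ D.io) ≫ G.t := fun q => by
    simpa only [Category.assoc] using congrArg (q ≫ ·) (qS_s (G := G) (io := D.io))
  have hm : ((q₁ ≫ qR G D.io) ≫ D.io) ≫ G.s = ((q₂ ≫ qL G D.io) ≫ D.io) ≫ G.t :=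
    (qT_ends q₁).2.symm.trans (h'.trans (qT_ends q₂).1)
  obtain ⟨γ, hγ⟩ := D.rel.exists_comp _ _ hm
  obtain ⟨ε, hε⟩ := D.rel.exists_id ((q₁ ≫ qS G D.io) ≫ G.s)
  have hγε : γ = ε := by
    apply D.rel.ext
    · rw [← Category.assoc γ, hγ, cmp_t, ← Category.assoc ε, hε, Category.assoc _ G.e, G.e_t,
        Category.comp_id, hR]
    · rw [← Category.assoc γ, hγ, cmp_s, ← Category.assoc ε, hε, Category.assoc _ G.e, G.e_s,
        Category.comp_id, hL, h]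
  have key : cmp G (q₁ ≫ qT G D.io) (q₂ ≫ qT G D.io) h' =
      tri G ((q₁ ≫ qL G D.io) ≫ D.io) (cmp G (q₁ ≫ qS G D.io) (q₂ ≫ qS G D.io) h)
        ((q₂ ≫ qR G D.io) ≫ D.io) ((hL q₁).trans (cmp_t G _ _ h).symm)
        ((cmp_s G _ _ h).trans (hR q₂)) := by
    let α₁ := (q₁ ≫ qL G D.io) ≫ D.io
    let a := q₁ ≫ qS G D.io
    let β₁ := (q₁ ≫ qR G D.io) ≫ D.io
    let α₂ := (q₂ ≫ qL G D.io) ≫ D.io
    let b := q₂ ≫ qS G D.io
    let β₂ := (q₂ ≫ qR G D.io) ≫ D.io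
    have hmid : cmp G β₁ α₂ hm = a ≫ G.s ≫ G.e := by
      rw [← hγ, hγε, hε, Category.assoc]
    have hab : cmp G a (cmp G (cmp G β₁ α₂ hm) b ((cmp_s G _ _ hm).trans (hL q₂)))
        ((hR q₁).trans ((cmp_t G _ _ _).trans (cmp_t G _ _ hm)).symm) = cmp G a b h := by
      refine cmp_congr G _ rfl (cmp_eq_right G _ ?_)
      rw [hmid, ← Category.assoc, h, Category.assoc]
    have hA : (α₂ ≫ G.s = b ≫ G.t) := hL q₂
    refine (cmp_congr G h' (qT_pt q₁) (qT_pt q₂)).trans ?_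
    change cmp G (cmp G (cmp G α₁ a (hL q₁)) β₁ _) (cmp G (cmp G α₂ b (hL q₂)) β₂ _) _ =
      cmp G (cmp G α₁ (cmp G a b h) _) β₂ _
    have c1 : (cmp G (cmp G α₁ a (hL q₁)) β₁ ((cmp_s G _ _ _).trans (hR q₁))) ≫ G.s =
        (cmp G α₂ b (hL q₂)) ≫ G.t := by rw [cmp_s, cmp_t]; exact hm
    refine (cmp_assoc G _ (cmp G α₂ b (hL q₂)) β₂ c1 ((cmp_s G _ _ _).trans (hR q₂))).symm.trans ?_
    refine cmp_congr G _ ?_ rfl
    refine (cmp_assoc G (cmp G α₁ a (hL q₁)) β₁ (cmp G α₂ b (hL q₂))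
      ((cmp_s G _ _ _).trans (hR q₁)) (hm.trans (cmp_t G _ _ _).symm)).trans ?_
    refine (cmp_assoc G α₁ a (cmp G β₁ (cmp G α₂ b (hL q₂)) (hm.trans (cmp_t G _ _ _).symm))
      (hL q₁) ((hR q₁).trans (cmp_t G _ _ _).symm)).trans ?_
    refine cmp_congr G _ rfl ((cmp_congr G _ rfl ?_).trans hab)
    exact (cmp_assoc G β₁ α₂ b hm (hL q₂)).symm
  rw [key]
  exact D.ρ_tri _ _ _ _ _

theorem exists_lifts {T : Scheme.{u}} (x : T ⟶ D.X) :
    ∃ (T' : Scheme.{u}) (p : T' ⟶ T) (r : T' ⟶ G.R), Epi p ∧ r ≫ D.ρ = p ≫ x :=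
  ⟨_, pullback.fst x D.ρ, pullback.snd x D.ρ, inferInstance, pullback.condition.symm⟩

theorem exists_lifts₂ {T : Scheme.{u}} (x y : T ⟶ D.X) (h : x ≫ D.sX = y ≫ D.tX) :
    ∃ (T' : Scheme.{u}) (p : T' ⟶ T) (a b : T' ⟶ G.R),
      (Flat p ∧ LocallyOfFinitePresentation p ∧ Surjective p) ∧
      a ≫ D.ρ = p ≫ x ∧ b ≫ D.ρ = p ≫ y ∧ a ≫ G.s = b ≫ G.t := by
  let p₁ : pullback x D.ρ ⟶ T := pullback.fst x D.ρ
  let p₂ : pullback (p₁ ≫ y ≫ D.sX) D.π ⟶ pullback x D.ρ := pullback.fst _ _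
  let a : pullback (p₁ ≫ y ≫ D.sX) D.π ⟶ G.R := p₂ ≫ pullback.snd x D.ρ
  let w : pullback (p₁ ≫ y ≫ D.sX) D.π ⟶ G.U := pullback.snd _ _
  have ha : a ≫ D.ρ = (p₂ ≫ p₁) ≫ x := by
    simp only [a, p₁, Category.assoc, pullback.condition]
  obtain ⟨b, hb, hbt, -⟩ := D.exists_lift ((p₂ ≫ p₁) ≫ y) (a ≫ G.s) w
    ((Category.assoc a G.s D.π).trans ((congrArg (a ≫ ·) D.ρ_sX.symm).trans
      ((Category.assoc _ _ _).symm.trans ((congrArg (· ≫ D.sX) ha).trans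
        ((Category.assoc _ x D.sX).trans ((congrArg ((p₂ ≫ p₁) ≫ ·) h).trans
          (Category.assoc _ _ _).symm))))))
    (pullback.condition.symm.trans (by simp only [p₂, Category.assoc]))
  exact ⟨_, p₂ ≫ p₁, a, b, ⟨inferInstance, inferInstance, inferInstance⟩, ha, hb, hbt.symm⟩

theorem exists_lifts₃ {T : Scheme.{u}} (x y z : T ⟶ D.X) (h₁ : x ≫ D.sX = y ≫ D.tX)
    (h₂ : y ≫ D.sX = z ≫ D.tX) :
    ∃ (T' : Scheme.{u}) (p : T' ⟶ T) (a b c : T' ⟶ G.R), Epi p ∧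
      a ≫ D.ρ = p ≫ x ∧ b ≫ D.ρ = p ≫ y ∧ c ≫ D.ρ = p ≫ z ∧
      a ≫ G.s = b ≫ G.t ∧ b ≫ G.s = c ≫ G.t := by
  obtain ⟨T₁, p₁, a, b, ⟨_, _, _⟩, ha, hb, hab⟩ := D.exists_lifts₂ x y h₁
  let p₂ : pullback (p₁ ≫ z ≫ D.sX) D.π ⟶ T₁ := pullback.fst _ _
  let w : pullback (p₁ ≫ z ≫ D.sX) D.π ⟶ G.U := pullback.snd _ _
  obtain ⟨c, hc, hct, -⟩ := D.exists_lift ((p₂ ≫ p₁) ≫ z) ((p₂ ≫ b) ≫ G.s) w
    ((Category.assoc (p₂ ≫ b) G.s D.π).trans ((congrArg ((p₂ ≫ b) ≫ ·) D.ρ_sX.symm).trans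
      ((Category.assoc _ _ _).symm.trans ((congrArg (· ≫ D.sX)
        ((Category.assoc p₂ b D.ρ).trans ((congrArg (p₂ ≫ ·) hb).trans
          (Category.assoc _ _ _).symm))).trans
        ((Category.assoc _ y D.sX).trans ((congrArg ((p₂ ≫ p₁) ≫ ·) h₂).trans
          (Category.assoc _ _ _).symm))))))
    (pullback.condition.symm.trans (by simp only [p₂, Category.assoc]))
  exact ⟨_, p₂ ≫ p₁, p₂ ≫ a, p₂ ≫ b, c, inferInstance, by rw [Category.assoc, ha, Category.assoc],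
    by rw [Category.assoc, hb, Category.assoc], hc, by rw [Category.assoc, Category.assoc, hab],
    hct.symm⟩

theorem exists_comp :
    ∃ c : pullback D.sX D.tX ⟶ D.X, ∀ {T : Scheme.{u}} (a b : T ⟶ G.R) (h : a ≫ G.s = b ≫ G.t)
      (h' : (a ≫ D.ρ) ≫ D.sX = (b ≫ D.ρ) ≫ D.tX),
      pullback.lift (a ≫ D.ρ) (b ≫ D.ρ) h' ≫ c = cmp G a b h ≫ D.ρ := by
  obtain ⟨K, q, A, B, ⟨_, _, _⟩, hA, hB, hAB⟩ :=
    D.exists_lifts₂ (pullback.fst D.sX D.tX) (pullback.snd D.sX D.tX) pullback.condition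
  have hcond : ∀ {Z : Scheme.{u}} (g₁ g₂ : Z ⟶ K), g₁ ≫ q = g₂ ≫ q →
      g₁ ≫ cmp G A B hAB ≫ D.ρ = g₂ ≫ cmp G A B hAB ≫ D.ρ := by
    intro Z g₁ g₂ hg
    refine ((Category.assoc _ _ _).symm.trans (congrArg (· ≫ D.ρ) (comp_cmp G g₁ A B hAB))).trans
      ((D.comp_well_defined _ _ _ _ _ _ ?_ ?_).trans
        ((Category.assoc _ _ _).symm.trans (congrArg (· ≫ D.ρ) (comp_cmp G g₂ A B hAB))).symm)
    · simp only [Category.assoc, hA, reassoc_of% hg]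
    · simp only [Category.assoc, hB, reassoc_of% hg]
  refine ⟨EffectiveEpi.desc q (cmp G A B hAB ≫ D.ρ) hcond, fun {T} a b h h' => ?_⟩
  let m := pullback.lift (a ≫ D.ρ) (b ≫ D.ρ) h'
  let p : pullback m q ⟶ T := pullback.fst m q
  let k : pullback m q ⟶ K := pullback.snd m q
  have hk : p ≫ m = k ≫ q := pullback.condition
  rw [← cancel_epi p, ← Category.assoc, hk, Category.assoc, EffectiveEpi.fac, ← Category.assoc,
    ← Category.assoc p, comp_cmp, comp_cmp]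
  refine D.comp_well_defined _ _ _ _ _ _ ?_ ?_
  · rw [Category.assoc, hA, ← Category.assoc, ← hk, Category.assoc, pullback.lift_fst, Category.assoc]
  · rw [Category.assoc, hB, ← Category.assoc, ← hk, Category.assoc, pullback.lift_snd, Category.assoc]

/-- The composition of the descended groupoid. -/
def cX : pullback D.sX D.tX ⟶ D.X := D.exists_comp.choose

theorem cX_spec {T : Scheme.{u}} (a b : T ⟶ G.R) (h : a ≫ G.s = b ≫ G.t) {x y : T ⟶ D.X}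
    (hx : a ≫ D.ρ = x) (hy : b ≫ D.ρ = y) (h' : x ≫ D.sX = y ≫ D.tX) :
    pullback.lift x y h' ≫ D.cX = cmp G a b h ≫ D.ρ := by
  subst hx hy
  exact D.exists_comp.choose_spec a b h h'

theorem comp_cX {T T' : Scheme.{u}} (p : T' ⟶ T) (x y : T ⟶ D.X) (h : x ≫ D.sX = y ≫ D.tX) :
    p ≫ pullback.lift x y h ≫ D.cX =
      pullback.lift (p ≫ x) (p ≫ y) (by rw [Category.assoc, Category.assoc, h]) ≫ D.cX := by
  rw [← Category.assoc]
  congr 1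
  apply pullback.hom_ext <;> simp only [Category.assoc, pullback.lift_fst, pullback.lift_snd]

theorem ρ_e_cond {T : Scheme.{u}} (u v : T ⟶ G.U) (h : u ≫ D.π = v ≫ D.π) :
    (u ≫ G.e) ≫ D.ρ = (v ≫ G.e) ≫ D.ρ := by
  obtain ⟨α, hαt, hαs⟩ := D.exists_pt u v h
  obtain ⟨β, hβ⟩ := D.rel.exists_inv α
  have h₁ : (α ≫ D.io) ≫ G.s = (v ≫ G.e) ≫ G.t := by
    rw [hαs, Category.assoc, G.e_t, Category.comp_id]
  have h₂ : (v ≫ G.e) ≫ G.s = (β ≫ D.io) ≫ G.t := by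
    rw [hβ, Category.assoc _ G.i, G.i_t, hαs, Category.assoc, G.e_s, Category.comp_id]
  rw [← D.ρ_tri α (v ≫ G.e) β h₁ h₂]
  congr 1
  refine ((cmp_congr G _ (cmp_eq_left G h₁ ?_) hβ).trans
    ((G.comp_i (α ≫ D.io)).trans ?_)).symm
  · exact (congrArg (· ≫ G.e) hαs).symm.trans (Category.assoc _ _ _)
  · rw [← Category.assoc, hαt]

/-- The identities of the descended groupoid. -/
def eX : D.V ⟶ D.X :=
  EffectiveEpi.desc D.π (G.e ≫ D.ρ) fun a b h => by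
    simpa only [Category.assoc] using D.ρ_e_cond a b h

@[reassoc]
theorem π_eX : D.π ≫ D.eX = G.e ≫ D.ρ :=
  EffectiveEpi.fac D.π (G.e ≫ D.ρ) fun a b h => by
    simpa only [Category.assoc] using D.ρ_e_cond a b h

theorem cX_t {T : Scheme.{u}} (x y : T ⟶ D.X) (h : x ≫ D.sX = y ≫ D.tX) :
    (pullback.lift x y h ≫ D.cX) ≫ D.tX = x ≫ D.tX := by
  obtain ⟨T', p, a, b, ⟨_, _, _⟩, ha, hb, hab⟩ := D.exists_lifts₂ x y h
  rw [← cancel_epi p, ← Category.assoc, comp_cX, D.cX_spec a b hab ha hb, Category.assoc, ρ_tX,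
    ← Category.assoc, cmp_t, ← Category.assoc p, ← ha, Category.assoc, Category.assoc, ρ_tX]

theorem cX_s {T : Scheme.{u}} (x y : T ⟶ D.X) (h : x ≫ D.sX = y ≫ D.tX) :
    (pullback.lift x y h ≫ D.cX) ≫ D.sX = y ≫ D.sX := by
  obtain ⟨T', p, a, b, ⟨_, _, _⟩, ha, hb, hab⟩ := D.exists_lifts₂ x y h
  rw [← cancel_epi p, ← Category.assoc, comp_cX, D.cX_spec a b hab ha hb, Category.assoc, ρ_sX,
    ← Category.assoc, cmp_s, ← Category.assoc p, ← hb, Category.assoc, Category.assoc, ρ_sX]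

theorem cX_congr {T : Scheme.{u}} {x x' y y' : T ⟶ D.X} (h : x ≫ D.sX = y ≫ D.tX) (ex : x = x')
    (ey : y = y') :
    pullback.lift x y h ≫ D.cX = pullback.lift x' y' (by rw [← ex, ← ey, h]) ≫ D.cX := by
  subst ex ey; rfl

theorem cX_assoc {T : Scheme.{u}} (x y z : T ⟶ D.X) (h₁ : x ≫ D.sX = y ≫ D.tX)
    (h₂ : y ≫ D.sX = z ≫ D.tX) :
    pullback.lift (pullback.lift x y h₁ ≫ D.cX) z ((D.cX_s x y h₁).trans h₂) ≫ D.cX =
      pullback.lift x (pullback.lift y z h₂ ≫ D.cX) (h₁.trans (D.cX_t y z h₂).symm) ≫ D.cX := by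
  obtain ⟨T', p, a, b, c, _, ha, hb, hc, hab, hbc⟩ := D.exists_lifts₃ x y z h₁ h₂
  rw [← cancel_epi p]
  refine (D.comp_cX p _ _ _).trans (Eq.trans ?_ (D.comp_cX p _ _ _).symm)
  refine (D.cX_spec (cmp G a b hab) c ((cmp_s G _ _ hab).trans hbc)
      (((D.comp_cX p x y h₁).trans (D.cX_spec a b hab ha hb _)).symm) hc _).trans
    (Eq.trans ?_ (D.cX_spec a (cmp G b c hbc) (hab.trans (cmp_t G _ _ hbc).symm) ha
      (((D.comp_cX p y z h₂).trans (D.cX_spec b c hbc hb hc _)).symm) _).symm)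
  exact congrArg (· ≫ D.ρ) (cmp_assoc G a b c hab hbc)

theorem eX_s : D.eX ≫ D.sX = 𝟙 D.V := by
  rw [← cancel_epi D.π, π_eX_assoc, ρ_sX, ← Category.assoc, G.e_s, Category.id_comp, Category.comp_id]

theorem eX_t : D.eX ≫ D.tX = 𝟙 D.V := by
  rw [← cancel_epi D.π, π_eX_assoc, ρ_tX, ← Category.assoc, G.e_t, Category.id_comp, Category.comp_id]

theorem cX_e {T : Scheme.{u}} (x : T ⟶ D.X) :
    pullback.lift x (x ≫ D.sX ≫ D.eX)
      (by rw [Category.assoc, Category.assoc, D.eX_t, Category.comp_id]) ≫ D.cX = x := by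
  obtain ⟨T', p, a, _, ha⟩ := D.exists_lifts x
  have he : (a ≫ G.s ≫ G.e) ≫ D.ρ = p ≫ x ≫ D.sX ≫ D.eX := by
    rw [← reassoc_of% ha]
    simp only [Category.assoc, ρ_sX_assoc, π_eX]
  rw [← cancel_epi p, comp_cX, D.cX_spec a (a ≫ G.s ≫ G.e)
    (by rw [Category.assoc, Category.assoc, G.e_t, Category.comp_id]) ha he]
  exact (congrArg (· ≫ D.ρ) (G.comp_e a)).trans ha

theorem e_cX {T : Scheme.{u}} (x : T ⟶ D.X) :
    pullback.lift (x ≫ D.tX ≫ D.eX) x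
      (by rw [Category.assoc, Category.assoc, D.eX_s, Category.comp_id]) ≫ D.cX = x := by
  obtain ⟨T', p, a, _, ha⟩ := D.exists_lifts x
  have he : (a ≫ G.t ≫ G.e) ≫ D.ρ = p ≫ x ≫ D.tX ≫ D.eX := by
    rw [← reassoc_of% ha]
    simp only [Category.assoc, ρ_tX_assoc, π_eX]
  rw [← cancel_epi p, comp_cX, D.cX_spec (a ≫ G.t ≫ G.e) a
    (by rw [Category.assoc, Category.assoc, G.e_s, Category.comp_id]) he ha]
  exact (congrArg (· ≫ D.ρ) (G.e_comp a)).trans ha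

theorem ρ_i_cond {T : Scheme.{u}} (a b : T ⟶ G.R) (h : a ≫ D.ρ = b ≫ D.ρ) :
    (a ≫ G.i) ≫ D.ρ = (b ≫ G.i) ≫ D.ρ := by
  have hra : ∀ r : T ⟶ G.R, ((r ≫ G.i) ≫ D.ρ) ≫ D.tX = (r ≫ D.ρ) ≫ D.sX ∧
      ((r ≫ G.i) ≫ D.ρ) ≫ D.sX = (r ≫ D.ρ) ≫ D.tX := fun r => by
    constructor
    · simp only [Category.assoc, ρ_tX, ρ_sX]; rw [← Category.assoc G.i, G.i_t]
    · simp only [Category.assoc, ρ_tX, ρ_sX]; rw [← Category.assoc G.i, G.i_s]
  have h₁ : (b ≫ D.ρ) ≫ D.sX = ((b ≫ G.i) ≫ D.ρ) ≫ D.tX := (hra b).1.symm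
  have h₂ : ((a ≫ G.i) ≫ D.ρ) ≫ D.sX = (b ≫ D.ρ) ≫ D.tX := (hra a).2.trans (by rw [h])
  have key := D.cX_assoc ((a ≫ G.i) ≫ D.ρ) (b ≫ D.ρ) ((b ≫ G.i) ≫ D.ρ) h₂ h₁
  have e1 : pullback.lift ((a ≫ G.i) ≫ D.ρ) (b ≫ D.ρ) h₂ ≫ D.cX =
      ((b ≫ G.i) ≫ D.ρ) ≫ D.tX ≫ D.eX := by
    rw [D.cX_spec (a ≫ G.i) a (by rw [Category.assoc, G.i_s]) rfl h,
      show cmp G (a ≫ G.i) a _ = a ≫ G.s ≫ G.e from G.i_comp a,
      ← Category.assoc (f := (b ≫ G.i) ≫ D.ρ), (hra b).1, ← h]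
    simp only [Category.assoc, ρ_sX_assoc, π_eX]
  have e2 : pullback.lift (b ≫ D.ρ) ((b ≫ G.i) ≫ D.ρ) h₁ ≫ D.cX =
      ((a ≫ G.i) ≫ D.ρ) ≫ D.sX ≫ D.eX := by
    rw [D.cX_spec b (b ≫ G.i) (by rw [Category.assoc, G.i_t]) rfl rfl,
      show cmp G b (b ≫ G.i) _ = b ≫ G.t ≫ G.e from G.comp_i b,
      ← Category.assoc (f := (a ≫ G.i) ≫ D.ρ), (hra a).2, h]
    simp only [Category.assoc, ρ_tX_assoc, π_eX]
  rw [D.cX_congr _ e1 rfl, D.cX_congr _ rfl e2, e_cX, cX_e] at key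
  exact key.symm

/-- The inverse of the descended groupoid. -/
def iX : D.X ⟶ D.X :=
  EffectiveEpi.desc D.ρ (G.i ≫ D.ρ) fun a b h => by
    simpa only [Category.assoc] using D.ρ_i_cond a b h

@[reassoc]
theorem ρ_iX : D.ρ ≫ D.iX = G.i ≫ D.ρ :=
  EffectiveEpi.fac D.ρ (G.i ≫ D.ρ) fun a b h => by
    simpa only [Category.assoc] using D.ρ_i_cond a b h

theorem iX_s : D.iX ≫ D.sX = D.tX := by
  rw [← cancel_epi D.ρ, ρ_iX_assoc, ρ_sX, ← Category.assoc, G.i_s, ρ_tX]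

theorem iX_t : D.iX ≫ D.tX = D.sX := by
  rw [← cancel_epi D.ρ, ρ_iX_assoc, ρ_tX, ← Category.assoc, G.i_t, ρ_sX]

/-- The descended groupoid. -/
def grpd : Grpd.GroupoidScheme S where
  U := D.V
  R := D.X
  pU := D.pV
  pR := D.sX ≫ D.pV
  s := D.sX
  t := D.tX
  e := D.eX
  i := D.iX
  c := D.cX
  s_over := rfl
  t_over := by
    rw [← cancel_epi D.ρ, ρ_tX_assoc, ρ_sX_assoc, π_pV, G.t_over, G.s_over]
  comp_s := D.cX_s
  comp_t := D.cX_t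
  assoc := D.cX_assoc
  e_s := D.eX_s
  e_t := D.eX_t
  comp_e := D.cX_e
  e_comp := D.e_cX
  i_s := D.iX_s
  i_t := D.iX_t
  comp_i x := by
    obtain ⟨T', p, a, _, ha⟩ := D.exists_lifts x
    rw [← cancel_epi p, comp_cX, D.cX_spec a (a ≫ G.i) (by rw [Category.assoc, G.i_t]) ha
      (by rw [← reassoc_of% ha, ρ_iX, Category.assoc]),
      show cmp G a (a ≫ G.i) _ = a ≫ G.t ≫ G.e from G.comp_i a, ← reassoc_of% ha]
    simp only [Category.assoc, ρ_tX_assoc, π_eX]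
  i_comp x := by
    obtain ⟨T', p, a, _, ha⟩ := D.exists_lifts x
    rw [← cancel_epi p, comp_cX, D.cX_spec (a ≫ G.i) a (by rw [Category.assoc, G.i_s])
      (by rw [← reassoc_of% ha, ρ_iX, Category.assoc]) ha,
      show cmp G (a ≫ G.i) a _ = a ≫ G.s ≫ G.e from G.i_comp a, ← reassoc_of% ha]
    simp only [Category.assoc, ρ_sX_assoc, π_eX]

/-- The morphism to the descended groupoid. -/
def hom : Grpd.GroupoidScheme.Hom G D.grpd where
  fU := D.π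
  fR := D.ρ
  fU_over := D.π_pV
  comm_s := D.ρ_sX
  comm_t := D.ρ_tX
  comm_c a b h := (D.cX_spec a b h rfl rfl _).symm

theorem isPullback_hom :
    IsPullback D.hom.fR G.j D.grpd.j
      (pullback.map G.pU G.pU D.grpd.pU D.grpd.pU D.hom.fU D.hom.fU (𝟙 S)
        ((Category.comp_id _).trans D.hom.fU_over.symm)
        ((Category.comp_id _).trans D.hom.fU_over.symm)) := by
  have hjc : D.tX ≫ D.pV = D.sX ≫ D.pV := D.grpd.t_over.trans D.grpd.s_over.symm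
  change IsPullback D.ρ G.j (pullback.lift D.tX D.sX hjc)
    (pullback.map G.pU G.pU D.pV D.pV D.π D.π (𝟙 S) ((Category.comp_id _).trans D.π_pV.symm)
      ((Category.comp_id _).trans D.π_pV.symm))
  have hj₁ : pullback.lift D.tX D.sX hjc ≫ pullback.fst D.pV D.pV = D.tX := pullback.lift_fst _ _ _
  have hj₂ : pullback.lift D.tX D.sX hjc ≫ pullback.snd D.pV D.pV = D.sX := pullback.lift_snd _ _ _
  have hw : D.ρ ≫ pullback.lift D.tX D.sX hjc = G.j ≫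
      pullback.map G.pU G.pU D.pV D.pV D.π D.π (𝟙 S) ((Category.comp_id _).trans D.π_pV.symm)
        ((Category.comp_id _).trans D.π_pV.symm) := by
    apply pullback.hom_ext
    · refine ((Category.assoc _ _ _).trans (congrArg (D.ρ ≫ ·) hj₁)).trans ?_
      simp only [Grpd.GroupoidScheme.j, ρ_tX, Category.assoc, pullback.lift_fst, pullback.lift_fst_assoc]
    · refine ((Category.assoc _ _ _).trans (congrArg (D.ρ ≫ ·) hj₂)).trans ?_
      simp only [Grpd.GroupoidScheme.j, ρ_sX, Category.assoc, pullback.lift_snd, pullback.lift_snd_assoc]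
  have hex : ∀ (c : PullbackCone (pullback.lift D.tX D.sX hjc)
      (pullback.map G.pU G.pU D.pV D.pV D.π D.π (𝟙 S) ((Category.comp_id _).trans D.π_pV.symm)
        ((Category.comp_id _).trans D.π_pV.symm))),
      ∃ r : c.pt ⟶ G.R, r ≫ D.ρ = c.fst ∧ r ≫ G.j = c.snd := by
    intro c
    have h₁ := congrArg (· ≫ pullback.fst D.pV D.pV) c.condition
    have h₂ := congrArg (· ≫ pullback.snd D.pV D.pV) c.condition
    simp only [Category.assoc, pullback.lift_fst, pullback.lift_snd] at h₁ h₂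
    obtain ⟨r, hr, hrt, hrs⟩ := D.exists_lift c.fst (c.snd ≫ pullback.fst G.pU G.pU)
      (c.snd ≫ pullback.snd G.pU G.pU) (by rw [Category.assoc]; exact h₁.symm)
      (by rw [Category.assoc]; exact h₂.symm)
    refine ⟨r, hr, pullback.hom_ext ?_ ?_⟩
    · rw [Category.assoc, Grpd.GroupoidScheme.j, pullback.lift_fst, hrt]
    · rw [Category.assoc, Grpd.GroupoidScheme.j, pullback.lift_snd, hrs]
  refine ⟨⟨hw⟩, ⟨PullbackCone.IsLimit.mk _ (fun c => (hex c).choose) (fun c => (hex c).choose_spec.1)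
    (fun c => (hex c).choose_spec.2) fun c m hm₁ hm₂ => ?_⟩⟩
  refine D.lift_unique _ _ (hm₁.trans (hex c).choose_spec.1.symm) ?_ ?_
  · have := congrArg (· ≫ pullback.fst G.pU G.pU) (hm₂.trans (hex c).choose_spec.2.symm)
    simpa only [Category.assoc, Grpd.GroupoidScheme.j, pullback.lift_fst, pullback.lift_snd] using this
  · have := congrArg (· ≫ pullback.snd G.pU G.pU) (hm₂.trans (hex c).choose_spec.2.symm)
    simpa only [Category.assoc, Grpd.GroupoidScheme.j, pullback.lift_fst, pullback.lift_snd] using this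

end DescData

end

end GrothLib.GrpdQuot
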