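import Groth.Agent.Lib.GrpdQuot.QuotSheaf
import Groth.Prelude.Def_CGrpSh
import Mathlib.CategoryTheory.EquivalenceRelation
import Mathlib.AlgebraicGeometry.Morphisms.LocalFlatDescent

/-!
Schemes representing quotient sheaves of equivalence relations: effectivity.
-/

universe u

open CategoryTheory CategoryTheory.Limits AlgebraicGeometry Opposite

namespace GrothLib.GrpdQuot

noncomputable section

variable (K : Precoverage Scheme.{u}) {S : Scheme.{u}} {R U : Over S} {s t : R ⟶ U}

theorem eqv_jointlyMono [h : IsEquivalenceRelation s t] {T : Over S} (a b : T ⟶ R)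
    (h₁ : a ≫ s = b ≫ s) (h₂ : a ≫ t = b ≫ t) : a = b := by
  obtain ⟨e⟩ := h.nonempty_equivalenceRelation
  exact e.right_cancellation a b h₁ h₂

theorem eqv_equivalence [h : IsEquivalenceRelation s t] (T : Over S) :
    Equivalence (fun a b : T ⟶ U => ∃ r : T ⟶ R, r ≫ s = a ∧ r ≫ t = b) := by
  obtain ⟨e⟩ := h.nonempty_equivalenceRelation
  refine ⟨fun a => ⟨a ≫ e.r, by simp, by simp⟩, ?_, ?_⟩
  · rintro _ _ ⟨r, rfl, rfl⟩
    exact ⟨r ≫ e.s, by rw [Category.assoc, e.symmetry₁], by rw [Category.assoc, e.symmetry₂]⟩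
  · rintro _ b _ ⟨r₁, rfl, hb⟩ ⟨r₂, hb', rfl⟩
    obtain ⟨l, hl₁, hl₂⟩ := PullbackCone.IsLimit.lift' e.isLimit r₁ r₂ (hb.trans hb'.symm)
    refine ⟨l ≫ e.t, ?_, ?_⟩
    · rw [Category.assoc, e.transitivity₁, ← Category.assoc, hl₁]
    · rw [Category.assoc, e.transitivity₂, ← Category.assoc, hl₂]

variable (s t)

/-- The relation on points. -/
def pointSetoid [IsEquivalenceRelation s t] (T : Over S) : Setoid (T ⟶ U) :=
  ⟨_, eqv_equivalence (s := s) (t := t) T⟩

/-- The presheaf quotient. -/
def quotPre [IsEquivalenceRelation s t] : (Over S)ᵒᵖ ⥤ Type (u + 1) where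
  obj T := ULift.{u + 1} (Quotient (pointSetoid s t T.unop))
  map {T T'} g := ↾fun x =>
    ⟨Quotient.map (sa := pointSetoid s t T.unop) (sb := pointSetoid s t T'.unop) (g.unop ≫ ·)
      (by rintro _ _ ⟨r, rfl, rfl⟩; exact ⟨g.unop ≫ r, Category.assoc _ _ _, Category.assoc _ _ _⟩) x.down⟩
  map_id T := by
    ext ⟨x⟩
    induction x using Quotient.inductionOn with
    | h a => exact congrArg (Quotient.mk (pointSetoid s t T.unop)) (Category.id_comp a)
  map_comp {T T' T''} g g' := by
    ext ⟨x⟩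
    induction x using Quotient.inductionOn with
    | h a => exact congrArg (Quotient.mk (pointSetoid s t T''.unop)) (Category.assoc g'.unop g.unop a)

/-- The projection onto the presheaf quotient. -/
def quotPreπ [IsEquivalenceRelation s t] :
    yoneda.obj U ⋙ uliftFunctor.{u + 1, u} ⟶ quotPre s t where
  app T := ↾fun x => ⟨Quotient.mk (pointSetoid s t T.unop) x.down⟩
  naturality _ _ _ := rfl

theorem isPullback_quotPreπ [IsEquivalenceRelation s t] :
    IsPullback (Functor.whiskerRight (yoneda.map s) uliftFunctor.{u + 1, u})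
      (Functor.whiskerRight (yoneda.map t) uliftFunctor.{u + 1, u}) (quotPreπ s t) (quotPreπ s t) := by
  refine IsPullback.of_forall_isPullback_app fun T => (Types.isPullback_iff _ _ _ _).2 ⟨?_, ?_, ?_⟩
  · ext ⟨r⟩
    exact congrArg ULift.up (Quotient.sound (s := pointSetoid s t T.unop) ⟨r, rfl, rfl⟩)
  · rintro ⟨r⟩ ⟨r'⟩ ⟨e₁, e₂⟩
    exact congrArg ULift.up
      (eqv_jointlyMono (s := s) (t := t) r r' (congrArg ULift.down e₁) (congrArg ULift.down e₂))
  · rintro ⟨a⟩ ⟨b⟩ e
    obtain ⟨r, hr₁, hr₂⟩ := Quotient.exact (s := pointSetoid s t T.unop) (congrArg ULift.down e)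
    exact ⟨⟨r⟩, congrArg ULift.up hr₁, congrArg ULift.up hr₂⟩

theorem epi_quotPreπ [IsEquivalenceRelation s t] : Epi (quotPreπ s t) := by
  have : ∀ T, Epi ((quotPreπ s t).app T) := fun T => (epi_iff_surjective _).2 fun ⟨x⟩ => by
    induction x using Quotient.inductionOn with
    | h a => exact ⟨⟨a⟩, rfl⟩
  exact NatTrans.epi_of_epi_app _

/-- Equivalence relations are effective in sheaves. -/
theorem isPullback_quotSheafπ [IsEquivalenceRelation s t] :
    IsPullback (QuotSh.repMap K s) (QuotSh.repMap K t) (QuotSh.quotπ K s t) (QuotSh.quotπ K s t) := by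
  let a := presheafToSheaf (QuotSh.J K S) (Type (u + 1))
  have sq := (isPullback_quotPreπ s t).map a
  have := epi_quotPreπ s t
  have := IsRegularEpiCategory.regularEpiOfEpi (a.map (quotPreπ s t))
  obtain ⟨v, hv⟩ := IsRegularEpi.exists_of_isKernelPair (a.map (quotPreπ s t)) sq
    (QuotSh.quotπ K s t) (QuotSh.quot_condition K s t)
  let d : QuotSh.quot K s t ⟶ a.obj (quotPre s t) :=
    coequalizer.desc (a.map (quotPreπ s t)) sq.w
  have hd : QuotSh.quotπ K s t ≫ d = a.map (quotPreπ s t) := coequalizer.π_desc _ _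
  have : IsIso v := ⟨d, (cancel_epi (a.map (quotPreπ s t))).1 (by rw [reassoc_of% hv, hd, Category.comp_id]),
    coequalizer.hom_ext (by
      change QuotSh.quotπ K s t ≫ d ≫ v = QuotSh.quotπ K s t ≫ 𝟙 _
      rw [reassoc_of% hd, hv, Category.comp_id])⟩
  exact sq.of_iso (Iso.refl _) (Iso.refl _) (Iso.refl _) (asIso v) (by simp [a]) (by simp [a])
    (by simpa using hv) (by simpa using hv)

/-- The comparison of the sheaf of a scheme with Mathlib's representable sheaf. -/
def repNatIso [(QuotSh.J K S).Subcanonical] :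
    repFunctor K (S := S) ≅ (QuotSh.J K S).uliftYoneda.{u + 1} :=
  NatIso.ofComponents (fun V => QuotSh.repIsoUliftYoneda K V) fun {V W} g => by
    change QuotSh.repMap K g ≫ (QuotSh.repIsoUliftYoneda K W).hom = _
    rw [← Iso.eq_comp_inv]
    simp only [Category.assoc]
    rw [← Iso.inv_comp_eq]
    apply ObjectProperty.hom_ext
    exact (toSheafify_naturality (QuotSh.J K S) ((QuotSh.J K S).uliftYoneda.{u + 1}.map g).hom).symm

variable {s t}

theorem isPullback_of_isQuotient [(QuotSh.J K S).Subcanonical] [IsEquivalenceRelation s t]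
    {M : Over S} {q : U ⟶ M} (hq : QuotSh.IsQuotient K s t q) : IsPullback s t q q := by
  obtain ⟨w, hiso⟩ := hq
  haveI := hiso
  have h₁ : QuotSh.quotπ K s t ≫ QuotSh.quotDesc K q w = QuotSh.repMap K q := coequalizer.π_desc _ _
  have sq : IsPullback ((repFunctor K).map s) ((repFunctor K).map t) ((repFunctor K).map q)
      ((repFunctor K).map q) :=
    (isPullback_quotSheafπ K s t).of_iso (Iso.refl _) (Iso.refl _) (Iso.refl _)
      (asIso (QuotSh.quotDesc K q w)) (by simp) (by simp) (by simpa using h₁) (by simpa using h₁)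
  let e := repNatIso K (S := S)
  have sq' : IsPullback ((QuotSh.J K S).uliftYoneda.{u + 1}.map s)
      ((QuotSh.J K S).uliftYoneda.{u + 1}.map t) ((QuotSh.J K S).uliftYoneda.{u + 1}.map q)
      ((QuotSh.J K S).uliftYoneda.{u + 1}.map q) :=
    sq.of_iso (e.app R) (e.app U) (e.app U) (e.app M) (e.hom.naturality s) (e.hom.naturality t)
      (e.hom.naturality q) (e.hom.naturality q)
  exact IsPullback.of_map_of_faithful (QuotSh.J K S).uliftYoneda.{u + 1} sq'

theorem exists_cover_lift (P : MorphismProperty Scheme.{u}) [P.IsStableUnderBaseChange]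
    [P.IsMultiplicative] {M : Over S} {q : U ⟶ M}
    [Epi (QuotSh.repMap (Scheme.precoverage P) q)] (x : M.left) :
    ∃ (V : Scheme.{u}) (f : V ⟶ M.left) (l : V ⟶ U.left),
      P f ∧ x ∈ Set.range f ∧ l ≫ q.left = f := by
  have hls : Sheaf.IsLocallySurjective (QuotSh.repMap (Scheme.precoverage P) q) :=
    (Sheaf.isLocallySurjective_iff_epi _).mpr inferInstance
  have hpre : Presheaf.IsLocallySurjective (QuotSh.J (Scheme.precoverage P) S)
      (Functor.whiskerRight (yoneda.map q) uliftFunctor.{u + 1, u}) :=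
    (Presheaf.isLocallySurjective_presheafToSheaf_map_iff _ _).mp hls
  have hS := Presheaf.imageSieve_mem (QuotSh.J (Scheme.precoverage P) S)
    (Functor.whiskerRight (yoneda.map q) uliftFunctor.{u + 1, u}) (U := op M)
    (show (yoneda.obj M ⋙ uliftFunctor.{u + 1, u}).obj (op M) from ULift.up (𝟙 M))
  obtain ⟨C, hC, hle⟩ := Precoverage.mem_toGrothendieck_iff_of_isStableUnderComposition.1
    (show Sieve.overEquiv M _ ∈ (Scheme.precoverage P).toGrothendieck M.left from hS)
  obtain ⟨V, f, hf, y, hy⟩ := Scheme.JointlySurjective.exists_eq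
    (K := Scheme.precoverage P) C hC x
  obtain ⟨l, hl⟩ := (Sieve.overEquiv_iff _ f).1 (hle _ _ hf)
  refine ⟨V, f, l.down.left, hC.2 hf, ⟨y, hy⟩, ?_⟩
  exact congrArg (fun z : ULift (Over.mk (f ≫ M.hom) ⟶ M) => z.down.left) hl |>.trans
    (Category.comp_id f)

theorem property_of_cover (P Q : MorphismProperty Scheme.{u}) [P.IsStableUnderBaseChange]
    [P.IsMultiplicative] [IsZariskiLocalAtSource P] [Q.IsStableUnderBaseChange]
    [(QuotSh.J (Scheme.precoverage P) S).Subcanonical] [IsEquivalenceRelation s t]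
    (hdesc : ∀ ⦃X Y V X' : Scheme.{u}⦄ (f : X ⟶ Y) (c : V ⟶ Y) (c' : X' ⟶ X) (f' : X' ⟶ V),
      IsPullback c' f' f c → P c → Surjective c → Q f' → Q f)
    {M : Over S} {q : U ⟶ M} (hq : QuotSh.IsQuotient (Scheme.precoverage P) s t q)
    (hs : Q s.left) : Q q.left := by
  haveI : Epi (QuotSh.repMap (Scheme.precoverage P) q) := by
    obtain ⟨w, hiso⟩ := hq
    have h : QuotSh.quotπ _ s t ≫ QuotSh.quotDesc (Scheme.precoverage P) q w =
      QuotSh.repMap (Scheme.precoverage P) q := coequalizer.π_desc _ _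
    rw [← h]
    haveI : Epi (QuotSh.quotπ (Scheme.precoverage P) s t) := coequalizer.π_epi
    haveI := hiso
    exact epi_comp _ _
  choose V f l hf hx hl using fun x : M.left => exists_cover_lift (U := U) P (q := q) x
  let c : (∐ V) ⟶ M.left := Sigma.desc f
  let L : (∐ V) ⟶ U.left := Sigma.desc l
  have hLc : L ≫ q.left = c := Sigma.hom_ext _ _ fun x => by simp [L, c, hl]
  have hc : P c := by
    rw [IsZariskiLocalAtSource.iff_of_openCover (P := P) (sigmaOpenCover _)]
    intro i
    rw [show (sigmaOpenCover V).f i ≫ c = f i from Sigma.ι_desc _ _]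
    exact hf i
  have hcs : Surjective c := ⟨fun x => by
    obtain ⟨y, hy⟩ := hx x
    exact ⟨Sigma.ι V x y, by rw [← Scheme.Hom.comp_apply, Sigma.ι_desc]; exact hy⟩⟩
  have hk : IsPullback t.left s.left q.left q.left :=
    ((isPullback_of_isQuotient (Scheme.precoverage P) hq).flip).map (Over.forget S)
  exact hdesc q.left c (pullback.fst s.left L ≫ t.left) (pullback.snd s.left L)
    (hLc ▸ (IsPullback.of_hasPullback s.left L).paste_horiz hk) hc hcs
    (Q.pullback_snd _ _ hs)

end

end GrothLib.GrpdQuot
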