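import Groth.Agent.Lib.GrpdQuot.Chart
import Mathlib.AlgebraicGeometry.Gluing
import Mathlib.AlgebraicGeometry.Limits
import Mathlib.FieldTheory.IsAlgClosed.AlgebraicClosure
import Mathlib.AlgebraicGeometry.ResidueField

/-!
The quotient of a groupoid scheme with finite locally free source map all of whose orbits are
contained in affine opens.
-/

universe u

open CategoryTheory CategoryTheory.Limits AlgebraicGeometry Opposite

namespace GrothLib.GrpdQuot

noncomputable section

variable {S : Scheme.{u}} (G : Grpd.GroupoidScheme S)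
  [IsFinite G.s] [Flat G.s] [LocallyOfFinitePresentation G.s]

/-- The diagram of quotients of invariant affine opens. -/
def diagram : Idx G ⥤ Scheme.{u} where
  obj i := i.obj
  map f := Idx.mapHom (leOfHom f)
  map_id i := by
    apply i.hom_ext
    rw [Idx.π_mapHom, Scheme.homOfLE_rfl, Category.id_comp, Category.comp_id]
  map_comp {i j k} f g := by
    apply i.hom_ext
    rw [Idx.π_mapHom, ← Category.assoc, Idx.π_mapHom, Category.assoc, Idx.π_mapHom,
      Scheme.homOfLE_homOfLE_assoc]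

theorem π_diagram_map {i j : Idx G} (f : i ⟶ j) :
    i.π ≫ (diagram G).map f = G.U.homOfLE (leOfHom f) ≫ j.π :=
  Idx.π_mapHom (leOfHom f)

instance {i j : Idx G} (f : i ⟶ j) : IsOpenImmersion ((diagram G).map f) :=
  isOpenImmersion_mapHom (leOfHom f)

theorem homOfLE_apply' {X : Scheme.{u}} {V W : X.Opens} (h : V ≤ W) (x : V.toScheme) :
    X.homOfLE h x = ⟨x.1, h x.2⟩ := by
  apply W.ι.isOpenEmbedding.injective
  rw [← Scheme.Hom.comp_apply, Scheme.homOfLE_ι]
  rfl

theorem diagram_map_π {i j : Idx G} (f : i ⟶ j) (u : i.1.toScheme) :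
    (diagram G).map f (i.π u) = j.π ⟨u.1, leOfHom f u.2⟩ :=
  ((Scheme.Hom.comp_apply i.π ((diagram G).map f) u).symm.trans
    (congrArg (fun g : i.1.toScheme ⟶ j.obj => g u) (π_diagram_map G f))).trans
    ((Scheme.Hom.comp_apply (G.U.homOfLE (leOfHom f)) j.π u).trans
      (congrArg j.π (homOfLE_apply' (leOfHom f) u)))

instance : ((diagram G) ⋙ Scheme.forget).IsLocallyDirected := by
  constructor
  intro i j k fi fj xi xj hxy
  obtain ⟨u, rfl⟩ := Idx.π_surjective i xi
  obtain ⟨v, rfl⟩ := Idx.π_surjective j xj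
  have huv : k.π ⟨u.1, leOfHom fi u.2⟩ = k.π ⟨v.1, leOfHom fj v.2⟩ :=
    (diagram_map_π G fi u).symm.trans (hxy.trans (diagram_map_π G fj v))
  obtain ⟨r, hrt, hrs⟩ := (k.π_eq_iff _ _).mp huv
  have huj : u.1 ∈ j.1 := by
    have h1 : r ∈ G.s ⁻¹ᵁ j.1 := show G.s r ∈ j.1 from hrs.symm ▸ v.2
    rw [j.2.2] at h1
    exact hrt ▸ h1
  obtain ⟨l, hli, hlj, hul⟩ := exists_idx_le u.1 u.2 huj
  refine ⟨l, homOfLE hli, homOfLE hlj, l.π ⟨u.1, hul⟩, ?_, ?_⟩
  · exact diagram_map_π G (homOfLE hli) ⟨u.1, hul⟩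
  · exact (diagram_map_π G (homOfLE hlj) ⟨u.1, hul⟩).trans ((j.π_eq_iff _ _).mpr ⟨r, hrt, hrs⟩)

/-- The glued quotient. -/
def quotient : Scheme.{u} := colimit (diagram G)

/-- The chart of the glued quotient given by an invariant affine open. -/
def chartι (i : Idx G) : i.obj ⟶ quotient G := colimit.ι (diagram G) i

instance (i : Idx G) : IsOpenImmersion (chartι G i) :=
  inferInstanceAs (IsOpenImmersion (colimit.ι (diagram G) i))

theorem homOfLE_π_chartι {l i : Idx G} (h : l.1 ≤ i.1) :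
    G.U.homOfLE h ≫ i.π ≫ chartι G i = l.π ≫ chartι G l :=
  (Category.assoc _ _ _).symm.trans ((congrArg (fun g : l.1.toScheme ⟶ i.obj => g ≫ chartι G i)
    (π_diagram_map G (homOfLE h : l ⟶ i))).symm.trans ((Category.assoc _ _ _).trans
      (congrArg (l.π ≫ ·) (colimit.w (diagram G) (homOfLE h : l ⟶ i)))))

/-- Every orbit is contained in an affine open. -/
def Covered : Prop :=
  ∀ u : G.U, ∃ V : G.U.Opens, IsAffineOpen V ∧ ∀ r : G.R, G.s r = u → G.t r ∈ V

variable {G}

/-- The cover of the scheme of objects by invariant affine opens. -/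
def objCover (hG : Covered G) : G.U.OpenCover :=
  Scheme.Cover.mkOfCovers (P := @IsOpenImmersion) (Idx G) (fun i => i.1.toScheme) (fun i => i.1.ι)
    (fun u => (exists_idx_mem u (hG u)).elim fun i hi => ⟨i, ⟨u, hi⟩, rfl⟩) (fun _ => inferInstance)

theorem objCover_compat (hG : Covered G) (i j : Idx G) :
    pullback.fst ((objCover hG).f i) ((objCover hG).f j) ≫ i.π ≫ chartι G i =
      pullback.snd ((objCover hG).f i) ((objCover hG).f j) ≫ j.π ≫ chartι G j := by
  have key : ∀ {P : Scheme.{u}} (a : P ⟶ i.1.toScheme) (b : P ⟶ j.1.toScheme),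
      a ≫ i.1.ι = b ≫ j.1.ι → a ≫ i.π ≫ chartι G i = b ≫ j.π ≫ chartι G j := by
    intro P a b hab
    apply Scheme.hom_ext_of_forall
    intro z
    let x : G.U := (a ≫ i.1.ι) z
    have hxi : x ∈ i.1 := (a z).2
    have hxj : x ∈ j.1 := by
      change (a ≫ i.1.ι) z ∈ j.1
      rw [hab]
      exact (b z).2
    obtain ⟨l, hli, hlj, hxl⟩ := exists_idx_le x hxi hxj
    refine ⟨(a ≫ i.1.ι) ⁻¹ᵁ l.1, hxl, ?_⟩
    let m := ((a ≫ i.1.ι).resLE l.1 ((a ≫ i.1.ι) ⁻¹ᵁ l.1) le_rfl)
    have hm₁ : m ≫ G.U.homOfLE hli = ((a ≫ i.1.ι) ⁻¹ᵁ l.1).ι ≫ a := by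
      rw [← cancel_mono i.1.ι, Category.assoc, Scheme.homOfLE_ι, Category.assoc,
        Scheme.Hom.resLE_comp_ι]
    have hm₂ : m ≫ G.U.homOfLE hlj = ((a ≫ i.1.ι) ⁻¹ᵁ l.1).ι ≫ b := by
      rw [← cancel_mono j.1.ι, Category.assoc, Scheme.homOfLE_ι, Category.assoc,
        Scheme.Hom.resLE_comp_ι, hab]
    rw [← Category.assoc, ← hm₁, ← Category.assoc _ b, ← hm₂, Category.assoc, Category.assoc,
      homOfLE_π_chartι, homOfLE_π_chartι]
  exact key _ _ pullback.condition

/-- The quotient map. -/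
def quotientπ (hG : Covered G) : G.U ⟶ quotient G :=
  (objCover hG).glueMorphisms (fun i => i.π ≫ chartι G i) (objCover_compat hG)

variable (hG : Covered G)

theorem ι_quotientπ (i : Idx G) : i.1.ι ≫ quotientπ hG = i.π ≫ chartι G i :=
  (objCover hG).ι_glueMorphisms _ _ i

theorem quotientπ_apply (i : Idx G) (x : G.U) (hx : x ∈ i.1) :
    quotientπ hG x = chartι G i (i.π ⟨x, hx⟩) := by
  change quotientπ hG (i.1.ι ⟨x, hx⟩) = _
  exact (Scheme.Hom.comp_apply i.1.ι (quotientπ hG) ⟨x, hx⟩).symm.trans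
    ((congrArg (fun g : i.1.toScheme ⟶ quotient G => g ⟨x, hx⟩) (ι_quotientπ hG i)).trans
      (Scheme.Hom.comp_apply _ _ _))

theorem quotientπ_condition : G.t ≫ quotientπ hG = G.s ≫ quotientπ hG := by
  apply Scheme.hom_ext_of_forall
  intro r
  obtain ⟨i, hi⟩ := exists_idx_mem (G.s r) (hG _)
  refine ⟨G.s ⁻¹ᵁ i.1, hi, ?_⟩
  rw [← Category.assoc, ← Category.assoc, ← tRes_ι G i.1 i.2.2, ← sRes_ι G i.1, Category.assoc,
    Category.assoc, ι_quotientπ, ← Category.assoc, ← Category.assoc]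
  congr 1
  exact t_toQuot i.grpd

theorem quotientπ_eq_iff (x y : G.U) :
    quotientπ hG x = quotientπ hG y ↔ ∃ r : G.R, G.t r = x ∧ G.s r = y := by
  refine ⟨fun h => ?_, fun ⟨r, hrt, hrs⟩ => ?_⟩
  · obtain ⟨i, hi⟩ := exists_idx_mem x (hG x)
    obtain ⟨j, hj⟩ := exists_idx_mem y (hG y)
    rw [quotientπ_apply hG i x hi, quotientπ_apply hG j y hj] at h
    obtain ⟨k, fi, fj, c, hci, hcj⟩ := (Scheme.IsLocallyDirected.ι_eq_ι_iff (diagram G)).mp h
    obtain ⟨z, rfl⟩ := Idx.π_surjective k c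
    replace hci := (diagram_map_π G fi z).symm.trans hci
    replace hcj := (diagram_map_π G fj z).symm.trans hcj
    obtain ⟨r₁, hr₁t, hr₁s⟩ := (i.π_eq_iff _ _).mp hci.symm
    obtain ⟨r₂, hr₂t, hr₂s⟩ := (j.π_eq_iff _ _).mp hcj
    obtain ⟨q, hqt, hqs⟩ := exists_comp_pt G (a := r₁) (b := r₂) (hr₁s.trans hr₂t.symm)
    exact ⟨q, hqt.trans hr₁t, hqs.trans hr₂s⟩
  · rw [← hrt, ← hrs, ← Scheme.Hom.comp_apply, ← Scheme.Hom.comp_apply, quotientπ_condition]

theorem quotientπ_surjective : Function.Surjective (quotientπ hG) := by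
  intro c
  obtain ⟨i, ci, rfl⟩ := Scheme.IsLocallyDirected.ι_jointly_surjective (diagram G) c
  obtain ⟨x, rfl⟩ := Idx.π_surjective i ci
  exact ⟨x.1, quotientπ_apply hG i x.1 x.2⟩

theorem preimage_opensRange (i : Idx G) : quotientπ hG ⁻¹ᵁ (chartι G i).opensRange = i.1 := by
  ext x
  refine ⟨fun hx => ?_, fun hx => ⟨_, (quotientπ_apply hG i x hx).symm⟩⟩
  obtain ⟨c, hc⟩ := hx
  obtain ⟨w, rfl⟩ := i.π_surjective c
  have he : quotientπ hG x = quotientπ hG w.1 := hc.symm.trans (quotientπ_apply hG i w.1 w.2).symm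
  obtain ⟨r, hrt, hrs⟩ := (quotientπ_eq_iff hG x w.1).mp he
  have h1 : r ∈ G.s ⁻¹ᵁ i.1 := show G.s r ∈ i.1 from hrs.symm ▸ w.2
  rw [i.2.2] at h1
  exact hrt ▸ h1

theorem isPullback_chart (i : Idx G) : IsPullback i.π i.1.ι (chartι G i) (quotientπ hG) :=
  IsOpenImmersion.isPullback i.π i.1.ι (chartι G i) (quotientπ hG) (ι_quotientπ hG i) (by
    rw [preimage_opensRange, Scheme.Opens.opensRange_ι])

theorem prop_quotientπ (P : MorphismProperty Scheme.{u}) [IsZariskiLocalAtTarget P]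
    (h : ∀ i : Idx G, P i.π) : P (quotientπ hG) := by
  refine IsZariskiLocalAtTarget.of_openCover (Scheme.IsLocallyDirected.openCover (diagram G)) fun i => ?_
  exact (P.cancel_left_of_respectsIso ((isPullback_chart hG i).flip.isoPullback.hom) _).mp
    (by
      change P ((isPullback_chart hG i).flip.isoPullback.hom ≫ pullback.snd (quotientπ hG) (chartι G i))
      rw [IsPullback.isoPullback_hom_snd]
      exact h i)

set_option backward.isDefEq.respectTransparency.types false in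
theorem isIntegralHom_quotientπ : IsIntegralHom (quotientπ hG) :=
  prop_quotientπ hG @IsIntegralHom fun i => i.isIntegralHom_π

theorem quotientπ_isOpenMap : IsOpenMap (quotientπ hG) := by
  intro Ω hΩ
  rw [isOpen_iff_forall_mem_open]
  rintro _ ⟨x, hx, rfl⟩
  obtain ⟨i, hi⟩ := exists_idx_mem x (hG x)
  refine ⟨chartι G i '' (i.π '' (Subtype.val ⁻¹' Ω)), ?_,
    (chartι G i).isOpenEmbedding.isOpenMap _ (isOpen_π_image (hΩ.preimage i.1.ι.continuous)),
    ⟨_, ⟨⟨x, hi⟩, hx, rfl⟩, (quotientπ_apply hG i x hi).symm⟩⟩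
  rintro _ ⟨_, ⟨w, hw, rfl⟩, rfl⟩
  exact ⟨w.1, hw, quotientπ_apply hG i w.1 w.2⟩

theorem quotientπ_hom_ext {X : Scheme.{u}} (g g' : quotient G ⟶ X)
    (h : quotientπ hG ≫ g = quotientπ hG ≫ g') : g = g' := by
  apply colimit.hom_ext
  intro i
  change chartι G i ≫ g = chartι G i ≫ g'
  apply Idx.hom_ext
  rw [← Category.assoc, ← Category.assoc, ← ι_quotientπ hG i, Category.assoc, Category.assoc, h]

theorem exists_desc_quotientπ {X : Scheme.{u}} (f : G.U ⟶ X) (hf : G.t ≫ f = G.s ≫ f) :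
    ∃ g, quotientπ hG ≫ g = f := by
  have hd : ∀ i : Idx G, ∃ g, i.π ≫ g = i.1.ι ≫ f := fun i => i.exists_desc _ fun T a b r ha hb => by
    rw [← Category.assoc, ← Category.assoc, ← ha, ← hb, Category.assoc, Category.assoc, hf]
  choose g hg using hd
  let c : Cocone (diagram G) :=
    { pt := X
      ι := { app := g
             naturality := fun i j fij => by
               apply i.hom_ext
               change i.π ≫ (diagram G).map fij ≫ g j = i.π ≫ g i ≫ 𝟙 X
               refine ((Category.assoc _ _ _).symm.trans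
                 ((congrArg (fun m : i.1.toScheme ⟶ j.obj => m ≫ g j) (π_diagram_map G fij)).trans
                   ((Category.assoc _ _ _).trans (congrArg (G.U.homOfLE (leOfHom fij) ≫ ·) (hg j))))).trans ?_
               rw [Category.comp_id, hg, Scheme.homOfLE_ι_assoc] } }
  refine ⟨colimit.desc _ c, ?_⟩
  apply Scheme.hom_ext_of_forall
  intro x
  obtain ⟨i, hi⟩ := exists_idx_mem x (hG x)
  refine ⟨i.1, hi, ?_⟩
  exact ((Category.assoc _ _ _).symm.trans ((congrArg (fun m : i.1.toScheme ⟶ quotient G => m ≫ colimit.desc (diagram G) c)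
    (ι_quotientπ hG i)).trans (Category.assoc _ _ _))).trans
    ((congrArg (i.π ≫ ·) (colimit.ι_desc c i)).trans (hg i))

/-- The glued quotient is a coequalizer. -/
def isColimitQuotient : IsColimit (Cofork.ofπ (quotientπ hG) (quotientπ_condition hG)) :=
  Cofork.IsColimit.mk _ (fun c => (exists_desc_quotientπ hG c.π c.condition).choose)
    (fun c => (exists_desc_quotientπ hG c.π c.condition).choose_spec)
    fun c m hm => quotientπ_hom_ext hG _ _ (hm.trans (exists_desc_quotientπ hG c.π c.condition).choose_spec.symm)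

include hG in
theorem isAffine_quotient [IsAffine G.U] : IsAffine (quotient G) := by
  let i : Idx G := ⟨⊤, isAffineOpen_top G.U, rfl⟩
  haveI : Surjective (chartι G i) := ⟨fun c => by
    obtain ⟨x, rfl⟩ := quotientπ_surjective hG c
    exact ⟨_, (quotientπ_apply hG i x trivial).symm⟩⟩
  haveI := isIso_iff_isOpenImmersion_and_surjective (f := chartι G i) |>.mpr ⟨inferInstance, inferInstance⟩
  exact .of_isIso (inv (chartι G i))

theorem surjective_pullback_lift :
    Function.Surjective (pullback.lift G.t G.s (quotientπ_condition hG)) := by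
  intro z
  let K : Type u := AlgebraicClosure ((pullback (quotientπ hG) (quotientπ hG)).residueField z)
  let ζ : Spec (CommRingCat.of K) ⟶ pullback (quotientπ hG) (quotientπ hG) :=
    Spec.map (CommRingCat.ofHom
      (algebraMap ((pullback (quotientπ hG) (quotientπ hG)).residueField z : Type u) K)) ≫
      (pullback (quotientπ hG) (quotientπ hG)).fromSpecResidueField z
  have hζ : ∀ pt, ζ pt = z := fun pt => by
    rw [Scheme.Hom.comp_apply]
    exact Scheme.fromSpecResidueField_apply _ _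
  clear_value ζ
  obtain ⟨i, hi⟩ := exists_idx_mem (pullback.fst (quotientπ hG) (quotientπ hG) z) (hG _)
  have hi' : pullback.snd (quotientπ hG) (quotientπ hG) z ∈ i.1 := by
    have h1 : quotientπ hG (pullback.fst (quotientπ hG) (quotientπ hG) z) ∈
        (chartι G i).opensRange := by
      rw [← preimage_opensRange hG i] at hi
      exact hi
    rw [← preimage_opensRange hG i]
    show quotientπ hG (pullback.snd (quotientπ hG) (quotientπ hG) z) ∈ (chartι G i).opensRange
    rwa [← Scheme.Hom.comp_apply, ← pullback.condition, Scheme.Hom.comp_apply]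
  have h₀r : Set.range (ζ ≫ pullback.fst _ _) ⊆ Set.range i.1.ι := by
    rintro _ ⟨pt, rfl⟩
    rw [Scheme.Opens.range_ι, Scheme.Hom.comp_apply, hζ]
    exact hi
  have h₁r : Set.range (ζ ≫ pullback.snd _ _) ⊆ Set.range i.1.ι := by
    rintro _ ⟨pt, rfl⟩
    rw [Scheme.Opens.range_ι, Scheme.Hom.comp_apply, hζ]
    exact hi'
  let x₀ := IsOpenImmersion.lift i.1.ι _ h₀r
  let x₁ := IsOpenImmersion.lift i.1.ι _ h₁r
  have heq : x₀ ≫ i.π = x₁ ≫ i.π := by
    rw [← cancel_mono (chartι G i), Category.assoc, Category.assoc, ← ι_quotientπ hG i, ← Category.assoc,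
      ← Category.assoc, IsOpenImmersion.lift_fac, IsOpenImmersion.lift_fac, Category.assoc,
      Category.assoc, pullback.condition]
  obtain ⟨r, hrt, hrs⟩ := (comp_toQuot_eq_iff i.grpd x₀ x₁).mp heq
  let rR : Spec (CommRingCat.of K) ⟶ G.R := r ≫ (G.s ⁻¹ᵁ i.1).ι
  have ht : rR ≫ G.t = ζ ≫ pullback.fst _ _ := by
    rw [← IsOpenImmersion.lift_fac i.1.ι _ h₀r]
    change _ = x₀ ≫ i.1.ι
    rw [← hrt]
    exact (Category.assoc _ _ _).trans ((congrArg (r ≫ ·) (tRes_ι G i.1 i.2.2).symm).trans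
      (Category.assoc _ _ _).symm)
  have hs : rR ≫ G.s = ζ ≫ pullback.snd _ _ := by
    rw [← IsOpenImmersion.lift_fac i.1.ι _ h₁r]
    change _ = x₁ ≫ i.1.ι
    rw [← hrs]
    exact (Category.assoc _ _ _).trans ((congrArg (r ≫ ·) (sRes_ι G i.1).symm).trans
      (Category.assoc _ _ _).symm)
  have hl : rR ≫ pullback.lift G.t G.s (quotientπ_condition hG) = ζ := by
    apply pullback.hom_ext
    · rw [Category.assoc, pullback.lift_fst, ht]
    · rw [Category.assoc, pullback.lift_snd, hs]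
  obtain ⟨pt⟩ : Nonempty (Spec (CommRingCat.of K) : Scheme.{u}) :=
    inferInstanceAs (Nonempty (PrimeSpectrum K))
  exact ⟨rR pt, by rw [← Scheme.Hom.comp_apply, hl, hζ]⟩

end

end GrothLib.GrpdQuot
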