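import Groth.Agent.Lib.GrpdQuot.Points

/-!
Restriction of a groupoid scheme along a monomorphism to the objects.
-/

universe u

open CategoryTheory CategoryTheory.Limits AlgebraicGeometry

namespace GrothLib.GrpdQuot

open GrothLib.GrpSchField (cmp cmp_congr comp_cmp)

noncomputable section

variable {S : Scheme.{u}} (G : Grpd.GroupoidScheme S) {U' : Scheme.{u}} (u : U' ⟶ G.U)

/-- The arrows with target in `U'`. -/
abbrev arrTo : Scheme.{u} := pullback G.t u

/-- The source map on arrows with target in `U'`. -/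
def arrToS : arrTo G u ⟶ G.U := pullback.fst G.t u ≫ G.s

/-- The arrows with source and target in `U'`. -/
def arrIn : Scheme.{u} := pullback (arrToS G u) u

/-- The inclusion of the arrows with source and target in `U'`. -/
def arrInι : arrIn G u ⟶ G.R := pullback.fst (arrToS G u) u ≫ pullback.fst G.t u

/-- The source of an arrow with source and target in `U'`. -/
def arrInS : arrIn G u ⟶ U' := pullback.snd (arrToS G u) u

/-- The target of an arrow with source and target in `U'`. -/
def arrInT : arrIn G u ⟶ U' := pullback.fst (arrToS G u) u ≫ pullback.snd G.t u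

@[reassoc]
theorem arrInι_s : arrInι G u ≫ G.s = arrInS G u ≫ u :=
  (Category.assoc _ _ _).trans pullback.condition

@[reassoc]
theorem arrInι_t : arrInι G u ≫ G.t = arrInT G u ≫ u :=
  (Category.assoc _ _ _).trans
    ((congrArg (pullback.fst (arrToS G u) u ≫ ·) pullback.condition).trans (Category.assoc _ _ _).symm)

/-- An arrow with source and target in `U'`, given by its components. -/
def arrInMk {T : Scheme.{u}} (r : T ⟶ G.R) (a b : T ⟶ U') (ha : r ≫ G.t = a ≫ u)
    (hb : r ≫ G.s = b ≫ u) : T ⟶ arrIn G u :=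
  pullback.lift (pullback.lift r a ha) b
    ((Category.assoc _ _ _).symm.trans ((congrArg (· ≫ G.s) (pullback.lift_fst r a ha)).trans hb))

@[reassoc (attr := simp)]
theorem arrInMk_ι {T : Scheme.{u}} (r : T ⟶ G.R) (a b : T ⟶ U') (ha : r ≫ G.t = a ≫ u)
    (hb : r ≫ G.s = b ≫ u) : arrInMk G u r a b ha hb ≫ arrInι G u = r := by
  simp only [arrInMk, arrInι]
  exact (pullback.lift_fst_assoc _ _ _ _).trans (pullback.lift_fst r a ha)

@[reassoc (attr := simp)]
theorem arrInMk_t {T : Scheme.{u}} (r : T ⟶ G.R) (a b : T ⟶ U') (ha : r ≫ G.t = a ≫ u)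
    (hb : r ≫ G.s = b ≫ u) : arrInMk G u r a b ha hb ≫ arrInT G u = a := by
  simp only [arrInMk, arrInT]
  exact (pullback.lift_fst_assoc _ _ _ _).trans (pullback.lift_snd r a ha)

@[reassoc (attr := simp)]
theorem arrInMk_s {T : Scheme.{u}} (r : T ⟶ G.R) (a b : T ⟶ U') (ha : r ≫ G.t = a ≫ u)
    (hb : r ≫ G.s = b ≫ u) : arrInMk G u r a b ha hb ≫ arrInS G u = b :=
  pullback.lift_snd _ _ _

variable [Mono u]

instance mono_arrInι : Mono (arrInι G u) := by
  exact @mono_comp _ _ _ _ _ (pullback.fst (arrToS G u) u)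
    (IsPullback.of_hasPullback (arrToS G u) u).mono_fst_of_mono (pullback.fst G.t u) inferInstance

theorem arrIn_cond {T : Scheme.{u}} {α β : T ⟶ arrIn G u}
    (h : α ≫ arrInS G u = β ≫ arrInT G u) :
    (α ≫ arrInι G u) ≫ G.s = (β ≫ arrInι G u) ≫ G.t := by
  rw [Category.assoc, Category.assoc, arrInι_s, arrInι_t, reassoc_of% h]

/-- Composition of arrows with source and target in `U'`. -/
def arrInC : pullback (arrInS G u) (arrInT G u) ⟶ arrIn G u :=
  arrInMk G u (cmp G (pullback.fst _ _ ≫ arrInι G u) (pullback.snd _ _ ≫ arrInι G u)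
      (arrIn_cond G u pullback.condition))
    (pullback.fst _ _ ≫ arrInT G u) (pullback.snd _ _ ≫ arrInS G u)
    (by rw [cmp_t, Category.assoc, Category.assoc, arrInι_t])
    (by rw [cmp_s, Category.assoc, Category.assoc, arrInι_s])

theorem arrInC_ι {T : Scheme.{u}} (α β : T ⟶ arrIn G u) (h : α ≫ arrInS G u = β ≫ arrInT G u) :
    (pullback.lift α β h ≫ arrInC G u) ≫ arrInι G u =
      cmp G (α ≫ arrInι G u) (β ≫ arrInι G u) (arrIn_cond G u h) := by
  rw [Category.assoc, arrInC, arrInMk_ι, comp_cmp]
  exact cmp_congr G _ (pullback.lift_fst_assoc _ _ _ _) (pullback.lift_snd_assoc _ _ _ _)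

/-- The restriction of a groupoid scheme along a monomorphism to the objects. -/
def restrictMono : Grpd.GroupoidScheme S where
  U := U'
  R := arrIn G u
  pU := u ≫ G.pU
  pR := arrInι G u ≫ G.pR
  s := arrInS G u
  t := arrInT G u
  e := arrInMk G u (u ≫ G.e) (𝟙 _) (𝟙 _)
    (by rw [Category.assoc, G.e_t, Category.comp_id, Category.id_comp])
    (by rw [Category.assoc, G.e_s, Category.comp_id, Category.id_comp])
  i := arrInMk G u (arrInι G u ≫ G.i) (arrInS G u) (arrInT G u)
    (by rw [Category.assoc, G.i_t, arrInι_s]) (by rw [Category.assoc, G.i_s, arrInι_t])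
  c := arrInC G u
  s_over := by rw [← arrInι_s_assoc, G.s_over]
  t_over := by rw [← arrInι_t_assoc, G.t_over]
  comp_s α β h := by
    rw [← cancel_mono u, Category.assoc, ← arrInι_s, ← Category.assoc, arrInC_ι, cmp_s,
      Category.assoc, arrInι_s, Category.assoc]
  comp_t α β h := by
    rw [← cancel_mono u, Category.assoc, ← arrInι_t, ← Category.assoc, arrInC_ι, cmp_t,
      Category.assoc, arrInι_t, Category.assoc]
  assoc α β γ h₁ h₂ := by
    rw [← cancel_mono (arrInι G u)]
    refine (arrInC_ι G u _ _ _).trans ?_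
    refine (cmp_congr G _ (arrInC_ι G u α β h₁) rfl).trans ?_
    refine (G.assoc _ _ _ (arrIn_cond G u h₁) (arrIn_cond G u h₂)).trans ?_
    refine (cmp_congr G _ rfl (arrInC_ι G u β γ h₂).symm).trans ?_
    exact (arrInC_ι G u _ _ _).symm
  e_s := arrInMk_s _ _ _ _ _ _ _
  e_t := arrInMk_t _ _ _ _ _ _ _
  comp_e α := by
    rw [← cancel_mono (arrInι G u), arrInC_ι]
    refine (cmp_congr G _ rfl ?_).trans (G.comp_e _)
    simp only [Category.assoc, arrInMk_ι, arrInι_s_assoc]
  e_comp α := by
    rw [← cancel_mono (arrInι G u), arrInC_ι]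
    refine (cmp_congr G _ ?_ rfl).trans (G.e_comp _)
    simp only [Category.assoc, arrInMk_ι, arrInι_t_assoc]
  i_s := arrInMk_s _ _ _ _ _ _ _
  i_t := arrInMk_t _ _ _ _ _ _ _
  comp_i α := by
    rw [← cancel_mono (arrInι G u), arrInC_ι]
    refine (cmp_congr G _ rfl (by rw [Category.assoc, arrInMk_ι, ← Category.assoc])).trans
      ((G.comp_i _).trans ?_)
    simp only [Category.assoc, arrInMk_ι, arrInι_t_assoc]
  i_comp α := by
    rw [← cancel_mono (arrInι G u), arrInC_ι]
    refine (cmp_congr G _ (by rw [Category.assoc, arrInMk_ι, ← Category.assoc]) rfl).trans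
      ((G.i_comp _).trans ?_)
    simp only [Category.assoc, arrInMk_ι, arrInι_s_assoc]

theorem mono_restrictMono_j [Mono G.j] : Mono (restrictMono G u).j := by
  constructor
  intro Z a b hab
  change Z ⟶ arrIn G u at a b
  have ht : a ≫ arrInT G u = b ≫ arrInT G u := by
    have h := congrArg (· ≫ pullback.fst (restrictMono G u).pU (restrictMono G u).pU) hab
    exact ((congrArg (a ≫ ·) (pullback.lift_fst _ _ _)).symm.trans
      ((Category.assoc _ _ _).symm.trans (h.trans (Category.assoc _ _ _)))).trans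
      (congrArg (b ≫ ·) (pullback.lift_fst _ _ _))
  have hs : a ≫ arrInS G u = b ≫ arrInS G u := by
    have h := congrArg (· ≫ pullback.snd (restrictMono G u).pU (restrictMono G u).pU) hab
    exact ((congrArg (a ≫ ·) (pullback.lift_snd _ _ _)).symm.trans
      ((Category.assoc _ _ _).symm.trans (h.trans (Category.assoc _ _ _)))).trans
      (congrArg (b ≫ ·) (pullback.lift_snd _ _ _))
  apply (cancel_mono (arrInι G u)).mp
  apply (cancel_mono G.j).mp
  apply pullback.hom_ext
  · simp only [Category.assoc, Grpd.GroupoidScheme.j, pullback.lift_fst, arrInι_t, reassoc_of% ht]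
  · simp only [Category.assoc, Grpd.GroupoidScheme.j, pullback.lift_snd, arrInι_s, reassoc_of% hs]

end

end GrothLib.GrpdQuot
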