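import Groth.Agent.Lib.GrpdQuot.GlueMono
import Groth.Agent.Lib.GrpdQuot.RestrictMono
import Groth.Agent.Lib.LocProp.Descend
import Mathlib.AlgebraicGeometry.Sites.Fpqc
import Mathlib.AlgebraicGeometry.Morphisms.UniversallyClosed
import Mathlib.AlgebraicGeometry.Morphisms.Immersion

/-!
The quotient of a groupoid scheme with a quasi-section.
-/

universe u

open CategoryTheory CategoryTheory.Limits AlgebraicGeometry

namespace GrothLib.GrpdQuot

open GrothLib.GrpSchField (cmp cmp_congr comp_cmp)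

noncomputable section

variable {S : Scheme.{u}} (G : Grpd.GroupoidScheme S) {U' : Scheme.{u}} (u : U' ⟶ G.U) [Mono u]

/-- The data of a quasi-section. -/
structure IsQuasiSection : Prop where
  finite : IsFinite (arrToS G u)
  flat : Flat (arrToS G u)
  fp : LocallyOfFinitePresentation (arrToS G u)
  surj : Surjective (arrToS G u)
  covered : ∀ E : Set U', (∀ x ∈ E, ∀ y ∈ E, ∃ r : G.R, G.t r = u x ∧ G.s r = u y) →
    ∃ W : U'.Opens, IsAffineOpen W ∧ E ⊆ (W : Set U')

variable {G u}

theorem IsQuasiSection.finite_s (h : IsQuasiSection G u) : IsFinite (restrictMono G u).s :=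
  MorphismProperty.of_isPullback (IsPullback.of_hasPullback (arrToS G u) u) h.finite

theorem IsQuasiSection.flat_s (h : IsQuasiSection G u) : Flat (restrictMono G u).s :=
  MorphismProperty.of_isPullback (IsPullback.of_hasPullback (arrToS G u) u) h.flat

theorem IsQuasiSection.fp_s (h : IsQuasiSection G u) :
    LocallyOfFinitePresentation (restrictMono G u).s :=
  MorphismProperty.of_isPullback (IsPullback.of_hasPullback (arrToS G u) u) h.fp

theorem restrictMono_arr_pts (r : arrIn G u) :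
    G.t (arrInι G u r) = u (arrInT G u r) ∧ G.s (arrInι G u r) = u (arrInS G u r) := by
  constructor
  · rw [← Scheme.Hom.comp_apply, arrInι_t, Scheme.Hom.comp_apply]
  · rw [← Scheme.Hom.comp_apply, arrInι_s, Scheme.Hom.comp_apply]

theorem IsQuasiSection.covered' (h : IsQuasiSection G u) : Covered (restrictMono G u) := by
  intro x
  obtain ⟨W, hW, hE⟩ := h.covered {y | ∃ r : arrIn G u, arrInS G u r = x ∧ arrInT G u r = y} (by
    rintro a ⟨r, hrx, rfl⟩ b ⟨q, hqx, rfl⟩
    obtain ⟨hrt, hrs⟩ := restrictMono_arr_pts r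
    obtain ⟨hqt, hqs⟩ := restrictMono_arr_pts q
    obtain ⟨q', hq't, hq's⟩ := exists_inv_pt G (arrInι G u q)
    have hm : G.s (arrInι G u r) = G.t q' := by rw [hq't, hqs, hrs, hrx, hqx]
    obtain ⟨m, hmt, hms⟩ := exists_comp_pt G hm
    exact ⟨m, hmt.trans hrt, hms.trans (hq's.trans hqt)⟩)
  exact ⟨W, hW, fun r hr => hE ⟨r, hr, rfl⟩⟩

variable (h : IsQuasiSection G u)

/-- The quotient by a groupoid with a quasi-section. -/
def qsQuot : Scheme.{u} :=
  haveI := h.finite_s
  haveI := h.flat_s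
  haveI := h.fp_s
  quotient (restrictMono G u)

/-- The quotient map on the quasi-section. -/
def qsπ : U' ⟶ qsQuot h :=
  haveI := h.finite_s
  haveI := h.flat_s
  haveI := h.fp_s
  quotientπ h.covered'

theorem surjective_qsπ : Surjective (qsπ h) :=
  haveI := h.finite_s
  haveI := h.flat_s
  haveI := h.fp_s
  ⟨quotientπ_surjective h.covered'⟩

theorem isOpenMap_qsπ : IsOpenMap (qsπ h) :=
  haveI := h.finite_s
  haveI := h.flat_s
  haveI := h.fp_s
  quotientπ_isOpenMap h.covered'

theorem isIntegralHom_qsπ : IsIntegralHom (qsπ h) :=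
  haveI := h.finite_s
  haveI := h.flat_s
  haveI := h.fp_s
  isIntegralHom_quotientπ h.covered'

theorem qsπ_condition : arrInT G u ≫ qsπ h = arrInS G u ≫ qsπ h :=
  haveI := h.finite_s
  haveI := h.flat_s
  haveI := h.fp_s
  quotientπ_condition h.covered'

theorem qsπ_hom_ext {X : Scheme.{u}} (g g' : qsQuot h ⟶ X) (hg : qsπ h ≫ g = qsπ h ≫ g') : g = g' :=
  haveI := h.finite_s
  haveI := h.flat_s
  haveI := h.fp_s
  quotientπ_hom_ext h.covered' g g' hg

theorem exists_desc_qsπ {X : Scheme.{u}} (f : U' ⟶ X) (hf : arrInT G u ≫ f = arrInS G u ≫ f) :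
    ∃ g, qsπ h ≫ g = f :=
  haveI := h.finite_s
  haveI := h.flat_s
  haveI := h.fp_s
  exists_desc_quotientπ h.covered' f hf

theorem surjective_qsπ_lift :
    Function.Surjective (pullback.lift (arrInT G u) (arrInS G u) (qsπ_condition h)) :=
  haveI := h.finite_s
  haveI := h.flat_s
  haveI := h.fp_s
  surjective_pullback_lift h.covered'

theorem mono_facts_qsπ [Mono G.j] :
    IsPullback (arrInT G u) (arrInS G u) (qsπ h) (qsπ h) ∧ Flat (qsπ h) :=
  haveI := h.finite_s
  haveI := h.flat_s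
  haveI := h.fp_s
  haveI : Mono (restrictMono G u).j := mono_restrictMono_j G u
  ⟨isPullback_quotientπ h.covered', (isFinLocFree_quotientπ h.covered').2.1⟩

theorem arrTo_linked {T : Scheme.{u}} (a b : T ⟶ arrTo G u) (hab : a ≫ arrToS G u = b ≫ arrToS G u) :
    a ≫ pullback.snd G.t u ≫ qsπ h = b ≫ pullback.snd G.t u ≫ qsπ h := by
  let r : T ⟶ G.R := cmp G (a ≫ pullback.fst G.t u) ((b ≫ pullback.fst G.t u) ≫ G.i)
    (by
      rw [Category.assoc _ G.i G.t, G.i_t, Category.assoc, Category.assoc]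
      exact hab)
  let k : T ⟶ arrIn G u := arrInMk G u r (a ≫ pullback.snd G.t u) (b ≫ pullback.snd G.t u)
    (by rw [cmp_t, Category.assoc, Category.assoc, pullback.condition])
    (by rw [cmp_s, Category.assoc, G.i_s, Category.assoc, Category.assoc, pullback.condition])
  have hk := congrArg (k ≫ ·) (qsπ_condition h)
  simp only [k, arrInMk_t_assoc, arrInMk_s_assoc, Category.assoc] at hk
  exact hk

theorem exists_qsProj : ∃ p : G.U ⟶ qsQuot h, arrToS G u ≫ p = pullback.snd G.t u ≫ qsπ h := by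
  haveI := h.flat
  haveI := h.fp
  haveI := h.surj
  exact ⟨EffectiveEpi.desc (arrToS G u) (pullback.snd G.t u ≫ qsπ h)
      fun a b hab => arrTo_linked h a b hab,
    EffectiveEpi.fac _ _ _⟩

/-- The quotient map. -/
def qsProj : G.U ⟶ qsQuot h := (exists_qsProj h).choose

@[reassoc]
theorem arrToS_qsProj : arrToS G u ≫ qsProj h = pullback.snd G.t u ≫ qsπ h :=
  (exists_qsProj h).choose_spec

theorem u_qsProj : u ≫ qsProj h = qsπ h := by
  let v : U' ⟶ arrTo G u := pullback.lift (u ≫ G.e) (𝟙 U')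
    (by rw [Category.assoc, G.e_t, Category.comp_id, Category.id_comp])
  have hv : v ≫ arrToS G u = u := by
    simp only [v, arrToS, pullback.lift_fst_assoc, Category.assoc, G.e_s, Category.comp_id]
  refine (congrArg (· ≫ qsProj h) hv).symm.trans ?_
  rw [Category.assoc, arrToS_qsProj, ← Category.assoc, pullback.lift_snd, Category.id_comp]

theorem qsProj_condition : G.t ≫ qsProj h = G.s ≫ qsProj h := by
  haveI := h.flat
  haveI := h.fp
  haveI := h.surj
  let ρ : pullback G.s (arrToS G u) ⟶ G.R := pullback.fst G.s (arrToS G u)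
  let v : pullback G.s (arrToS G u) ⟶ arrTo G u := pullback.snd G.s (arrToS G u)
  have hρv : ρ ≫ G.s = (v ≫ pullback.fst G.t u) ≫ G.s :=
    pullback.condition.trans (Category.assoc _ _ _).symm
  let v₁ : pullback G.s (arrToS G u) ⟶ arrTo G u :=
    pullback.lift (cmp G (v ≫ pullback.fst G.t u) (ρ ≫ G.i)
      (by rw [Category.assoc ρ, G.i_t, hρv])) (v ≫ pullback.snd G.t u)
      (by rw [cmp_t, Category.assoc, Category.assoc, pullback.condition])
  have h₁ : v₁ ≫ arrToS G u = ρ ≫ G.t := by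
    simp only [v₁, arrToS, pullback.lift_fst_assoc]
    rw [cmp_s]
    exact (Category.assoc _ _ _).trans (congrArg (ρ ≫ ·) G.i_s)
  rw [← cancel_epi (pullback.fst G.s (arrToS G u))]
  calc ρ ≫ G.t ≫ qsProj h = v₁ ≫ arrToS G u ≫ qsProj h := by rw [reassoc_of% h₁]
    _ = v ≫ arrToS G u ≫ qsProj h := by
        rw [arrToS_qsProj]
        simp only [v₁, pullback.lift_snd_assoc, Category.assoc]
    _ = ρ ≫ G.s ≫ qsProj h := (pullback.condition_assoc _).symm

/-- The quotient map is a coequalizer. -/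
def isColimitQsProj : IsColimit (Cofork.ofπ (qsProj h) (qsProj_condition h)) :=
  haveI := h.flat
  haveI := h.fp
  haveI := h.surj
  have hd : ∀ (X : Scheme.{u}) (f : G.U ⟶ X), G.t ≫ f = G.s ≫ f → ∃ g, qsProj h ≫ g = f := by
    intro X f hf
    obtain ⟨g, hg⟩ := exists_desc_qsπ h (u ≫ f) (by rw [← arrInι_t_assoc, hf, arrInι_s_assoc])
    refine ⟨g, ?_⟩
    rw [← cancel_epi (arrToS G u), arrToS_qsProj_assoc, hg, ← pullback.condition_assoc, hf]
    exact (Category.assoc _ _ _).symm
  Cofork.IsColimit.mk _ (fun c => (hd _ c.π c.condition).choose)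
    (fun c => (hd _ c.π c.condition).choose_spec)
    fun c m hm => qsπ_hom_ext h _ _ (by
      rw [← u_qsProj h, Category.assoc, Category.assoc, (hd _ c.π c.condition).choose_spec]
      exact congrArg (u ≫ ·) hm)

theorem surjective_qsProj : Surjective (qsProj h) := by
  haveI := surjective_qsπ h
  haveI : Surjective (u ≫ qsProj h) := by rw [u_qsProj]; infer_instance
  exact .of_comp u (qsProj h)

omit [Mono u] in
theorem isOpenMap_snd [IsPreimmersion u] (ht : IsOpenMap G.t) : IsOpenMap (pullback.snd G.t u) := by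
  intro Ω hΩ
  obtain ⟨O, hO, rfl⟩ := (pullback.fst G.t u).isEmbedding.isInducing.isOpen_iff.mp hΩ
  convert (ht O hO).preimage u.continuous using 1
  ext x
  constructor
  · rintro ⟨v, hv, rfl⟩
    exact ⟨_, hv, by rw [← Scheme.Hom.comp_apply, pullback.condition, Scheme.Hom.comp_apply]⟩
  · rintro ⟨r, hr, hrx⟩
    obtain ⟨v, hv₁, hv₂⟩ := Scheme.Pullback.exists_preimage_pullback r x hrx
    exact ⟨v, show pullback.fst G.t u v ∈ O from hv₁.symm ▸ hr, hv₂⟩

theorem isOpenMap_qsProj (ht : IsOpenMap (pullback.snd G.t u)) : IsOpenMap (qsProj h) := by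
  haveI := h.surj
  intro O hO
  have e : qsProj h '' O = qsπ h '' (pullback.snd G.t u '' (arrToS G u ⁻¹' O)) := by
    have hp : ∀ v, qsProj h (arrToS G u v) = qsπ h (pullback.snd G.t u v) := fun v => by
      rw [← Scheme.Hom.comp_apply, arrToS_qsProj, Scheme.Hom.comp_apply]
    ext y
    constructor
    · rintro ⟨x, hx, rfl⟩
      obtain ⟨v, rfl⟩ := (arrToS G u).surjective x
      exact ⟨_, ⟨v, hx, rfl⟩, (hp v).symm⟩
    · rintro ⟨_, ⟨v, hv, rfl⟩, rfl⟩
      exact ⟨_, hv, hp v⟩
  rw [e]
  exact isOpenMap_qsπ h _ (ht _ (hO.preimage (arrToS G u).continuous))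

theorem universallyClosed_qsProj [UniversallyClosed G.t] : UniversallyClosed (qsProj h) := by
  haveI := h.surj
  haveI := isIntegralHom_qsπ h
  haveI : UniversallyClosed (arrToS G u ≫ qsProj h) := by rw [arrToS_qsProj]; infer_instance
  exact .of_comp_surjective (arrToS G u) (qsProj h)

/-- The pullback comparing arrows over a pair of points with arrows of the quasi-section. -/
theorem exists_arrow_cover :
    ∃ (P : Scheme.{u}) (q : P ⟶ pullback (qsProj h) (qsProj h)) (ρ : P ⟶ G.R),
      Surjective q ∧ ρ ≫ pullback.lift G.t G.s (qsProj_condition h) = q ∧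
      (Mono G.j → Flat q ∧ LocallyOfFinitePresentation q) := by
  haveI := h.flat
  haveI := h.fp
  haveI := h.surj
  let a : pullback (qsProj h) (qsProj h) ⟶ G.U := pullback.fst _ _
  let b : pullback (qsProj h) (qsProj h) ⟶ G.U := pullback.snd _ _
  let q₁ : pullback a (arrToS G u) ⟶ pullback (qsProj h) (qsProj h) := pullback.fst _ _
  let q₂ : pullback (q₁ ≫ b) (arrToS G u) ⟶ pullback a (arrToS G u) := pullback.fst _ _
  let α : pullback (q₁ ≫ b) (arrToS G u) ⟶ arrTo G u := q₂ ≫ pullback.snd a (arrToS G u)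
  let β : pullback (q₁ ≫ b) (arrToS G u) ⟶ arrTo G u := pullback.snd _ _
  have hα : α ≫ arrToS G u = (q₂ ≫ q₁) ≫ a := by
    simp only [α, q₁, Category.assoc, pullback.condition]
  have hβ : β ≫ arrToS G u = (q₂ ≫ q₁) ≫ b :=
    pullback.condition.symm.trans (Category.assoc _ _ _).symm
  clear_value α β
  have hπ : (α ≫ pullback.snd G.t u) ≫ qsπ h = (β ≫ pullback.snd G.t u) ≫ qsπ h := by
    rw [Category.assoc, Category.assoc, ← arrToS_qsProj, reassoc_of% hα, reassoc_of% hβ]
    simp only [a, b, pullback.condition]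
  let φ' : arrIn G u ⟶ pullback (qsπ h) (qsπ h) :=
    pullback.lift (arrInT G u) (arrInS G u) (qsπ_condition h)
  haveI : Surjective φ' := ⟨surjective_qsπ_lift h⟩
  let m : pullback (q₁ ≫ b) (arrToS G u) ⟶ pullback (qsπ h) (qsπ h) :=
    pullback.lift (α ≫ pullback.snd G.t u) (β ≫ pullback.snd G.t u) hπ
  let q₃ : pullback m φ' ⟶ pullback (q₁ ≫ b) (arrToS G u) := pullback.fst _ _
  let γ : pullback m φ' ⟶ arrIn G u := pullback.snd _ _
  let A : pullback m φ' ⟶ G.R := (q₃ ≫ α) ≫ pullback.fst G.t u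
  let B : pullback m φ' ⟶ G.R := (q₃ ≫ β) ≫ pullback.fst G.t u
  have hγt : γ ≫ arrInT G u = q₃ ≫ α ≫ pullback.snd G.t u := by
    have h1 := congrArg (· ≫ pullback.fst (qsπ h) (qsπ h)) (pullback.condition (f := m) (g := φ'))
    simp only [Category.assoc, m, φ'] at h1
    rw [pullback.lift_fst, pullback.lift_fst] at h1
    exact h1.symm
  have hγs : γ ≫ arrInS G u = q₃ ≫ β ≫ pullback.snd G.t u := by
    have h1 := congrArg (· ≫ pullback.snd (qsπ h) (qsπ h)) (pullback.condition (f := m) (g := φ'))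
    simp only [Category.assoc, m, φ'] at h1
    rw [pullback.lift_snd, pullback.lift_snd] at h1
    exact h1.symm
  have h₁ : (γ ≫ arrInι G u) ≫ G.s = B ≫ G.t := by
    simp only [B, Category.assoc, pullback.condition, arrInι_s, reassoc_of% hγs]
  have h₂ : (A ≫ G.i) ≫ G.s = cmp G (γ ≫ arrInι G u) B h₁ ≫ G.t := by
    rw [cmp_t]
    simp only [A, Category.assoc, G.i_s, pullback.condition, arrInι_t, reassoc_of% hγt]
  refine ⟨_, q₃ ≫ q₂ ≫ q₁, cmp G (A ≫ G.i) (cmp G (γ ≫ arrInι G u) B h₁) h₂, inferInstance,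
    ?_, fun hm => ?_⟩
  · apply pullback.hom_ext
    · rw [Category.assoc, pullback.lift_fst, cmp_t, Category.assoc A, G.i_t]
      have := congrArg (q₃ ≫ ·) hα
      simp only [A, arrToS, a, Category.assoc] at this ⊢
      exact this
    · rw [Category.assoc, pullback.lift_snd, cmp_s, cmp_s]
      have := congrArg (q₃ ≫ ·) hβ
      simp only [B, arrToS, b, Category.assoc] at this ⊢
      exact this
  · haveI := hm
    haveI : IsIso φ' := by
      have hiso : φ' = (mono_facts_qsπ h).1.isoPullback.hom := by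
        apply pullback.hom_ext
        · rw [IsPullback.isoPullback_hom_fst]; exact pullback.lift_fst _ _ _
        · rw [IsPullback.isoPullback_hom_snd]; exact pullback.lift_snd _ _ _
      rw [hiso]; infer_instance
    exact ⟨inferInstance, inferInstance⟩

theorem surjective_qsProj_lift :
    Function.Surjective (pullback.lift G.t G.s (qsProj_condition h)) := by
  obtain ⟨P, q, ρ, hq, hρ, -⟩ := exists_arrow_cover h
  intro z
  obtain ⟨p, rfl⟩ := q.surjective z
  exact ⟨ρ p, by rw [← Scheme.Hom.comp_apply, hρ]⟩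

theorem isPullback_qsProj [Mono G.j] : IsPullback G.t G.s (qsProj h) (qsProj h) := by
  obtain ⟨P, q, ρ, hq, hρ, hfl⟩ := exists_arrow_cover h
  obtain ⟨h₁, h₂⟩ := hfl inferInstance
  let φ := pullback.lift G.t G.s (qsProj_condition h)
  haveI : Mono φ := by
    constructor
    intro Z a b hab
    apply (cancel_mono G.j).mp
    have ht := congrArg (· ≫ pullback.fst (qsProj h) (qsProj h)) hab
    have hs := congrArg (· ≫ pullback.snd (qsProj h) (qsProj h)) hab
    simp only [φ, Category.assoc, pullback.lift_fst, pullback.lift_snd] at ht hs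
    apply pullback.hom_ext
    · simpa only [Grpd.GroupoidScheme.j, Category.assoc, pullback.lift_fst] using ht
    · simpa only [Grpd.GroupoidScheme.j, Category.assoc, pullback.lift_snd] using hs
  have hcomp : ∀ {Z : Scheme.{u}} (g₁ g₂ : Z ⟶ P), g₁ ≫ q = g₂ ≫ q → g₁ ≫ ρ = g₂ ≫ ρ := by
    intro Z g₁ g₂ he
    rw [← hρ] at he
    exact (cancel_mono φ).mp (by simpa only [φ, Category.assoc] using he)
  let ψ : pullback (qsProj h) (qsProj h) ⟶ G.R := EffectiveEpi.desc q ρ hcomp
  have hψφ : ψ ≫ φ = 𝟙 _ := by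
    rw [← cancel_epi q, ← Category.assoc, EffectiveEpi.fac, Category.comp_id]
    exact hρ
  have hφψ : φ ≫ ψ = 𝟙 _ := by
    rw [← cancel_mono φ, Category.assoc, hψφ, Category.comp_id, Category.id_comp]
  exact IsPullback.of_iso_pullback ⟨qsProj_condition h⟩ ⟨φ, ψ, hφψ, hψφ⟩
    (pullback.lift_fst _ _ _) (pullback.lift_snd _ _ _)

theorem flat_qsProj [Mono G.j] [Flat G.t] : Flat (qsProj h) := by
  haveI := h.flat
  haveI := h.surj
  haveI := (mono_facts_qsπ h).2
  haveI : Flat (arrToS G u ≫ qsProj h) := by rw [arrToS_qsProj]; infer_instance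
  apply Flat.of_stalkMap
  intro x
  obtain ⟨v, rfl⟩ := (arrToS G u).surjective x
  exact GrothLib.LocProp.flat_descends (arrToS G u) (qsProj h) v (Flat.stalkMap _ v) (Flat.stalkMap _ v)

end

end GrothLib.GrpdQuot
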