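import Mathlib.LinearAlgebra.Matrix.SchurComplement
import Mathlib.LinearAlgebra.TensorProduct.Basic
import Mathlib.RingTheory.TensorProduct.Basic
import Mathlib.RingTheory.TensorProduct.Maps
import Mathlib.RingTheory.Finiteness.Projective

/-!
Finite dual systems of generators of an algebra which is finite projective over its base, and the
matrices of multiplications in such systems.
-/

universe u v

namespace GrothLib.GrpdQuot

open Matrix TensorProduct

variable {A B : Type u} [CommRing A] [CommRing B]

/-- A finite dual system of generators of `B` as an `A`-module through `s`. -/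
structure Sys (s : A →+* B) (io : Type v) [Fintype io] where
  b : io → B
  φ : io → (B →+ A)
  φ_smul : ∀ k a x, φ k (s a * x) = a * φ k x
  expand : ∀ x, ∑ k, s (φ k x) * b k = x

namespace Sys

variable {s : A →+* B} {io : Type v} [Fintype io] {ka : Type v} [Fintype ka]
  {la : Type v} [Fintype la] (S : Sys s io) (S' : Sys s ka) (S'' : Sys s la)

theorem φ_smul' (k : io) (a : A) (x : B) : S.φ k (x * s a) = a * S.φ k x := by
  rw [mul_comm, S.φ_smul]

/-- The matrix of multiplication by `x` from the second system to the first. -/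
def cross (x : B) : Matrix io ka A := Matrix.of fun k m => S.φ k (x * S'.b m)

theorem cross_apply (x : B) (k : io) (m : ka) : S.cross S' x k m = S.φ k (x * S'.b m) := rfl

/-- The matrix of multiplication by `x`. -/
def mat (x : B) : Matrix io io A := S.cross S x

theorem cross_mul_cross (x y : B) : S.cross S' x * S'.cross S'' y = S.cross S'' (x * y) := by
  ext k l
  rw [Matrix.mul_apply, cross_apply, mul_assoc]
  conv_rhs => rw [← S'.expand (y * S''.b l), Finset.mul_sum, map_sum]
  refine Finset.sum_congr rfl fun m _ => ?_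
  rw [cross_apply, cross_apply, mul_comm, ← S.φ_smul]
  congr 1
  ring

theorem mat_mul (x y : B) : S.mat x * S.mat y = S.mat (x * y) := S.cross_mul_cross S S x y

theorem cross_add (x y : B) : S.cross S' (x + y) = S.cross S' x + S.cross S' y := by
  ext k m
  simp [cross_apply, add_mul]

theorem mat_add (x y : B) : S.mat (x + y) = S.mat x + S.mat y := S.cross_add S x y

theorem mat_smul (a : A) (x : B) : S.mat (s a * x) = a • S.mat x := by
  ext k m
  simp only [mat, Matrix.smul_apply, cross_apply, smul_eq_mul, mul_assoc, S.φ_smul]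

theorem mat_sub (x y : B) : S.mat (x - y) = S.mat x - S.mat y := by
  rw [eq_sub_iff_add_eq, ← mat_add, sub_add_cancel]

theorem mat_zero : S.mat 0 = 0 := by
  ext k m
  simp [mat, cross_apply]

theorem vecMul_mat (x : B) : S.b ᵥ* (S.mat x).map s = x • S.b := by
  ext m
  rw [Pi.smul_apply, smul_eq_mul, Matrix.vecMul, dotProduct]
  conv_rhs => rw [← S.expand (x * S.b m)]
  refine Finset.sum_congr rfl fun k _ => ?_
  rw [Matrix.map_apply, mat, cross_apply, mul_comm]

theorem vecMul_mat_comp {D : Type*} [CommRing D] (r : B →+* D) (x : B) :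
    (r ∘ S.b) ᵥ* (S.mat x).map (r.comp s) = r x • (r ∘ S.b) := by
  ext m
  have h := congrArg r (congrFun (S.vecMul_mat x) m)
  rw [RingHom.map_vecMul, Pi.smul_apply, smul_eq_mul, map_mul] at h
  simpa [Matrix.map_map] using h

theorem det_one_add_cross_eq [DecidableEq io] [DecidableEq ka] {D : Type*} [CommRing D]
    (g : A →+* D) {J : Type*} [Fintype J] (c : J → D) (x : J → B) :
    (1 + ∑ j, c j • (S.mat (x j)).map g).det = (1 + ∑ j, c j • (S'.mat (x j)).map g).det := by
  have e1 : ∑ j, c j • (S.mat (x j)).map g =
      (∑ j, c j • (S.cross S' (x j)).map g) * (S'.cross S 1).map g := by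
    rw [Matrix.sum_mul]
    refine Finset.sum_congr rfl fun j _ => ?_
    rw [Matrix.smul_mul, ← Matrix.map_mul, cross_mul_cross, mul_one, mat]
  have e2 : ∑ j, c j • (S'.mat (x j)).map g =
      (S'.cross S 1).map g * ∑ j, c j • (S.cross S' (x j)).map g := by
    rw [Matrix.mul_sum]
    refine Finset.sum_congr rfl fun j _ => ?_
    rw [Matrix.mul_smul, ← Matrix.map_mul, cross_mul_cross, one_mul, mat]
  rw [e1, e2, det_one_add_mul_comm]

theorem exists_of_projective [letI := s.toAlgebra; Module.Finite A B]
    [letI := s.toAlgebra; Module.Projective A B] : ∃ n : ℕ, Nonempty (Sys s (Fin n)) := by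
  letI := s.toAlgebra
  obtain ⟨n, f, g, -, -, hfg⟩ := Module.Finite.exists_comp_eq_id_of_projective A B
  refine ⟨n, ⟨{
    b := fun k => f (fun j => if j = k then 1 else 0)
    φ := fun k => ((LinearMap.proj k).comp g).toAddMonoidHom
    φ_smul := fun k a x => ?_
    expand := fun x => ?_ }⟩⟩
  · change g (s a * x) k = a * g x k
    rw [show s a * x = a • x from (Algebra.smul_def a x).symm, map_smul]
    rfl
  · have h : f (g x) = x := DFunLike.congr_fun hfg x
    conv_rhs => rw [← h, pi_eq_sum_univ (g x), map_sum]
    refine Finset.sum_congr rfl fun k _ => ?_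
    rw [map_smul, Algebra.smul_def]
    simp only [eq_comm (a := k)]
    rfl

end Sys

section PO

variable {A' C : Type u} [CommRing A'] [CommRing C] (f : A →+* A') (s : A →+* B)
  (p : A' →+* C) (q : B →+* C)

/-- The square formed by `f, s, p, q` identifies `C` with the tensor product of `A'` and `B`. -/
structure IsPO : Prop where
  comm : p.comp f = q.comp s
  gen : ∀ y : C, y ∈ AddSubgroup.closure {z : C | ∃ r x, p r * q x = z}
  dual : ∀ φ : B →+ A, (∀ a x, φ (s a * x) = a * φ x) →
    ∃ ψ : C →+ A', ∀ r x, ψ (p r * q x) = r * f (φ x)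

variable {f s p q}

theorem IsPO.of_algHom (hcomm : p.comp f = q.comp s)
    (h : letI := f.toAlgebra; letI := s.toAlgebra
      ∀ Φ : A' ⊗[A] B →+ C, (∀ r x, Φ (r ⊗ₜ x) = p r * q x) → Function.Bijective Φ) :
    IsPO f s p q := by
  letI := f.toAlgebra
  letI := s.toAlgebra
  letI : Algebra A C := (p.comp f).toAlgebra
  let Φ : A' ⊗[A] B →ₐ[A] C :=
    Algebra.TensorProduct.productMap ⟨p, fun _ => rfl⟩
      ⟨q, fun a => (RingHom.congr_fun hcomm a).symm⟩
  have hΦ : ∀ r x, Φ (r ⊗ₜ x) = p r * q x := fun r x => by
    simp only [Φ, Algebra.TensorProduct.productMap_apply_tmul]; rfl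
  have hb : Function.Bijective Φ.toLinearMap.toAddMonoidHom := h _ hΦ
  refine ⟨hcomm, fun y => ?_, fun φ hφ => ?_⟩
  · obtain ⟨ξ, rfl⟩ := hb.2 y
    induction ξ using TensorProduct.induction_on with
    | zero => rw [map_zero]; exact zero_mem _
    | tmul r x => exact AddSubgroup.subset_closure ⟨r, x, (hΦ r x).symm⟩
    | add a b ha hb' => rw [map_add]; exact add_mem ha hb'
  · let φ' : B →ₗ[A] A :=
      { φ with map_smul' := fun a x => by simpa [Algebra.smul_def] using! hφ a x }
    let ψ₀ : A' ⊗[A] B →+ A' :=
      ((TensorProduct.rid A A').toLinearMap.comp (φ'.lTensor A')).toAddMonoidHom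
    refine ⟨ψ₀.comp (AddEquiv.ofBijective _ hb).symm.toAddMonoidHom, fun r x => ?_⟩
    have e : (AddEquiv.ofBijective _ hb).symm (p r * q x) = r ⊗ₜ x := by
      rw [AddEquiv.symm_apply_eq]; exact (hΦ r x).symm
    simp only [AddMonoidHom.comp_apply, AddEquiv.coe_toAddMonoidHom, e]
    change (TensorProduct.rid A A') (r ⊗ₜ φ' x) = _
    rw [TensorProduct.rid_tmul, Algebra.smul_def]
    exact mul_comm _ _

/-- Base change of a dual system along a cocartesian square. -/
noncomputable def Sys.baseChange {io : Type v} [Fintype io] (S : Sys s io) (h : IsPO f s p q) :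
    Sys p io where
  b := q ∘ S.b
  φ k := (h.dual (S.φ k) (S.φ_smul k)).choose
  φ_smul k a x := by
    have hk := (h.dual (S.φ k) (S.φ_smul k)).choose_spec
    induction h.gen x using AddSubgroup.closure_induction with
    | mem z hz =>
      obtain ⟨r, y, rfl⟩ := hz
      rw [← mul_assoc, ← map_mul, hk, hk, mul_assoc]
    | zero => simp
    | add y z _ _ hy hz => rw [mul_add, map_add, hy, hz, map_add, mul_add]
    | neg y _ hy => rw [mul_neg, map_neg, hy, map_neg, mul_neg]
  expand x := by
    have hk := fun k => (h.dual (S.φ k) (S.φ_smul k)).choose_spec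
    induction h.gen x using AddSubgroup.closure_induction with
    | mem z hz =>
      obtain ⟨r, y, rfl⟩ := hz
      conv_rhs => rw [← S.expand y, map_sum, Finset.mul_sum]
      refine Finset.sum_congr rfl fun k _ => ?_
      rw [hk, map_mul, map_mul, ← RingHom.comp_apply, h.comm, RingHom.comp_apply, Function.comp_apply]
      ring
    | zero => simp
    | add y z _ _ hy hz => simp only [map_add, add_mul, Finset.sum_add_distrib, hy, hz]
    | neg y _ hy => simp only [map_neg, neg_mul, Finset.sum_neg_distrib, hy]

theorem Sys.baseChange_φ {io : Type v} [Fintype io] (S : Sys s io) (h : IsPO f s p q) (k : io)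
    (r : A') (x : B) : (S.baseChange h).φ k (p r * q x) = r * f (S.φ k x) :=
  (h.dual (S.φ k) (S.φ_smul k)).choose_spec r x

theorem Sys.baseChange_φ' {io : Type v} [Fintype io] (S : Sys s io) (h : IsPO f s p q) (k : io)
    (x : B) : (S.baseChange h).φ k (q x) = f (S.φ k x) := by
  have := S.baseChange_φ h k 1 x
  rwa [map_one, one_mul, one_mul] at this

theorem Sys.baseChange_b {io : Type v} [Fintype io] (S : Sys s io) (h : IsPO f s p q) (k : io) :
    (S.baseChange h).b k = q (S.b k) := rfl

theorem Sys.baseChange_mat {io : Type v} [Fintype io] (S : Sys s io) (h : IsPO f s p q) (x : B) :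
    (S.baseChange h).mat (q x) = (S.mat x).map f := by
  ext k l
  rw [Matrix.map_apply, Sys.mat, Sys.cross_apply, Sys.mat, Sys.cross_apply, Sys.baseChange_b,
    ← map_mul, Sys.baseChange_φ']

end PO

end GrothLib.GrpdQuot
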