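import Groth.Agent.Lib.GrpdQuot.EquivRel
import Groth.Agent.Lib.GrpdQuot.GlueMono
import Groth.Agent.Lib.GrpdQuot.FiniteAffine
import Mathlib.AlgebraicGeometry.Morphisms.Separated

/-!
The equivalence relations on objects and on arrows defined by a finite locally free subgroupoid.
-/

universe u

open CategoryTheory CategoryTheory.Limits AlgebraicGeometry

namespace GrothLib.GrpdQuot

open GrothLib.GrpSchField (cmp cmp_congr comp_cmp)

noncomputable section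

variable {S : Scheme.{u}}

/-- A subgroupoid defining an equivalence relation with finite locally free source and target. -/
structure SubRel (G : Grpd.GroupoidScheme S) (P : Scheme.{u}) (io : P ⟶ G.R) : Prop where
  mono : Mono io
  monoj : Mono (io ≫ G.j)
  he : ∃ eP : G.U ⟶ P, eP ≫ io = G.e
  hi : ∃ iP : P ⟶ P, iP ≫ io = io ≫ G.i
  hc : ∃ cP : pullback (io ≫ G.s) (io ≫ G.t) ⟶ P,
    cP ≫ io = cmp G (pullback.fst (io ≫ G.s) (io ≫ G.t) ≫ io) (pullback.snd (io ≫ G.s) (io ≫ G.t) ≫ io)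
      (by rw [Category.assoc, Category.assoc]; exact pullback.condition)
  fin_s : IsFinite (io ≫ G.s)
  flat_s : Flat (io ≫ G.s)
  fp_s : LocallyOfFinitePresentation (io ≫ G.s)
  fin_t : IsFinite (io ≫ G.t)
  flat_t : Flat (io ≫ G.t)
  fp_t : LocallyOfFinitePresentation (io ≫ G.t)

variable {G : Grpd.GroupoidScheme S} {P : Scheme.{u}} {io : P ⟶ G.R} (h : SubRel G P io)

include h in
theorem SubRel.ext {T : Scheme.{u}} (a b : T ⟶ P) (ht : a ≫ io ≫ G.t = b ≫ io ≫ G.t)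
    (hs : a ≫ io ≫ G.s = b ≫ io ≫ G.s) : a = b := by
  haveI := h.monoj
  apply (cancel_mono (io ≫ G.j)).mp
  apply pullback.hom_ext
  · simpa only [Category.assoc, Grpd.GroupoidScheme.j, pullback.lift_fst] using ht
  · simpa only [Category.assoc, Grpd.GroupoidScheme.j, pullback.lift_snd] using hs

include h in
theorem SubRel.exists_comp {T : Scheme.{u}} (α β : T ⟶ P)
    (hab : (α ≫ io) ≫ G.s = (β ≫ io) ≫ G.t) :
    ∃ γ : T ⟶ P, γ ≫ io = cmp G (α ≫ io) (β ≫ io) hab := by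
  obtain ⟨cP, hcP⟩ := h.hc
  refine ⟨pullback.lift α β ((Category.assoc _ _ _).symm.trans (hab.trans (Category.assoc _ _ _))) ≫ cP, ?_⟩
  rw [Category.assoc, hcP, comp_cmp]
  exact cmp_congr G _ (pullback.lift_fst_assoc _ _ _ _) (pullback.lift_snd_assoc _ _ _ _)

include h in
theorem SubRel.exists_inv {T : Scheme.{u}} (α : T ⟶ P) :
    ∃ α' : T ⟶ P, α' ≫ io = (α ≫ io) ≫ G.i := by
  obtain ⟨iP, hiP⟩ := h.hi
  exact ⟨α ≫ iP, by rw [Category.assoc, hiP, Category.assoc]⟩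

include h in
theorem SubRel.exists_id {T : Scheme.{u}} (u : T ⟶ G.U) : ∃ α : T ⟶ P, α ≫ io = u ≫ G.e := by
  obtain ⟨eP, heP⟩ := h.he
  exact ⟨u ≫ eP, by rw [Category.assoc, heP]⟩

theorem SubRel.cond (_h : SubRel G P io) : (io ≫ G.t) ≫ G.pU = (io ≫ G.s) ≫ G.pU := by
  rw [Category.assoc, Category.assoc, G.t_over, G.s_over]

include h in
theorem SubRel.exists_e : ∃ e : G.U ⟶ P, e ≫ (io ≫ G.s) = 𝟙 G.U ∧ e ≫ (io ≫ G.t) = 𝟙 G.U := by
  obtain ⟨eP, heP⟩ := h.he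
  exact ⟨eP, by rw [reassoc_of% heP, G.e_s], by rw [reassoc_of% heP, G.e_t]⟩

include h in
theorem SubRel.exists_i :
    ∃ i : P ⟶ P, i ≫ (io ≫ G.s) = io ≫ G.t ∧ i ≫ (io ≫ G.t) = io ≫ G.s := by
  obtain ⟨iP, hiP⟩ := h.hi
  exact ⟨iP, by rw [reassoc_of% hiP, G.i_s], by rw [reassoc_of% hiP, G.i_t]⟩

include h in
theorem SubRel.exists_c : ∃ c : pullback (io ≫ G.s) (io ≫ G.t) ⟶ P,
    c ≫ (io ≫ G.s) = pullback.snd _ _ ≫ (io ≫ G.s) ∧ c ≫ (io ≫ G.t) = pullback.fst _ _ ≫ (io ≫ G.t) := by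
  obtain ⟨cP, hcP⟩ := h.hc
  refine ⟨cP, ?_, ?_⟩
  · rw [← Category.assoc, hcP, cmp_s, Category.assoc]
  · rw [← Category.assoc, hcP, cmp_t, Category.assoc]

/-- The subgroupoid as a groupoid scheme. -/
def SubRel.grpd : Grpd.GroupoidScheme S :=
  ofEquivRel G.U P G.pU (io ≫ G.s) (io ≫ G.t) h.cond
    (fun a b ht hs => h.ext a b ht hs) h.exists_e h.exists_i h.exists_c

theorem SubRel.mono_grpd_j : Mono h.grpd.j :=
  mono_j_ofEquivRel _ _ _ _ _ _ _ _ _ _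

/-! ### The relation on arrows -/

/-- Pairs `(α, r)` with `s α = t r`. -/
abbrev lSc (G : Grpd.GroupoidScheme S) {P : Scheme.{u}} (io : P ⟶ G.R) : Scheme.{u} :=
  pullback (io ≫ G.s) G.t

/-- Triples `(α, r, β)` with `s α = t r` and `s r = t β`. -/
abbrev qSc (G : Grpd.GroupoidScheme S) {P : Scheme.{u}} (io : P ⟶ G.R) : Scheme.{u} :=
  pullback (pullback.snd (io ≫ G.s) G.t ≫ G.s) (io ≫ G.t)

/-- The middle arrow. -/
def qS (G : Grpd.GroupoidScheme S) {P : Scheme.{u}} (io : P ⟶ G.R) : qSc G io ⟶ G.R :=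
  pullback.fst (pullback.snd (io ≫ G.s) G.t ≫ G.s) (io ≫ G.t) ≫ pullback.snd (io ≫ G.s) G.t

/-- The left arrow. -/
def qL (G : Grpd.GroupoidScheme S) {P : Scheme.{u}} (io : P ⟶ G.R) : qSc G io ⟶ P :=
  pullback.fst (pullback.snd (io ≫ G.s) G.t ≫ G.s) (io ≫ G.t) ≫ pullback.fst (io ≫ G.s) G.t

/-- The right arrow. -/
def qR (G : Grpd.GroupoidScheme S) {P : Scheme.{u}} (io : P ⟶ G.R) : qSc G io ⟶ P := pullback.snd (pullback.snd (io ≫ G.s) G.t ≫ G.s) (io ≫ G.t)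

theorem qL_s : ((qL G io) ≫ io) ≫ G.s = (qS G io) ≫ G.t := by
  simp only [qL, qS, Category.assoc, pullback.condition]

theorem qS_s : (qS G io) ≫ G.s = ((qR G io) ≫ io) ≫ G.t := by
  exact ((Category.assoc _ _ _).trans pullback.condition).trans (Category.assoc _ _ _).symm

/-- The arrow `α r β`. -/
def qT (G : Grpd.GroupoidScheme S) {P : Scheme.{u}} (io : P ⟶ G.R) : qSc G io ⟶ G.R := tri G ((qL G io) ≫ io) (qS G io) ((qR G io) ≫ io) qL_s qS_s

/-- A point of the relation on arrows, given by its components. -/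
def qMk {T : Scheme.{u}} (α : T ⟶ P) (r : T ⟶ G.R) (β : T ⟶ P) (h₁ : (α ≫ io) ≫ G.s = r ≫ G.t)
    (h₂ : r ≫ G.s = (β ≫ io) ≫ G.t) : T ⟶ qSc G io :=
  pullback.lift (pullback.lift α r ((Category.assoc _ _ _).symm.trans h₁)) β (by
    rw [pullback.lift_snd_assoc, h₂, Category.assoc])

theorem qMk_qS {T : Scheme.{u}} (α : T ⟶ P) (r : T ⟶ G.R) (β : T ⟶ P)
    (h₁ : (α ≫ io) ≫ G.s = r ≫ G.t) (h₂ : r ≫ G.s = (β ≫ io) ≫ G.t) :
    qMk α r β h₁ h₂ ≫ (qS G io) = r := by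
  simp only [qMk, qS, pullback.lift_fst_assoc, pullback.lift_snd]

theorem qMk_qT {T : Scheme.{u}} (α : T ⟶ P) (r : T ⟶ G.R) (β : T ⟶ P)
    (h₁ : (α ≫ io) ≫ G.s = r ≫ G.t) (h₂ : r ≫ G.s = (β ≫ io) ≫ G.t) :
    qMk α r β h₁ h₂ ≫ (qT G io) = tri G (α ≫ io) r (β ≫ io) h₁ h₂ := by
  rw [qT, comp_tri]
  exact tri_congr G _ _ (by simp only [qMk, qL, Category.assoc, pullback.lift_fst_assoc])
    (qMk_qS α r β h₁ h₂) (by simp only [qMk, qR, pullback.lift_snd_assoc])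

theorem qT_pt {T : Scheme.{u}} (q : T ⟶ qSc G io) :
    q ≫ (qT G io) = tri G ((q ≫ (qL G io)) ≫ io) (q ≫ (qS G io)) ((q ≫ (qR G io)) ≫ io)
      (by simpa only [Category.assoc] using congrArg (q ≫ ·) qL_s)
      (by simpa only [Category.assoc] using congrArg (q ≫ ·) qS_s) := by
  rw [qT, comp_tri]
  exact tri_congr G _ _ (Category.assoc _ _ _).symm rfl (Category.assoc _ _ _).symm

theorem qT_ends {T : Scheme.{u}} (q : T ⟶ qSc G io) :
    (q ≫ (qT G io)) ≫ G.t = ((q ≫ (qL G io)) ≫ io) ≫ G.t ∧ (q ≫ (qT G io)) ≫ G.s = ((q ≫ (qR G io)) ≫ io) ≫ G.s := by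
  rw [qT_pt]
  exact ⟨tri_t G _ _ _ _ _, tri_s G _ _ _ _ _⟩

include h in
theorem SubRel.q_ext {T : Scheme.{u}} (a b : T ⟶ qSc G io) (ht : a ≫ (qT G io) = b ≫ (qT G io))
    (hs : a ≫ (qS G io) = b ≫ (qS G io)) : a = b := by
  have hL : a ≫ (qL G io) = b ≫ (qL G io) := by
    apply h.ext
    · have := congrArg (· ≫ G.t) ht
      rw [(qT_ends a).1, (qT_ends b).1] at this
      simpa only [Category.assoc] using this
    · have := congrArg (· ≫ G.t) hs
      simp only [Category.assoc] at this ⊢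
      rw [← qL_s] at this
      simpa only [Category.assoc] using this
  have hR : a ≫ (qR G io) = b ≫ (qR G io) := by
    apply h.ext
    · have := congrArg (· ≫ G.s) hs
      simp only [Category.assoc] at this ⊢
      rw [qS_s] at this
      simpa only [Category.assoc] using this
    · have := congrArg (· ≫ G.s) ht
      rw [(qT_ends a).2, (qT_ends b).2] at this
      simpa only [Category.assoc] using this
  apply pullback.hom_ext
  · apply pullback.hom_ext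
    · simpa only [qL, Category.assoc] using hL
    · simpa only [qS, Category.assoc] using hs
  · exact hR

theorem q_cond : (qT G io) ≫ G.pR = ((qS G io) : qSc G io ⟶ G.R) ≫ G.pR := by
  have h1 : (qT G io ≫ G.t) ≫ G.pU = (qS G io ≫ G.t) ≫ G.pU := by
    rw [qT, tri_t, ← qL_s]
    simp only [Category.assoc, G.t_over, G.s_over]
  simpa only [Category.assoc, G.t_over] using h1

include h in
theorem q_exists_e : ∃ e : G.R ⟶ qSc G io, e ≫ (qS G io) = 𝟙 G.R ∧ e ≫ (qT G io) = 𝟙 G.R := by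
  obtain ⟨α, hα⟩ := h.exists_id G.t
  obtain ⟨β, hβ⟩ := h.exists_id G.s
  have h₁ : (α ≫ io) ≫ G.s = 𝟙 G.R ≫ G.t := by
    rw [hα, Category.assoc, G.e_s, Category.comp_id, Category.id_comp]
  have h₂ : 𝟙 G.R ≫ G.s = (β ≫ io) ≫ G.t := by
    rw [hβ, Category.assoc, G.e_t, Category.comp_id, Category.id_comp]
  refine ⟨qMk α (𝟙 _) β h₁ h₂, qMk_qS _ _ _ _ _, ?_⟩
  rw [qMk_qT]
  exact tri_e G _ _ _ h₁ h₂ (hα.trans (Category.id_comp _).symm) (hβ.trans (Category.id_comp _).symm)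

include h in
theorem q_exists_i : ∃ i : qSc G io ⟶ qSc G io, i ≫ (qS G io) = (qT G io) ∧ i ≫ (qT G io) = (qS G io) := by
  obtain ⟨α, hα⟩ := h.exists_inv ((qL G io))
  obtain ⟨β, hβ⟩ := h.exists_inv ((qR G io))
  have h₁ : (α ≫ io) ≫ G.s = (qT G io) ≫ G.t := by
    rw [hα, Category.assoc, G.i_s, qT, tri_t]
  have h₂ : (qT G io) ≫ G.s = (β ≫ io) ≫ G.t := by
    rw [hβ, Category.assoc _ G.i, G.i_t, qT, tri_s]
  refine ⟨qMk α (qT G io) β h₁ h₂, qMk_qS _ _ _ _ _, ?_⟩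
  rw [qMk_qT]
  refine (tri_congr G h₁ h₂ hα rfl hβ).trans ((tri_tri G _ _ _ _ _ qL_s qS_s
    (by rw [Category.assoc, G.i_s]) (by rw [Category.assoc _ G.i, G.i_t])).trans ?_)
  refine tri_e G _ _ _ _ _ ((G.i_comp _).trans ?_) ((G.comp_i _).trans ?_)
  · rw [← Category.assoc, qL_s, Category.assoc]
  · rw [← Category.assoc, ← qS_s, Category.assoc]

include h in
theorem q_exists_c : ∃ c : pullback ((qS G io)) (qT G io) ⟶ qSc G io,
    c ≫ (qS G io) = pullback.snd (qS G io) (qT G io) ≫ (qS G io) ∧ c ≫ (qT G io) = pullback.fst (qS G io) (qT G io) ≫ (qT G io) := by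
  let q₁ : pullback ((qS G io)) (qT G io) ⟶ qSc G io := pullback.fst (qS G io) (qT G io)
  let q₂ : pullback ((qS G io)) (qT G io) ⟶ qSc G io := pullback.snd (qS G io) (qT G io)
  have hq : q₁ ≫ (qS G io) = q₂ ≫ (qT G io) := pullback.condition
  have hL : ∀ q : pullback ((qS G io)) (qT G io) ⟶ qSc G io,
      ((q ≫ (qL G io)) ≫ io) ≫ G.s = (q ≫ (qS G io)) ≫ G.t := fun q => by
    simpa only [Category.assoc] using congrArg (q ≫ ·) qL_s
  have hR : ∀ q : pullback ((qS G io)) (qT G io) ⟶ qSc G io,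
      (q ≫ (qS G io)) ≫ G.s = ((q ≫ (qR G io)) ≫ io) ≫ G.t := fun q => by
    simpa only [Category.assoc] using congrArg (q ≫ ·) qS_s
  have hα : ((q₁ ≫ (qL G io)) ≫ io) ≫ G.s = ((q₂ ≫ (qL G io)) ≫ io) ≫ G.t := by
    rw [hL, hq]; exact (qT_ends q₂).1
  have hβ : ((q₂ ≫ (qR G io)) ≫ io) ≫ G.s = ((q₁ ≫ (qR G io)) ≫ io) ≫ G.t := by
    rw [← hR, hq]; exact (qT_ends q₂).2.symm
  obtain ⟨α, hα'⟩ := h.exists_comp _ _ hα
  obtain ⟨β, hβ'⟩ := h.exists_comp _ _ hβ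
  have h₁ : (α ≫ io) ≫ G.s = (q₂ ≫ (qS G io)) ≫ G.t := by rw [hα', cmp_s]; exact hL q₂
  have h₂ : (q₂ ≫ (qS G io)) ≫ G.s = (β ≫ io) ≫ G.t := by rw [hβ', cmp_t]; exact hR q₂
  refine ⟨qMk α (q₂ ≫ (qS G io)) β h₁ h₂, qMk_qS _ _ _ _ _, ?_⟩
  rw [qMk_qT]
  exact ((tri_congr G h₁ h₂ hα' rfl hβ').trans
    (tri_tri G _ _ _ _ _ (hL q₂) (hR q₂) hα hβ).symm).trans
    ((tri_congr G _ _ rfl ((qT_pt q₂).symm.trans hq.symm) rfl).trans (qT_pt q₁).symm)

/-- The equivalence relation on arrows: `r ∼ α r β`. -/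
def SubRel.arrGrpd : Grpd.GroupoidScheme S :=
  ofEquivRel G.R (qSc G io) G.pR (qS G io) (qT G io) q_cond (fun a b ht hs => h.q_ext a b ht hs)
    (q_exists_e h) (q_exists_i h) (q_exists_c h)

theorem SubRel.mono_arrGrpd_j : Mono h.arrGrpd.j :=
  mono_j_ofEquivRel _ _ _ _ _ _ _ _ _ _

include h in
theorem q_props : IsFinite ((qS G io)) ∧ Flat ((qS G io)) ∧
    LocallyOfFinitePresentation ((qS G io)) := by
  haveI := h.fin_s
  haveI := h.flat_s
  haveI := h.fp_s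
  haveI := h.fin_t
  haveI := h.flat_t
  haveI := h.fp_t
  unfold qS
  exact ⟨inferInstance, inferInstance, inferInstance⟩

include h in
theorem arrGrpd_covered [IsAffine G.U] [IsSeparated G.j] [LocallyQuasiFinite G.j]
    [LocallyOfFiniteType G.j] : Covered h.arrGrpd := by
  intro r
  haveI := (q_props h).1
  let m := pullback.mapDesc G.pU G.pU (terminal.from S)
  haveI : IsImmersion m := inferInstance
  obtain ⟨V, hV, hEV⟩ := exists_affineOpen_of_finite (G.j ≫ m)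
    (⇑((qT G io)) '' (⇑((qS G io)) ⁻¹' {r}))
    ((IsFinite.finite_preimage_singleton (qS G io) r).image _)
  exact ⟨V, hV, fun q hq => hEV ⟨q, hq, rfl⟩⟩

end

end GrothLib.GrpdQuot
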